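import Cfsg.Agent.Lib.JFourLocal.SevenV

/-!
# The list of local facts
-/

set_option autoImplicit false
set_option maxRecDepth 100000
set_option linter.style.haveILetI false
set_option linter.unusedSectionVars false

open Cfsg

namespace CfsgLib.JFourPrime

variable {G : Type*} [Group G]

/-- The centralizer of one element. -/
abbrev cent (x : G) : Subgroup G := Subgroup.centralizer ({x} : Set G)

theorem mem_cent {x y : G} : y ∈ cent x ↔ y * x = x * y := Subgroup.mem_centralizer_singleton_iff

theorem cent_conj (c x : G) : cent (c * x * c⁻¹) = (cent x).map (MulAut.conj c).toMonoidHom := by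
  ext y
  rw [Subgroup.mem_map_equiv, MulAut.conj_symm_apply, mem_cent, mem_cent]
  constructor
  · intro h
    calc c⁻¹ * y * c * x = c⁻¹ * (y * (c * x * c⁻¹)) * c := by group
      _ = _ := by rw [h]; group
  · intro h
    calc y * (c * x * c⁻¹) = c * (c⁻¹ * y * c * x) * c⁻¹ := by group
      _ = _ := by rw [h]; group

theorem card_cent_conj (c x : G) : Nat.card (cent (c * x * c⁻¹)) = Nat.card (cent x) := by
  rw [cent_conj]
  exact Subgroup.card_map_of_injective (MulAut.conj c).injective

theorem card_cent_of_isConj {x y : G} (h : IsConj x y) : Nat.card (cent y) = Nat.card (cent x) := by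
  obtain ⟨c, rfl⟩ := isConj_iff.1 h
  exact card_cent_conj c x

/-- If `p ^ 2` does not divide the order, every element of order `p` has a conjugate in a subgroup of
order divisible by `p`. -/
theorem exists_conj_mem [Finite G] {p : ℕ} (hp : p.Prime) (hG : ¬ p ^ 2 ∣ Nat.card G) {H : Subgroup G}
    (hH : p ∣ Nat.card H) {x : G} (hx : orderOf x = p) : ∃ c : G, c * x * c⁻¹ ∈ H := by
  haveI := Fact.mk hp
  obtain ⟨y, hy⟩ := exists_prime_orderOf_dvd_card' (G := ↥H) p hH
  have hyG : orderOf (y : G) = p := by rw [Subgroup.orderOf_coe, hy]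
  have hdvd : p ∣ Nat.card G := hyG ▸ orderOf_dvd_natCard _
  have hfac : (Nat.card G).factorization p = 1 := by
    refine le_antisymm ?_ ((hp.dvd_iff_one_le_factorization Nat.card_pos.ne').1 hdvd)
    by_contra h
    exact hG ((hp.pow_dvd_iff_le_factorization Nat.card_pos.ne').2 (by omega))
  let S1 : Sylow p G := Sylow.ofCard (Subgroup.zpowers x) (by rw [Nat.card_zpowers, hx, hfac, pow_one])
  let S2 : Sylow p G := Sylow.ofCard (Subgroup.zpowers (y : G)) (by rw [Nat.card_zpowers, hyG, hfac, pow_one])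
  obtain ⟨c, hc⟩ := MulAction.exists_smul_eq G S1 S2
  refine ⟨c, ?_⟩
  have h1 : (S2 : Subgroup G) = (Subgroup.zpowers x).map (MulAut.conj c).toMonoidHom := by
    rw [← hc, Sylow.coe_subgroup_smul]; rfl
  have h2 : c * x * c⁻¹ ∈ Subgroup.zpowers (y : G) := h1.ge ⟨x, Subgroup.mem_zpowers x, rfl⟩
  exact (Subgroup.zpowers_le.2 y.2) h2

/-- The local facts: the classes of involutions and of elements of order three, the orders of the
centralizers, and the two quotients on the group on 22 points. -/
structure Loc (z π t : G) (E : Subgroup G) : Prop where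
  card : Nat.card G = 86775571046077562880
  oz : orderOf z = 2
  ot : orderOf t = 2
  invol : ∀ x : G, orderOf x = 2 → IsConj x z ∨ IsConj x t
  hzt : ¬ IsConj z t
  cz : Nat.card (cent z) = 21799895040
  ct : Nat.card (cent t) = 1816657920
  opi : orderOf π = 3
  three : ∀ s : G, orderOf s = 3 → IsConj π s
  piz : π * z = z * π
  cpi : cent π ≤ cent z
  card_cpi : Nat.card (cent π) = 2661120
  pi_small : ∀ x : G, x ∈ cent π → orderOf x = 11 → Nat.card ↥(cent π ⊓ cent x) ∣ 66
  five : ∀ s : G, orderOf s = 5 → Nat.card (cent s) = 6720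
  seven : ∀ s : G, orderOf s = 7 → Nat.card (cent s) = 840
  setting : Extraspecial.Setting E z
  cardE : Nat.card E = 2 ^ 13
  fpf : ∀ e ∈ E, e * π = π * e → e = 1 ∨ e = z
  two_eleven_z : ∀ x y : G, x ∈ cent z → y ∈ cent z → orderOf x = 11 → x * y = y * x →
    (∃ k, y ^ 2 ^ k = 1) → y ∈ E
  two_eleven_t : ∃ V : Subgroup G, (∀ v ∈ V, v * v = 1) ∧ Nat.card V = 2 ^ 11 ∧ V ≤ cent t ∧
    (∃ v ∈ V, IsConj z v) ∧ (∀ c ∈ cent t, ∀ v ∈ V, c * v * c⁻¹ ∈ V) ∧
    ∀ x y : G, x ∈ cent t → y ∈ cent t → orderOf x = 11 → x * y = y * x → (∃ k, y ^ 2 ^ k = 1) → y ∈ V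

/-- The image of an element of order eleven outside a kernel. -/
theorem orderOf_map_eleven {A B : Type*} [Group A] [Group B] (f : A →* B) {x : A} (hx : orderOf x = 11)
    (hne : f x ≠ 1) : orderOf (f x) = 11 := by
  haveI := Fact.mk (show Nat.Prime 11 by norm_num)
  exact orderOf_eq_prime (by rw [← map_pow, ← hx, pow_orderOf_eq_one, map_one]) hne

end CfsgLib.JFourPrime
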