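import Cfsg.Agent.Lib.JFourPrime.M22Eleven
import Cfsg.Agent.Lib.JFourPrime.Defs
import Cfsg.Agent.Lib.JFourOrder.Order
import Cfsg.Agent.Lib.JFour.Three
import Cfsg.Agent.Lib.JFour.SecondCent
import Cfsg.Agent.Lib.JFourLocal.FiveSetup
import Cfsg.Agent.Lib.JFourLocal.SevenSetup

/-!
# The local facts used for the large primes
-/

set_option autoImplicit false
set_option maxRecDepth 100000
set_option linter.style.haveILetI false
set_option linter.unusedSectionVars false

open Cfsg

namespace CfsgLib.JFourPrime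

variable {G : Type*} [Group G]

variable [Finite G]

/-- Centralizers of elements of order eleven in the cover of the group on 22 points. -/
theorem card_CZ_inf_cent {M : Type*} [Group M] [Finite M] {z π : G} {E : Subgroup G}
    (J : CfsgLib.JFour.Ctx M z π E) (F : CfsgLib.JFour.Small M)
    (h5 : ∀ s : G, orderOf s = 5 → Nat.card (cent s) = 6720) (h7 : ∀ s : G, orderOf s = 7 → Nat.card (cent s) = 840)
    {x : G} (hx : x ∈ CfsgLib.JFour.CZ z π) (hx11 : orderOf x = 11) :
    Nat.card ↥(CfsgLib.JFour.CZ z π ⊓ cent x) ∣ 66 := by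
  classical
  haveI := Fact.mk (show Nat.Prime 11 by norm_num)
  set K := CfsgLib.JFour.CZ z π ⊓ cent x with hK
  let f : ↥K →* M := J.proj.comp (Subgroup.inclusion inf_le_left)
  have hk6 : Nat.card J.proj.ker = 6 := by
    have h := J.proj.ker.card_mul_index
    rw [Subgroup.index_ker, MonoidHom.range_eq_top.2 J.proj_surj, Subgroup.card_top, J.card_CZ F.card, F.card] at h
    omega
  have hker : Nat.card f.ker ∣ 6 := by
    rw [← hk6]
    have h1 : f.ker.map (Subgroup.inclusion inf_le_left) ≤ J.proj.ker := by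
      rintro _ ⟨k, hk, rfl⟩
      exact hk
    have h2 := Subgroup.card_dvd_of_le h1
    rwa [Subgroup.card_map_of_injective (Subgroup.inclusion_injective _)] at h2
  have hxb : J.proj ⟨x, hx⟩ ≠ 1 := fun h => by
    have h2 := Subgroup.orderOf_dvd_natCard J.proj.ker h
    rw [Subgroup.orderOf_mk, hx11, hk6] at h2
    norm_num at h2
  have hxb11 : orderOf (J.proj ⟨x, hx⟩) = 11 := orderOf_map_eleven J.proj (by rw [Subgroup.orderOf_mk, hx11]) hxb
  have hrange : Nat.card f.range ∣ 11 := by
    have h1 : Nat.card f.range ∣ 443520 := F.card ▸ f.range.card_subgroup_dvd_card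
    have hq : ∀ q, q.Prime → q ∣ Nat.card f.range → q = 11 := by
      intro q hq hqd
      haveI := Fact.mk hq
      obtain ⟨y, hy⟩ := exists_prime_orderOf_dvd_card' (G := ↥f.range) q hqd
      rw [← Subgroup.orderOf_coe] at hy
      obtain ⟨k, hk⟩ := y.2
      have hcy : J.proj ⟨x, hx⟩ ∈ Subgroup.centralizer ({(y : M)} : Set M) := by
        rw [Subgroup.mem_centralizer_singleton_iff, ← hk]
        show J.proj ⟨x, hx⟩ * J.proj _ = J.proj _ * J.proj ⟨x, hx⟩
        rw [← map_mul, ← map_mul]
        exact congrArg J.proj (Subtype.ext (mem_cent.1 k.2.2).symm)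
      have h11 := Subgroup.orderOf_dvd_natCard _ hcy
      rw [hxb11] at h11
      have hqle : q ∣ 443520 := hqd.trans h1
      by_contra hne
      have hqc : q = 2 ∨ q = 3 ∨ q = 5 ∨ q = 7 := by
        rw [show (443520 : ℕ) = 2 ^ 7 * 3 ^ 2 * 5 * 7 * 11 by norm_num] at hqle
        rcases hq.dvd_mul.1 hqle with h | h
        · rcases hq.dvd_mul.1 h with h | h
          · rcases hq.dvd_mul.1 h with h | h
            · rcases hq.dvd_mul.1 h with h | h
              · exact Or.inl ((Nat.prime_dvd_prime_iff_eq hq Nat.prime_two).1 (hq.dvd_of_dvd_pow h))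
              · exact Or.inr (Or.inl ((Nat.prime_dvd_prime_iff_eq hq Nat.prime_three).1 (hq.dvd_of_dvd_pow h)))
            · exact Or.inr (Or.inr (Or.inl ((Nat.prime_dvd_prime_iff_eq hq (by norm_num)).1 h)))
          · exact Or.inr (Or.inr (Or.inr ((Nat.prime_dvd_prime_iff_eq hq (by norm_num)).1 h)))
        · exact absurd ((Nat.prime_dvd_prime_iff_eq hq (by norm_num)).1 h) hne
      rcases hqc with rfl | rfl | hq57
      · rw [F.card_invol _ hy] at h11; norm_num at h11
      · rw [F.card_three _ hy] at h11; norm_num at h11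
      have hd : q ∣ orderOf k := hy ▸ (hk ▸ orderOf_map_dvd f k)
      obtain ⟨u, hu⟩ : ∃ u : ↥K, orderOf u = q := ⟨k ^ (orderOf k / q),
        orderOf_pow_orderOf_div (orderOf_pos k).ne' hd⟩
      have hux : x ∈ cent (u : G) := mem_cent.2 (mem_cent.1 u.2.2).symm
      have h2 := Subgroup.orderOf_dvd_natCard _ hux
      rw [← Subgroup.orderOf_coe] at hu
      rw [hx11] at h2
      rcases hq57 with rfl | rfl
      · rw [h5 _ hu] at h2; norm_num at h2
      · rw [h7 _ hu] at h2; norm_num at h2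
    have hco : Nat.Coprime (Nat.card f.range) 40320 := by
      refine Nat.coprime_of_dvd fun r hr h2 h3 => ?_
      rw [hq r hr h2] at h3
      norm_num at h3
    exact hco.dvd_of_dvd_mul_right (h1.trans (dvd_of_eq (by norm_num)))
  have h := f.ker.card_mul_index
  rw [Subgroup.index_ker] at h
  rw [← h]
  exact Nat.mul_dvd_mul hker hrange

/-- The facts hold in a simple group of Janko-four type. -/
theorem exists_loc [IsSimpleGroup G] (hG : ¬ IsMulCommutative G) (hJ : IsOfJankoFourType G) :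
    ∃ (z π t : G) (E : Subgroup G), Loc z π t E := by
  classical
  haveI := Fact.mk Nat.prime_two
  obtain ⟨z, P, hP⟩ := hJ
  have hJz : IsOfJankoFourTypeAt z := ⟨P, hP⟩
  obtain ⟨hcard, t, oz, ot, hzt, hcl⟩ := CfsgLib.JFourOrder.order_of_type hG hJz
  obtain ⟨π, hPπ, J, g, vec, S⟩ := CfsgLib.JFour.exists_full hG hP
  have F := S.T.gens.small
  obtain ⟨Vd, hVd⟩ := S.exists_isV
  have D : J.Std g vec Vd := ⟨S, hVd, CfsgLib.JFour.unique11_of_type (G := G) ⟨z, P, hP⟩⟩
  have hcz : Nat.card (cent z) = 21799895040 := (CfsgLib.JFourOrder.card_cent_z D).trans (by norm_num)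
  obtain ⟨V, K, hVC, hKC, hnor, hVel, hVc, hKV, hKs, ⟨eK⟩⟩ := CfsgLib.JFour.second_cent hG hJz ot hzt
  have hVsq : ∀ v ∈ V, v * v = 1 := fun v hv => by
    have h := hVel.2 v hv
    rwa [pow_two] at h
  set C := cent t with hC
  haveI hVn : (V.subgroupOf C).Normal := ⟨fun v hv c =>
    (Subgroup.mem_normalizer_iff.1 (hnor c.2) _).1 (Subgroup.mem_subgroupOf.1 hv)⟩
  have hcompl : (V.subgroupOf C).IsComplement' (K.subgroupOf C) := by
    refine Subgroup.isComplement'_of_disjoint_and_mul_eq_univ ?_ ?_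
    · rw [disjoint_iff, eq_bot_iff]
      intro x hx
      obtain ⟨h1, h2⟩ := Subgroup.mem_inf.1 hx
      have h3 : (x : G) ∈ K ⊓ V := ⟨h2, h1⟩
      rw [hKV, Subgroup.mem_bot] at h3
      exact Subtype.ext h3
    · rw [← Subgroup.normal_mul, ← Subgroup.subgroupOf_sup hVC hKC, sup_comm, hKs, Subgroup.subgroupOf_self,
        Subgroup.coe_top]
  let φ : ↥C →* MulAut ↥Cfsg.Spor.M22 := ((Subgroup.subgroupOfEquivOfLe hKC).trans eK).toMonoidHom.comp
    ((hcompl.symm.QuotientMulEquiv).toMonoidHom.comp (QuotientGroup.mk' (V.subgroupOf C)))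
  have hφ : ∀ c : ↥C, φ c = 1 ↔ (c : G) ∈ V := fun c => by
    simp only [φ, MonoidHom.coe_comp, Function.comp_apply, MulEquiv.coe_toMonoidHom, MulEquiv.map_eq_one_iff,
      QuotientGroup.mk'_apply, QuotientGroup.eq_one_iff, Subgroup.mem_subgroupOf]
  have h5 : ∀ s : G, orderOf s = 5 → Nat.card (cent s) = 6720 := fun s hs => by
    obtain ⟨c, hc⟩ := exists_conj_mem (p := 5) (by norm_num) (by rw [hcard]; norm_num) (H := cent z)
      (by rw [hcz]; norm_num) hs
    have hcs : orderOf (c * s * c⁻¹) = 5 := ((MulAut.conj c).orderOf_eq s).trans hs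
    obtain ⟨f, A, L⟩ := CfsgLib.JFourLocal.exists_fiveLoc_at hG hJz hcs (mem_cent.1 hc)
    rw [← card_cent_conj c s]
    exact L.card
  have h7 : ∀ s : G, orderOf s = 7 → Nat.card (cent s) = 840 := fun s hs => by
    obtain ⟨c, hc⟩ := exists_conj_mem (p := 7) (by norm_num) (by rw [hcard]; norm_num) (H := cent z)
      (by rw [hcz]; norm_num) hs
    have hcs : orderOf (c * s * c⁻¹) = 7 := ((MulAut.conj c).orderOf_eq s).trans hs
    obtain ⟨π', s', u, x, T, hmem, -, -⟩ := CfsgLib.JFourLocal.exists_seven hG hJz hcs (mem_cent.1 hc)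
    have h2 : Subgroup.zpowers (c * s * c⁻¹) = Subgroup.zpowers s' := Subgroup.eq_of_le_of_card_ge
      (Subgroup.zpowers_le.2 hmem) (by rw [Nat.card_zpowers, Nat.card_zpowers, hcs, T.s7])
    have h3 : cent (c * s * c⁻¹) = cent s' := by
      unfold cent
      rw [← Subgroup.centralizer_closure, ← Subgroup.zpowers_eq_closure, h2, Subgroup.zpowers_eq_closure,
        Subgroup.centralizer_closure]
    rw [← card_cent_conj c s, h3]
    exact T.card_cent
  refine ⟨z, π, t, twoCoreOfCentralizer z, ?_⟩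
  obtain ⟨-, -, hEcard, -, ⟨N, hEN, hNH, hnN, hNcard, ⟨hnor', ⟨eN⟩⟩, -⟩, -⟩ := hP
  set H := cent z with hH
  set E := twoCoreOfCentralizer z with hE
  have hcpi : cent π = CfsgLib.JFour.CZ z π := S.hC
  refine
    { card := hcard
      oz := oz
      ot := ot
      invol := hcl
      hzt := hzt
      cz := hcz
      ct := ?_
      opi := J.orderOf_pi
      three := fun s hs => ?_
      piz := J.piz
      cpi := hcpi.le.trans inf_le_left
      card_cpi := by rw [hcpi, J.card_CZ F.card]
      pi_small := ?_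
      five := h5
      seven := h7
      setting := J.s
      cardE := J.cardE
      fpf := J.fpf
      two_eleven_z := ?_
      two_eleven_t := ?_ }
  · have h := (V.subgroupOf C).card_mul_index
    rw [Subgroup.index_eq_card, Nat.card_congr (Subgroup.subgroupOfEquivOfLe hVC).toEquiv, hVc,
      Nat.card_congr (hcompl.symm.QuotientMulEquiv).toEquiv,
      Nat.card_congr ((Subgroup.subgroupOfEquivOfLe hKC).trans eK).toEquiv] at h
    obtain ⟨e⟩ := CfsgLib.JFour.pairStab_base
    have hM : Nat.card (MulAut ↥Cfsg.Spor.M22) = 887040 := by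
      have hconj : Function.Injective (MulAut.conj : ↥Cfsg.Spor.M22 →* MulAut ↥Cfsg.Spor.M22) := by
        rw [injective_iff_map_eq_one]
        intro m hm
        refine CfsgLib.JFour.M22Cert.small.center_eq_one fun x => ?_
        have h' := DFunLike.congr_fun hm x
        rw [MulAut.conj_apply, MulAut.one_apply, mul_inv_eq_iff_eq_mul] at h'
        exact h'.symm
      have hidx : (MulAut.conj : ↥Cfsg.Spor.M22 →* MulAut ↥Cfsg.Spor.M22).range.index = 2 := by
        rw [Subgroup.index_eq_card]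
        exact Cfsg.Agent.S2062.result
      have h1 := (MulAut.conj : ↥Cfsg.Spor.M22 →* MulAut ↥Cfsg.Spor.M22).range.card_mul_index
      rw [hidx, ← Nat.card_congr (MonoidHom.ofInjective hconj).toEquiv, CfsgLib.JFour.M22Cert.small.card] at h1
      omega
    rw [hM] at h
    exact h.symm.trans (by norm_num)
  · exact CfsgLib.JFour.one_class_three hG ⟨z, hJz⟩ π s J.orderOf_pi hs
  · intro x hx hx11
    rw [hcpi] at hx ⊢
    exact card_CZ_inf_cent J F h5 h7 hx hx11
  · intro x y hx hy hx11 hxy hk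
    have hnot : x ∉ N := fun h => by
      have h2 := Subgroup.orderOf_dvd_natCard N h
      rw [hx11, hNcard, hEcard] at h2
      norm_num at h2
    haveI := hnor'
    let ψ : ↥H →* MulAut ↥Cfsg.Spor.M22 := eN.toMonoidHom.comp (QuotientGroup.mk' (N.subgroupOf H))
    have hψ : ∀ c : ↥H, ψ c = 1 ↔ (c : G) ∈ N := fun c => by
      simp only [ψ, MonoidHom.coe_comp, Function.comp_apply, MulEquiv.coe_toMonoidHom, MulEquiv.map_eq_one_iff,
        QuotientGroup.mk'_apply, QuotientGroup.eq_one_iff, Subgroup.mem_subgroupOf]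
    obtain ⟨k, hk⟩ := hk
    have hyN : y ∈ N := (hψ ⟨y, hy⟩).1 (aut22_two_part (k := k)
      (by rw [← map_pow]; exact (congrArg ψ (Subtype.ext (by simpa using hk))).trans (map_one ψ))
      (orderOf_map_eleven ψ (x := ⟨x, hx⟩) (by rw [Subgroup.orderOf_mk, hx11]) (fun e => hnot ((hψ _).1 e)))
      (by rw [← map_mul, ← map_mul]; exact congrArg ψ (Subtype.ext hxy)))
    haveI : (E.subgroupOf N).Normal := ⟨fun e he n =>
      (Subgroup.mem_normalizer_iff.1 (J.s.cz (hNH n.2)) _).1 (Subgroup.mem_subgroupOf.1 he)⟩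
    have hidx : (E.subgroupOf N).index = 3 := by
      have h := (E.subgroupOf N).card_mul_index
      rw [Nat.card_congr (Subgroup.subgroupOfEquivOfLe hEN).toEquiv, hNcard] at h
      exact Nat.eq_of_mul_eq_mul_left Nat.card_pos (h.trans (mul_comm _ _))
    have h3 := (E.subgroupOf N).pow_index_mem (⟨y, hyN⟩ : ↥N)
    rw [hidx, Subgroup.mem_subgroupOf] at h3
    have hco : Nat.Coprime 3 (orderOf y) :=
      Nat.Coprime.of_dvd_right (orderOf_dvd_of_pow_eq_one hk) (Nat.Coprime.pow_right _ (by norm_num))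
    obtain ⟨m, hm⟩ := exists_pow_eq_self_of_coprime hco
    rw [← hm]
    exact pow_mem h3 m
  · obtain ⟨z', t', hz', -, -, hzz', -⟩ := CfsgLib.JFour.eleven_orbits hG hJz hVel hVc
    refine ⟨V, hVsq, hVc, hVC, ⟨z', hz', hzz'⟩, fun c hc v hv =>
      (Subgroup.mem_normalizer_iff.1 (hnor hc) v).1 hv, fun x y hx hy hx11 hxy hk => ?_⟩
    have hnot : x ∉ V := fun h => by
      have h2 := Subgroup.orderOf_dvd_natCard V h
      rw [hx11, hVc] at h2
      norm_num at h2
    obtain ⟨k, hk⟩ := hk
    exact (hφ ⟨y, hy⟩).1 (aut22_two_part (k := k)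
      (by rw [← map_pow]; exact (congrArg φ (Subtype.ext (by simpa using hk))).trans (map_one φ))
      (orderOf_map_eleven φ (x := ⟨x, hx⟩) (by rw [Subgroup.orderOf_mk, hx11]) (fun e => hnot ((hφ _).1 e)))
      (by rw [← map_mul, ← map_mul]; exact congrArg φ (Subtype.ext hxy)))

end CfsgLib.JFourPrime
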