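import Cfsg.Agent.Lib.JFourPrime.NoEleven
import Cfsg.Agent.Lib.JFourPrime.Setup
import Cfsg.Agent.Lib.JFourLocal.TenSetup

/-!
# The normalizers of the Sylow subgroups of large prime order
-/

set_option autoImplicit false
set_option maxRecDepth 100000
set_option linter.style.haveILetI false
set_option linter.unusedSectionVars false

open Cfsg

namespace CfsgLib.JFourPrime

variable {G : Type*} [Group G] [Finite G] {z π t : G} {E : Subgroup G}

/-- The normalizer of the group generated by one element. -/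
abbrev norm (y : G) : Subgroup G := Subgroup.normalizer ((Subgroup.zpowers y : Subgroup G) : Set G)

/-- A divisor of a product of four primes. -/
theorem dvd_four {c a b d e : ℕ} (ha : a.Prime) (hb : b.Prime) (hd : d.Prime) (he : e.Prime)
    (h : c ∣ a * (b * (d * e))) :
    ∃ i j k l, (i = 1 ∨ i = a) ∧ (j = 1 ∨ j = b) ∧ (k = 1 ∨ k = d) ∧ (l = 1 ∨ l = e) ∧ c = i * (j * (k * l)) := by
  obtain ⟨i, c1, hi, hc1, rfl⟩ := Nat.dvd_mul.1 h
  obtain ⟨j, c2, hj, hc2, rfl⟩ := Nat.dvd_mul.1 hc1
  obtain ⟨k, l, hk, hl, rfl⟩ := Nat.dvd_mul.1 hc2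
  exact ⟨i, j, k, l, (Nat.dvd_prime ha).1 hi, (Nat.dvd_prime hb).1 hj, (Nat.dvd_prime hd).1 hk,
    (Nat.dvd_prime he).1 hl, rfl⟩

/-- The possible cofactors. -/
def cands (p : ℕ) : List ℕ := (big.erase p).sublists.map List.prod

/-- The possibilities allowed by the congruence. -/
def options (p : ℕ) : List (ℕ × ℕ) :=
  (cands p).flatMap fun c => ((List.range p).filter fun e => decide (0 < e ∧ (p - 1) % e = 0 ∧
    86775571046077562880 % (p * c * e) = 0 ∧ 86775571046077562880 / (p * c * e) % p = 1)).map fun e => (c, e)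

namespace Loc

variable (L : Loc z π t E)
include L

/-- The order and the normalizer of an element of large prime order. -/
theorem local_data {x : G} {O : Subgroup G} (B : Base z π t E x O) {p : ℕ} (hp : p ∈ big) {y : G}
    (hy : orderOf y = p) :
    ∃ c e, (c, e) ∈ options p ∧ Nat.card ↥(cent y) = p * c ∧ Nat.card ↥(norm y) = p * c * e := by
  classical
  have hpp := big_prime hp
  haveI := Fact.mk hpp
  have hyy : y ∈ cent y := mem_cent.2 rfl
  -- prime divisors of the centralizer
  have hno : ∀ q, q.Prime → q ∈ [2, 3, 5, 7, 11] → ¬ q ∣ Nat.card ↥(cent y) := by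
    intro q hq hq5 hd
    haveI := Fact.mk hq
    obtain ⟨w, hw⟩ := exists_prime_orderOf_dvd_card' (G := ↥(cent y)) q hd
    rw [← Subgroup.orderOf_coe] at hw
    have hyw : y ∈ cent (w : G) := mem_cent.2 (mem_cent.1 w.2).symm
    have hdw := hy ▸ Subgroup.orderOf_dvd_natCard _ hyw
    simp only [big, List.mem_cons, List.not_mem_nil, or_false] at hp hq5
    rcases hq5 with rfl | rfl | rfl | rfl | rfl
    · rcases L.invol _ hw with h | h
      · rw [← card_cent_of_isConj h, L.cz] at hdw
        rcases hp with rfl | rfl | rfl | rfl | rfl <;> norm_num at hdw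
      · rw [← card_cent_of_isConj h, L.ct] at hdw
        rcases hp with rfl | rfl | rfl | rfl | rfl <;> norm_num at hdw
    · rw [card_cent_of_isConj (L.three _ hw), L.card_cpi] at hdw
      rcases hp with rfl | rfl | rfl | rfl | rfl <;> norm_num at hdw
    · rw [L.five _ hw] at hdw
      rcases hp with rfl | rfl | rfl | rfl | rfl <;> norm_num at hdw
    · rw [L.seven _ hw] at hdw
      rcases hp with rfl | rfl | rfl | rfl | rfl <;> norm_num at hdw
    · exact B.no_eleven (p := p) (by simp [big, hp]) hy hw hyw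
  have hdvd : Nat.card ↥(cent y) ∣ 23 * 29 * 31 * 37 * 43 := by
    have h : Nat.card ↥(cent y) ∣ (2 ^ 21 * 3 ^ 3 * 5 * 7 * 11 ^ 3) * (23 * 29 * 31 * 37 * 43) := by
      rw [show ((2 ^ 21 * 3 ^ 3 * 5 * 7 * 11 ^ 3) * (23 * 29 * 31 * 37 * 43) : ℕ) = Nat.card G by
        rw [L.card]; norm_num]
      exact (cent y).card_subgroup_dvd_card
    have hc : ∀ q, q.Prime → q ∈ [2, 3, 5, 7, 11] → Nat.Coprime (Nat.card ↥(cent y)) q := fun q hq h =>
      Nat.coprime_comm.1 (hq.coprime_iff_not_dvd.2 (hno q hq h))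
    refine Nat.Coprime.dvd_of_dvd_mul_left ?_ h
    exact ((((hc 2 (by norm_num) (by simp)).pow_right 21).mul_right ((hc 3 (by norm_num) (by simp)).pow_right 3)).mul_right
      (hc 5 (by norm_num) (by simp))).mul_right (hc 7 (by norm_num) (by simp)) |>.mul_right
      ((hc 11 (by norm_num) (by simp)).pow_right 3)
  obtain ⟨c, hc⟩ : p ∣ Nat.card ↥(cent y) := hy ▸ Subgroup.orderOf_dvd_natCard _ hyy
  have hcand : c ∈ cands p := by
    rw [hc] at hdvd
    simp only [big, List.mem_cons, List.not_mem_nil, or_false] at hp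
    rcases hp with rfl | rfl | rfl | rfl | rfl
    · obtain ⟨i, j, k, l, hi, hj, hk, hl, rfl⟩ := dvd_four (a := 29) (b := 31) (d := 37) (e := 43) (by norm_num)
        (by norm_num) (by norm_num) (by norm_num) (Nat.dvd_of_mul_dvd_mul_left (by norm_num)
          (hdvd.trans (dvd_of_eq (by norm_num : _ = 23 * (29 * (31 * (37 * 43)))))))
      rcases hi with rfl | rfl <;> rcases hj with rfl | rfl <;> rcases hk with rfl | rfl <;>
        rcases hl with rfl | rfl <;> decide +kernel
    · obtain ⟨i, j, k, l, hi, hj, hk, hl, rfl⟩ := dvd_four (a := 23) (b := 31) (d := 37) (e := 43) (by norm_num)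
        (by norm_num) (by norm_num) (by norm_num) (Nat.dvd_of_mul_dvd_mul_left (by norm_num)
          (hdvd.trans (dvd_of_eq (by norm_num : _ = 29 * (23 * (31 * (37 * 43)))))))
      rcases hi with rfl | rfl <;> rcases hj with rfl | rfl <;> rcases hk with rfl | rfl <;>
        rcases hl with rfl | rfl <;> decide +kernel
    · obtain ⟨i, j, k, l, hi, hj, hk, hl, rfl⟩ := dvd_four (a := 23) (b := 29) (d := 37) (e := 43) (by norm_num)
        (by norm_num) (by norm_num) (by norm_num) (Nat.dvd_of_mul_dvd_mul_left (by norm_num)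
          (hdvd.trans (dvd_of_eq (by norm_num : _ = 31 * (23 * (29 * (37 * 43)))))))
      rcases hi with rfl | rfl <;> rcases hj with rfl | rfl <;> rcases hk with rfl | rfl <;>
        rcases hl with rfl | rfl <;> decide +kernel
    · obtain ⟨i, j, k, l, hi, hj, hk, hl, rfl⟩ := dvd_four (a := 23) (b := 29) (d := 31) (e := 43) (by norm_num)
        (by norm_num) (by norm_num) (by norm_num) (Nat.dvd_of_mul_dvd_mul_left (by norm_num)
          (hdvd.trans (dvd_of_eq (by norm_num : _ = 37 * (23 * (29 * (31 * 43)))))))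
      rcases hi with rfl | rfl <;> rcases hj with rfl | rfl <;> rcases hk with rfl | rfl <;>
        rcases hl with rfl | rfl <;> decide +kernel
    · obtain ⟨i, j, k, l, hi, hj, hk, hl, rfl⟩ := dvd_four (a := 23) (b := 29) (d := 31) (e := 37) (by norm_num)
        (by norm_num) (by norm_num) (by norm_num) (Nat.dvd_of_mul_dvd_mul_left (by norm_num)
          (hdvd.trans (dvd_of_eq (by norm_num : _ = 43 * (23 * (29 * (31 * 37)))))))
      rcases hi with rfl | rfl <;> rcases hj with rfl | rfl <;> rcases hk with rfl | rfl <;>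
        rcases hl with rfl | rfl <;> decide +kernel
  -- the index of the centralizer in the normalizer
  set P0 := Subgroup.zpowers y with hP0
  let f := Subgroup.normalizerMonoidHom P0
  have hker : Nat.card f.ker = p * c := by
    have h1 : f.ker = (Subgroup.centralizer (P0 : Set G)).subgroupOf (Subgroup.normalizer (P0 : Set G)) :=
      Subgroup.normalizerMonoidHom_ker P0
    have h2 : Subgroup.centralizer (P0 : Set G) = cent y := by
      rw [hP0, Subgroup.zpowers_eq_closure, Subgroup.centralizer_closure]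
    rw [h1, h2, Nat.card_congr (Subgroup.subgroupOfEquivOfLe ?_).toEquiv, hc]
    rw [← h2]
    exact Subgroup.centralizer_le_normalizer _
  have hN := f.ker.card_mul_index
  rw [Subgroup.index_ker, hker] at hN
  set e := Nat.card f.range
  have he : e ∣ p - 1 := by
    haveI : IsCyclic ↥P0 := inferInstance
    have h1 : e ∣ Nat.card (MulAut ↥P0) := f.range.card_subgroup_dvd_card
    rwa [IsCyclic.card_mulAut, Nat.card_zpowers, hy, Nat.totient_prime hpp] at h1
  refine ⟨c, e, ?_, hc, hN.symm⟩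
  have he0 : 0 < e := Nat.card_pos
  have hep : e < p := lt_of_le_of_lt (Nat.le_of_dvd (by have := hpp.two_le; omega) he) (by have := hpp.two_le; omega)
  -- the number of Sylow subgroups
  have hfac : (Nat.card G).factorization p = 1 := by
    refine le_antisymm ?_ ((hpp.dvd_iff_one_le_factorization Nat.card_pos.ne').1 (hy ▸ orderOf_dvd_natCard y))
    by_contra hlt
    exact L.not_dvd_sq (p := p) (by
      simp only [big, List.mem_cons, List.not_mem_nil, or_false] at hp
      rcases hp with rfl | rfl | rfl | rfl | rfl <;> simp)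
      ((hpp.pow_dvd_iff_le_factorization Nat.card_pos.ne').2 (by omega))
  let S : Sylow p G := Sylow.ofCard P0 (by rw [Nat.card_zpowers, hy, hfac, pow_one])
  have hn := card_sylow_modEq_one p G
  rw [S.card_eq_index_normalizer] at hn
  have hmul : Nat.card ↥(Subgroup.normalizer (P0 : Set G)) * (Subgroup.normalizer ((S : Subgroup G) : Set G)).index =
      Nat.card G := (Subgroup.normalizer (P0 : Set G)).card_mul_index
  rw [← hN, L.card] at hmul
  set n := (Subgroup.normalizer ((S : Subgroup G) : Set G)).index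
  simp only [options, List.mem_flatMap, List.mem_map, List.mem_filter, List.mem_range, decide_eq_true_eq]
  refine ⟨c, hcand, e, ⟨hep, he0, Nat.mod_eq_zero_of_dvd he, ?_, ?_⟩, rfl⟩
  · exact Nat.mod_eq_zero_of_dvd ⟨n, hmul.symm⟩
  · rw [← hmul, Nat.mul_div_cancel_left _ (Nat.mul_pos (Nat.mul_pos hpp.pos (Nat.pos_of_mul_pos_left (hc ▸ Nat.card_pos))) he0)]
    have h1 : n % p = 1 % p := hn
    rwa [Nat.one_mod_eq_one.2 hpp.ne_one] at h1

end Loc

theorem options_23 : options 23 ⊆ [(1, 22), (46139, 22), (899, 11), (1333, 1)] := by decide +kernel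

theorem options_29 : options 29 ⊆ [(1, 28), (43, 2), (31, 14), (1333, 1)] := by decide +kernel

theorem options_31 : options 31 ⊆ [(1, 10), (43, 6), (1591, 1), (46139, 15), (1061197, 2)] := by decide +kernel

theorem options_37 : options 37 ⊆ [(1, 12), (43, 2), (1333, 12), (1247, 9), (667, 12), (28681, 2), (889111, 12)] := by
  decide +kernel

theorem options_43 : options 43 ⊆ [(1, 14), (31, 6), (1147, 42), (29, 42)] := by decide +kernel

/-- A Sylow 31-normalizer of a subgroup of the order of the linear group in dimension five. -/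
theorem five_dvd_norm {y : G} (hy : orderOf y = 31) {B : Subgroup G} (hB : Nat.card B = 9999360) (hyB : y ∈ B)
    (hup : Nat.card ↥(norm y) ∣ 31 * (30 * (23 * 29 * 37 * 43))) :
    5 ∣ Nat.card ↥(norm y) := by
  haveI := Fact.mk (show Nat.Prime 31 by norm_num)
  have hfac : (Nat.card ↥B).factorization 31 = 1 := by
    rw [hB, show (9999360 : ℕ) = 31 * 322560 by norm_num, Nat.factorization_mul (by norm_num) (by norm_num),
      Finsupp.add_apply, Nat.Prime.factorization_self (show Nat.Prime 31 by norm_num),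
      Nat.factorization_eq_zero_of_not_dvd (show ¬ 31 ∣ 322560 by norm_num)]
  let S : Sylow 31 ↥B := Sylow.ofCard (Subgroup.zpowers ⟨y, hyB⟩) (by
    rw [Nat.card_zpowers, Subgroup.orderOf_mk, hy, hfac, pow_one])
  have hn := card_sylow_modEq_one 31 ↥B
  rw [S.card_eq_index_normalizer] at hn
  set N := Subgroup.normalizer ((Subgroup.zpowers (⟨y, hyB⟩ : ↥B) : Subgroup ↥B) : Set ↥B) with hN
  change N.index % 31 = 1 % 31 at hn
  have hmul := N.card_mul_index
  rw [hB] at hmul
  have hle : N.map B.subtype ≤ norm y := by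
    rintro _ ⟨a, ha, rfl⟩
    refine Subgroup.mem_normalizer_iff.2 fun v => ?_
    have hm : (Subgroup.zpowers (⟨y, hyB⟩ : ↥B)).map B.subtype = Subgroup.zpowers y := by
      rw [MonoidHom.map_zpowers]; rfl
    rw [← hm]
    constructor
    · rintro ⟨w, hw, rfl⟩
      exact ⟨a * w * a⁻¹, (Subgroup.mem_normalizer_iff.1 ha w).1 hw, by simp⟩
    · rintro ⟨w, hw, hwe⟩
      refine ⟨a⁻¹ * w * a, (Subgroup.mem_normalizer_iff.1 ha _).2 (by
        rwa [show a * (a⁻¹ * w * a) * a⁻¹ = w by group]), ?_⟩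
      simp only [map_mul, map_inv, hwe]
      group
  have hd := Subgroup.card_dvd_of_le hle
  rw [Subgroup.card_map_of_injective B.subtype_injective] at hd
  refine dvd_trans ?_ hd
  have h31 : 31 ∣ Nat.card N := by
    have h := Subgroup.card_dvd_of_le (Subgroup.le_normalizer (H := Subgroup.zpowers (⟨y, hyB⟩ : ↥B)))
    rwa [Nat.card_zpowers, Subgroup.orderOf_mk, hy] at h
  obtain ⟨m, hm⟩ := h31
  have hmn : m * N.index = 322560 := by
    rw [hm, mul_assoc] at hmul
    omega
  have hm30 : m ∣ 30 := by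
    have h1 : m ∣ Nat.gcd 322560 (30 * (23 * 29 * 37 * 43)) := by
      refine Nat.dvd_gcd ⟨N.index, hmn.symm⟩ ?_
      rw [hm] at hd
      exact Nat.dvd_of_mul_dvd_mul_left (by norm_num) (hd.trans hup)
    exact h1.trans (dvd_of_eq (by norm_num))
  have hkey : ∀ d ∈ Nat.divisors 30, (322560 / d) % 31 = 1 → 5 ∣ d := by decide +kernel
  have hidx : N.index = 322560 / m := by
    rw [← hmn, Nat.mul_div_cancel_left _ (Nat.pos_of_dvd_of_pos hm30 (by norm_num))]
  rw [hm]
  exact Dvd.dvd.mul_left (hkey m (Nat.mem_divisors.2 ⟨hm30, by norm_num⟩) (by rw [← hidx]; exact hn)) 31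

/-- Two elements generating a self-centralizing group. -/
theorem norm_le {w y : G} {p : ℕ} (hp : p.Prime) (hy : orderOf y = p) (hsq : ¬ p ^ 2 ∣ Nat.card G)
    (hyw : y ∈ cent w) (heq : cent w ≤ cent y) : norm w ≤ norm y := by
  intro g hg
  have hy1 : y ∈ cent y := mem_cent.2 rfl
  have key : ∀ h ∈ norm w, h * y * h⁻¹ ∈ Subgroup.zpowers y := by
    intro h hh
    obtain ⟨k, hk⟩ := Subgroup.mem_zpowers_iff.1
      ((Subgroup.mem_normalizer_iff.1 (inv_mem hh) w).1 (Subgroup.mem_zpowers w))
    rw [inv_inv] at hk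
    have hc : h * y * h⁻¹ ∈ cent w := mem_cent.2 (by
      have h1 : Commute y (w ^ k) := (show Commute y w from mem_cent.1 hyw).zpow_right k
      rw [hk] at h1
      calc h * y * h⁻¹ * w = h * (y * (h⁻¹ * w * h)) * h⁻¹ := by group
        _ = h * ((h⁻¹ * w * h) * y) * h⁻¹ := by rw [h1.eq]
        _ = _ := by group)
    obtain ⟨c, hc'⟩ := exists_conj_mem (G := ↥(cent w)) hp
      (fun hd => hsq (hd.trans (cent w).card_subgroup_dvd_card))
      (H := Subgroup.zpowers (⟨y, hyw⟩ : ↥(cent w))) (by rw [Nat.card_zpowers, Subgroup.orderOf_mk, hy])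
      (x := ⟨_, hc⟩) (by rw [Subgroup.orderOf_mk, ← MulAut.conj_apply, MulEquiv.orderOf_eq, hy])
    obtain ⟨i, hi⟩ := Subgroup.mem_zpowers_iff.1 hc'
    have hi' : y ^ i = (c : G) * (h * y * h⁻¹) * (c : G)⁻¹ := by simpa using congrArg Subtype.val hi
    refine Subgroup.mem_zpowers_iff.2 ⟨i, ?_⟩
    have hcy : Commute (y ^ i) (c : G) := ((show Commute y (c : G) from (mem_cent.1 (heq c.2)).symm).zpow_left i)
    calc y ^ i = (c : G)⁻¹ * (y ^ i * c) := by rw [hcy.eq]; group
      _ = _ := by rw [hi']; group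
  have hmap : ∀ h ∈ norm w, ∀ v ∈ Subgroup.zpowers y, h * v * h⁻¹ ∈ Subgroup.zpowers y := by
    intro h hh v hv
    obtain ⟨i, rfl⟩ := Subgroup.mem_zpowers_iff.1 hv
    rw [← MulAut.conj_apply, map_zpow, MulAut.conj_apply]
    exact Subgroup.zpow_mem _ (key h hh) i
  refine Subgroup.mem_normalizer_iff.2 fun v => ⟨hmap g hg v, fun hv => ?_⟩
  have h := hmap g⁻¹ (inv_mem hg) _ hv
  rwa [show g⁻¹ * (g * v * g⁻¹) * g⁻¹⁻¹ = v by group] at h

/-- The normalizers of the cyclic groups of large prime order. -/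
theorem large_all [IsSimpleGroup G] (hG : ¬ IsMulCommutative G) (hJ : IsOfJankoFourType G) :
    ∀ pe ∈ [(23, 22), (29, 28), (31, 10), (37, 12), (43, 14)], ∀ y : G, orderOf y = pe.1 →
      Nat.card ↥(cent y) = pe.1 ∧ Nat.card ↥(norm y) = pe.1 * pe.2 := by
  classical
  obtain ⟨z, π, t, E, L⟩ := exists_loc hG hJ
  obtain ⟨x, O, B⟩ := L.exists_base
  have data := @Loc.local_data G _ _ z π t E L x O B
  -- a commuting element of prime order
  have pick : ∀ {p q c : ℕ} {y : G}, q.Prime → orderOf y = p → Nat.card ↥(cent y) = p * c → q ∣ c →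
      ∃ w : G, orderOf w = q ∧ w ∈ cent y ∧ y ∈ cent w := by
    intro p q c y hq hy hc hqc
    haveI := Fact.mk hq
    obtain ⟨w, hw⟩ := exists_prime_orderOf_dvd_card' (G := ↥(cent y)) q (hc ▸ Dvd.dvd.mul_left hqc p)
    exact ⟨w, by rw [Subgroup.orderOf_coe, hw], w.2, mem_cent.2 (mem_cent.1 w.2).symm⟩
  have dvdc : ∀ {p q c : ℕ} {y w : G}, p.Prime → q.Prime → p ≠ q → orderOf y = p → Nat.card ↥(cent w) = q * c →
      y ∈ cent w → p ∣ c := by
    intro p q c y w hp hq hne hy hc hyw
    have h := hy ▸ Subgroup.orderOf_dvd_natCard _ hyw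
    rw [hc] at h
    exact (hp.dvd_mul.1 h).resolve_left fun h' => hne ((Nat.prime_dvd_prime_iff_eq hp hq).1 h')
  -- the prime 31
  have h31 : ∀ y : G, orderOf y = 31 → Nat.card ↥(cent y) = 31 ∧ Nat.card ↥(norm y) = 31 * 10 := by
    intro y0 hy0
    obtain ⟨A, hA, hAc, hAs⟩ := CfsgLib.JFourLocal.exists_ten hG hJ.choose_spec
    obtain ⟨⟨K, hKN, -, -, ⟨eK⟩⟩, -, -⟩ := CfsgLib.JFourLocal.ten_structure hG hJ.choose_spec hA hAc hAs
    have hK : Nat.card K = 9999360 := (Nat.card_congr eK.toEquiv).trans CfsgLib.JFourLocal.card_SL_five_two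
    obtain ⟨d, hyK⟩ := exists_conj_mem (p := 31) (by norm_num) (L.not_dvd_sq (by simp)) (H := K)
      (by rw [hK]; norm_num) hy0
    set y := d * y0 * d⁻¹ with hyd
    have hy : orderOf y = 31 := ((MulAut.conj d).orderOf_eq y0).trans hy0
    obtain ⟨c, e, ho, hc, hN⟩ := data (p := 31) (by simp [big]) hy
    have ho' := options_31 ho
    simp only [List.mem_cons, List.not_mem_nil, or_false, Prod.mk.injEq] at ho'
    have h5 := five_dvd_norm hy hK hyK (by
      rw [hN]
      rcases ho' with ⟨rfl, rfl⟩ | ⟨rfl, rfl⟩ | ⟨rfl, rfl⟩ | ⟨rfl, rfl⟩ | ⟨rfl, rfl⟩ <;> norm_num)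
    rw [hN] at h5
    obtain ⟨c0, e0, ho0, hc0, hN0⟩ := data (p := 31) (by simp [big]) hy0
    have hsame : c0 = c ∧ e0 = e := by
      have h1 := card_cent_conj d y0
      rw [← hyd, hc, hc0] at h1
      have h2 : Nat.card ↥(norm y) = Nat.card ↥(norm y0) := by
        have e1 : norm y = (norm y0).map (MulAut.conj d).toMonoidHom := by
          rw [Subgroup.map_normalizer_eq_of_bijective _ (MulAut.conj d).bijective,
            MonoidHom.map_zpowers]
          rfl
        rw [e1, Subgroup.card_map_of_injective (MulAut.conj d).injective]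
      rw [hN, hN0] at h2
      have hcc : c0 = c := by omega
      subst hcc
      exact ⟨rfl, Nat.eq_of_mul_eq_mul_left (by have := hc0 ▸ (Nat.card_pos (α := ↥(cent y0))); omega) h2.symm⟩
    obtain ⟨rfl, rfl⟩ := hsame
    rcases ho' with ⟨rfl, rfl⟩ | ⟨rfl, rfl⟩ | ⟨rfl, rfl⟩ | ⟨rfl, rfl⟩ | ⟨rfl, rfl⟩
    · exact ⟨hc0, hN0⟩
    · norm_num at h5
    · norm_num at h5
    · exfalso
      haveI := Fact.mk (show Nat.Prime 29 by norm_num)
      obtain ⟨a, ha, hay, hya⟩ := pick (q := 29) (by norm_num) hy hc (by norm_num)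
      obtain ⟨w, hw, hwy, hyw⟩ := pick (q := 43) (by norm_num) hy hc (by norm_num)
      set X := cent y
      let Sa : Sylow 29 ↥X := Sylow.ofCard (Subgroup.zpowers ⟨a, hay⟩) (by
        rw [Nat.card_zpowers, Subgroup.orderOf_mk, ha, hc, show (31 * 46139 : ℕ) = 29 * 49321 by norm_num,
          Nat.factorization_mul (by norm_num) (by norm_num), Finsupp.add_apply,
          Nat.Prime.factorization_self (show Nat.Prime 29 by norm_num),
          Nat.factorization_eq_zero_of_not_dvd (show ¬ 29 ∣ 49321 by norm_num)]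
        norm_num)
      have hn := card_sylow_modEq_one 29 ↥X
      rw [Sa.card_eq_index_normalizer] at hn
      set Na := Subgroup.normalizer ((Subgroup.zpowers (⟨a, hay⟩ : ↥X) : Subgroup ↥X) : Set ↥X)
      change Na.index % 29 = 1 % 29 at hn
      have hmul := Na.card_mul_index
      obtain ⟨m, hm⟩ : 29 ∣ Nat.card Na := by
        have h := Subgroup.card_dvd_of_le (Subgroup.le_normalizer (H := Subgroup.zpowers (⟨a, hay⟩ : ↥X)))
        rwa [Nat.card_zpowers, Subgroup.orderOf_mk, ha] at h
      rw [hc, hm, mul_assoc] at hmul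
      have hmn : m * Na.index = 49321 := by omega
      have hkey : ∀ q ∈ Nat.divisors 49321, q % 29 = 1 → q = 1 := by decide +kernel
      have hi1 := hkey _ (Nat.mem_divisors.2 ⟨⟨m, by rw [mul_comm]; exact hmn.symm⟩, by norm_num⟩) hn
      have htop : Na = ⊤ := Subgroup.index_eq_one.1 hi1
      -- the element of order 43 acts trivially
      have hwa : ∀ v ∈ Subgroup.zpowers a, w * v * w⁻¹ ∈ Subgroup.zpowers a := by
        intro v hv
        have hm' : (Subgroup.zpowers (⟨a, hay⟩ : ↥X)).map X.subtype = Subgroup.zpowers a := by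
          rw [MonoidHom.map_zpowers]; rfl
        rw [← hm'] at hv ⊢
        obtain ⟨v', hv', rfl⟩ := hv
        exact ⟨_, (Subgroup.mem_normalizer_iff.1 (htop.ge (Subgroup.mem_top (⟨w, hwy⟩ : ↥X))) v').1 hv', rfl⟩
      have hfix := CfsgLib.JFourLocal.card_inf_modEq (U := Subgroup.zpowers a) (p := 43) (by norm_num) hwa hw
      rw [Nat.card_zpowers, ha] at hfix
      obtain hd | hd := (Nat.dvd_prime (show Nat.Prime 29 by norm_num)).1
        (show Nat.card ↥(Subgroup.zpowers a ⊓ cent w) ∣ 29 by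
          rw [← ha, ← Nat.card_zpowers]; exact Subgroup.card_dvd_of_le inf_le_left)
      · change 29 % 43 = Nat.card ↥(Subgroup.zpowers a ⊓ cent w) % 43 at hfix
        rw [hd] at hfix
        norm_num at hfix
      have haw : a ∈ cent w := ((Subgroup.eq_of_le_of_card_ge (inf_le_left (b := cent w))
        (by rw [hd, Nat.card_zpowers, ha])).ge (Subgroup.mem_zpowers a)).2
      obtain ⟨cw, ew, how, hcw, -⟩ := data (p := 43) (by simp [big]) hw
      have hcw' := options_43 how
      have h29 := dvdc (p := 29) (by norm_num) (by norm_num) (by norm_num) ha hcw haw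
      have h31 := dvdc (p := 31) (by norm_num) (by norm_num) (by norm_num) hy hcw hyw
      simp only [List.mem_cons, List.not_mem_nil, or_false, Prod.mk.injEq] at hcw'
      rcases hcw' with ⟨rfl, -⟩ | ⟨rfl, -⟩ | ⟨rfl, -⟩ | ⟨rfl, -⟩
      · norm_num at h31
      · norm_num at h29
      · norm_num at h29
      · norm_num at h31
    · norm_num at h5
  -- no large element commutes with one of order 31
  have n31 : ∀ {p c : ℕ} {y : G}, p.Prime → p ≠ 31 → orderOf y = p → Nat.card ↥(cent y) = p * c → ¬ 31 ∣ c := by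
    intro p c y hp hne hy hc hd
    obtain ⟨w, hw, -, hyw⟩ := pick (q := 31) (by norm_num) hy hc hd
    have h := dvdc (c := 1) hp (by norm_num) hne hy (by rw [mul_one]; exact (h31 w hw).1) hyw
    exact hp.ne_one (Nat.dvd_one.1 h)
  have h23 : ∀ y : G, orderOf y = 23 → Nat.card ↥(cent y) = 23 ∧ Nat.card ↥(norm y) = 23 * 22 := by
    intro y hy
    obtain ⟨c, e, ho, hc, hN⟩ := data (p := 23) (by simp [big]) hy
    have hn := n31 (by norm_num) (by norm_num) hy hc
    have ho' := options_23 ho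
    simp only [List.mem_cons, List.not_mem_nil, or_false, Prod.mk.injEq] at ho'
    rcases ho' with ⟨rfl, rfl⟩ | ⟨rfl, rfl⟩ | ⟨rfl, rfl⟩ | ⟨rfl, rfl⟩
    · exact ⟨hc, hN⟩
    · exfalso
      obtain ⟨w, hw, -, hyw⟩ := pick (q := 29) (by norm_num) hy hc (by norm_num)
      obtain ⟨cw, ew, how, hcw, -⟩ := data (p := 29) (by simp [big]) hw
      have hcw' := options_29 how
      have h := dvdc (p := 23) (by norm_num) (by norm_num) (by norm_num) hy hcw hyw
      simp only [List.mem_cons, List.not_mem_nil, or_false, Prod.mk.injEq] at hcw'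
      rcases hcw' with ⟨rfl, -⟩ | ⟨rfl, -⟩ | ⟨rfl, -⟩ | ⟨rfl, -⟩ <;> norm_num at h
    · exact absurd (by norm_num) hn
    · exact absurd (by norm_num) hn
  have h29 : ∀ y : G, orderOf y = 29 → Nat.card ↥(cent y) = 29 ∧ Nat.card ↥(norm y) = 29 * 28 := by
    intro y hy
    obtain ⟨c, e, ho, hc, hN⟩ := data (p := 29) (by simp [big]) hy
    have hn := n31 (by norm_num) (by norm_num) hy hc
    have ho' := options_29 ho
    simp only [List.mem_cons, List.not_mem_nil, or_false, Prod.mk.injEq] at ho'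
    rcases ho' with ⟨rfl, rfl⟩ | ⟨rfl, rfl⟩ | ⟨rfl, rfl⟩ | ⟨rfl, rfl⟩
    · exact ⟨hc, hN⟩
    · exfalso
      obtain ⟨w, hw, hwy, hyw⟩ := pick (q := 43) (by norm_num) hy hc (by norm_num)
      obtain ⟨cw, ew, how, hcw, hNw⟩ := data (p := 43) (by simp [big]) hw
      have hcw' := options_43 how
      have hnw := n31 (by norm_num) (by norm_num) hw hcw
      have h := dvdc (p := 29) (by norm_num) (by norm_num) (by norm_num) hy hcw hyw
      simp only [List.mem_cons, List.not_mem_nil, or_false, Prod.mk.injEq] at hcw'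
      rcases hcw' with ⟨rfl, rfl⟩ | ⟨rfl, rfl⟩ | ⟨rfl, rfl⟩ | ⟨rfl, rfl⟩
      · norm_num at h
      · exact hnw (by norm_num)
      · exact hnw (by norm_num)
      have hsup : Subgroup.zpowers y ⊔ Subgroup.zpowers w = cent w := by
        refine Subgroup.eq_of_le_of_card_ge
          (sup_le (Subgroup.zpowers_le.2 hyw) (Subgroup.zpowers_le.2 (mem_cent.2 rfl))) ?_
        refine Nat.le_of_dvd Nat.card_pos ?_
        rw [hcw]
        refine Nat.Coprime.mul_dvd_of_dvd_of_dvd (by norm_num) ?_ ?_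
        · rw [← hw, ← Nat.card_zpowers]; exact Subgroup.card_dvd_of_le le_sup_right
        · rw [← hy, ← Nat.card_zpowers]; exact Subgroup.card_dvd_of_le le_sup_left
      have hle := norm_le (show Nat.Prime 29 by norm_num) hy (L.not_dvd_sq (by simp)) hyw
        (hsup ▸ sup_le (Subgroup.zpowers_le.2 (mem_cent.2 rfl)) (Subgroup.zpowers_le.2 hwy))
      have hd := Subgroup.card_dvd_of_le hle
      rw [hN, hNw] at hd
      norm_num at hd
    · exact absurd (by norm_num) hn
    · exact absurd (by norm_num) hn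
  -- nothing commutes with elements of order 23 or 29
  have n23 : ∀ {p c : ℕ} {y : G}, p.Prime → p ≠ 23 → orderOf y = p → Nat.card ↥(cent y) = p * c → ¬ 23 ∣ c := by
    intro p c y hp hne hy hc hd
    obtain ⟨w, hw, -, hyw⟩ := pick (q := 23) (by norm_num) hy hc hd
    have h := dvdc (c := 1) hp (by norm_num) hne hy (by rw [mul_one]; exact (h23 w hw).1) hyw
    exact hp.ne_one (Nat.dvd_one.1 h)
  have n29 : ∀ {p c : ℕ} {y : G}, p.Prime → p ≠ 29 → orderOf y = p → Nat.card ↥(cent y) = p * c → ¬ 29 ∣ c := by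
    intro p c y hp hne hy hc hd
    obtain ⟨w, hw, -, hyw⟩ := pick (q := 29) (by norm_num) hy hc hd
    have h := dvdc (c := 1) hp (by norm_num) hne hy (by rw [mul_one]; exact (h29 w hw).1) hyw
    exact hp.ne_one (Nat.dvd_one.1 h)
  have h43 : ∀ y : G, orderOf y = 43 → Nat.card ↥(cent y) = 43 ∧ Nat.card ↥(norm y) = 43 * 14 := by
    intro y hy
    obtain ⟨c, e, ho, hc, hN⟩ := data (p := 43) (by simp [big]) hy
    have hn := n31 (by norm_num) (by norm_num) hy hc
    have hn' := n29 (by norm_num) (by norm_num) hy hc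
    have ho' := options_43 ho
    simp only [List.mem_cons, List.not_mem_nil, or_false, Prod.mk.injEq] at ho'
    rcases ho' with ⟨rfl, rfl⟩ | ⟨rfl, rfl⟩ | ⟨rfl, rfl⟩ | ⟨rfl, rfl⟩
    · exact ⟨hc, hN⟩
    · exact absurd (by norm_num) hn
    · exact absurd (by norm_num) hn
    · exact absurd (by norm_num) hn'
  have h37 : ∀ y : G, orderOf y = 37 → Nat.card ↥(cent y) = 37 ∧ Nat.card ↥(norm y) = 37 * 12 := by
    intro y hy
    obtain ⟨c, e, ho, hc, hN⟩ := data (p := 37) (by simp [big]) hy
    have hn := n31 (by norm_num) (by norm_num) hy hc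
    have hn' := n29 (by norm_num) (by norm_num) hy hc
    have hn'' := n23 (by norm_num) (by norm_num) hy hc
    have ho' := options_37 ho
    simp only [List.mem_cons, List.not_mem_nil, or_false, Prod.mk.injEq] at ho'
    rcases ho' with ⟨rfl, rfl⟩ | ⟨rfl, rfl⟩ | ⟨rfl, rfl⟩ | ⟨rfl, rfl⟩ | ⟨rfl, rfl⟩ | ⟨rfl, rfl⟩ | ⟨rfl, rfl⟩
    · exact ⟨hc, hN⟩
    · exfalso
      obtain ⟨w, hw, -, hyw⟩ := pick (q := 43) (by norm_num) hy hc (by norm_num)
      have h := dvdc (c := 1) (show Nat.Prime 37 by norm_num) (show Nat.Prime 43 by norm_num) (by norm_num) hy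
        (by rw [mul_one]; exact (h43 w hw).1) hyw
      norm_num at h
    · exact absurd (by norm_num) hn
    · exact absurd (by norm_num) hn'
    · exact absurd (by norm_num) hn'
    · exact absurd (by norm_num) hn''
    · exact absurd (by norm_num) hn
  intro pe hpe
  simp only [List.mem_cons, List.not_mem_nil, or_false] at hpe
  rcases hpe with rfl | rfl | rfl | rfl | rfl
  exacts [h23, h29, h31, h37, h43]

/-- The statement for a Sylow subgroup. -/
theorem sylow_large [IsSimpleGroup G] (hG : ¬ IsMulCommutative G) (hJ : IsOfJankoFourType G) {p e : ℕ}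
    (hpe : (p, e) ∈ [(23, 22), (29, 28), (31, 10), (37, 12), (43, 14)]) (hp : p.Prime) (U : Sylow p G) :
    Subgroup.centralizer ((U : Subgroup G) : Set G) = (U : Subgroup G) ∧
      Nat.card ↥(Subgroup.normalizer ((U : Subgroup G) : Set G)) = p * e := by
  haveI := Fact.mk hp
  obtain ⟨z, π, t, E, L⟩ := exists_loc hG hJ
  have hpb : p ∈ [5, 7, 23, 29, 31, 37, 43] := by
    simp only [List.mem_cons, List.not_mem_nil, or_false, Prod.mk.injEq] at hpe ⊢
    tauto
  have hfac : (Nat.card G).factorization p = 1 := by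
    refine le_antisymm ?_ ((hp.dvd_iff_one_le_factorization Nat.card_pos.ne').1 ?_)
    · by_contra hlt
      exact L.not_dvd_sq hpb ((hp.pow_dvd_iff_le_factorization Nat.card_pos.ne').2 (by omega))
    · rw [L.card]
      simp only [List.mem_cons, List.not_mem_nil, or_false, Prod.mk.injEq] at hpe
      rcases hpe with ⟨rfl, -⟩ | ⟨rfl, -⟩ | ⟨rfl, -⟩ | ⟨rfl, -⟩ | ⟨rfl, -⟩ <;> norm_num
  have hU : Nat.card (U : Subgroup G) = p := by rw [U.card_eq_multiplicity, hfac, pow_one]
  obtain ⟨g, hg⟩ := exists_prime_orderOf_dvd_card' (G := ↥(U : Subgroup G)) p (dvd_of_eq hU.symm)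
  rw [← Subgroup.orderOf_coe] at hg
  have hUg : (U : Subgroup G) = Subgroup.zpowers (g : G) :=
    (Subgroup.eq_of_le_of_card_ge (Subgroup.zpowers_le.2 g.2) (by rw [hU, Nat.card_zpowers, hg])).symm
  obtain ⟨hc, hN⟩ := large_all hG hJ (p, e) hpe (g : G) hg
  rw [hUg]
  refine ⟨?_, hN⟩
  rw [Subgroup.zpowers_eq_closure, Subgroup.centralizer_closure, ← Subgroup.zpowers_eq_closure]
  exact (Subgroup.eq_of_le_of_card_ge (Subgroup.zpowers_le.2 (mem_cent.2 rfl))
    (by rw [Nat.card_zpowers, hg]; exact le_of_eq hc)).symm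

end CfsgLib.JFourPrime
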