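import Cfsg.Agent.Lib.JFourPrime.AbelianDual
import Cfsg.Agent.Lib.Char.Counting
import Cfsg.Agent.Lib.Blocks.InertiaNine.Local

/-!
# The multiplicities of the linear characters of an abelian `O`
-/

set_option autoImplicit false
set_option maxRecDepth 100000
set_option linter.style.haveILetI false
set_option linter.unusedSectionVars false

open Cfsg
open scoped ComplexConjugate CfsgLib.Char Classical

namespace CfsgLib.JFourPrime

universe u

variable {G : Type u} [Group G] [Fintype G] {z π t : G} {E : Subgroup G}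

attribute [local instance] Dual.action

namespace AbBase

variable {x : G} {O : Subgroup G} [Fintype ↥O] (A : AbBase z π t E x O)
include A

/-- The multiplicity of a linear character of `O` in an irreducible character. -/
noncomputable abbrev mult (_A : AbBase z π t E x O) (a : Dual O) (χ : IrrCharacter G) : ℤ :=
  Char.TIAbelianTwo.N a χ

/-- The difference of two linear characters. -/
noncomputable def diff (_A : AbBase z π t E x O) (a b : Dual O) : ↥O → ℂ := fun o => (a o : ℂ) - (b o : ℂ)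

theorem coef (a b : Dual O) (χ : IrrCharacter G) :
    classInner (indFun O (A.diff a b)) (χ : G → ℂ) = ((A.mult a χ - A.mult b χ : ℤ) : ℂ) := by
  rw [Char.frobenius_reciprocity O _ (Char.isClassFunction_of_isCharacter (Char.isCharacter_of_isIrr χ.2)),
    show A.diff a b = (fun o => (a o : ℂ)) - (fun o => (b o : ℂ)) from rfl, Char.classInner_sub_left,
    Int.cast_sub, Char.TIAbelianTwo.N_cast, Char.TIAbelianTwo.N_cast]
  have h : ∀ c : Dual O, classInner (fun o => (c o : ℂ)) (fun o : ↥O => (χ : G → ℂ) o) =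
      Char.TIAbelianTwo.mult c χ := fun c => by
    have := congrArg conj (Char.TIAbelianTwo.N_cast c χ)
    rw [map_intCast, Char.TIAbelianTwo.N_cast] at this
    rw [this, Char.TIAbelianTwo.mult, Char.classInner_conj_symm]
  rw [h, h]

theorem ind_value (c d : Dual O) (o : ↥O) :
    indFun O (A.diff c d) (o : G) =
      (1331 : ℂ)⁻¹ * ∑ y : ↥A.N, A.diff (y • c) (y • d) o := by
  classical
  by_cases ho : o = 1
  · subst ho
    simp [Char.indFun_one, diff, OneMemClass.coe_one]
  simp only [indFun, A.base.core.card, Nat.cast_ofNat]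
  congr 1
  rw [← Finset.sum_subset (Finset.subset_univ (Finset.univ.map (Function.Embedding.subtype (· ∈ A.N)))),
    Finset.sum_map]
  · refine Finset.sum_congr rfl fun y _ => ?_
    rw [Function.Embedding.subtype_apply,
      Char.extendByZero_mem O _ ((Subgroup.mem_normalizer_iff''.1 y.2 o).1 o.2), diff, diff, Dual.smul_apply,
      Dual.smul_apply]
  · intro g _ hg
    refine Char.extendByZero_notMem O _ fun hO => hg ?_
    refine Finset.mem_map.2 ⟨⟨g, ?_⟩, Finset.mem_univ _, rfl⟩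
    have := A.ti o.2 (fun e => ho (Subtype.ext e)) (g := g⁻¹) (by rwa [inv_inv])
    simpa using A.N.inv_mem this

/-- The number of elements of the normalizer moving `c` to `a`. -/
noncomputable def cnt (A : AbBase z π t E x O) (a c : Dual O) : ℤ :=
  (Finset.univ.filter fun y : ↥A.N => a = y • c).card

theorem classInner_dual (a b : Dual O) :
    classInner (fun o => (a o : ℂ)) (fun o => (b o : ℂ)) = if a = b then 1 else 0 := by
  classical
  rw [Char.classInner_irr (Char.isIrrCharacter_monoidHom a) (Char.isIrrCharacter_monoidHom b)]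
  refine if_congr ⟨fun h => MonoidHom.ext fun o => Units.ext (congrFun h o), fun h => by rw [h]⟩ rfl rfl

theorem gram (a b c d : Dual O) :
    1331 * ∑ χ : IrrCharacter G, (A.mult a χ - A.mult b χ) * (A.mult c χ - A.mult d χ) =
      A.cnt a c - A.cnt a d - (A.cnt b c - A.cnt b d) := by
  classical
  have h1 : classInner (indFun O (A.diff a b)) (indFun O (A.diff c d)) =
      ((∑ χ : IrrCharacter G, (A.mult a χ - A.mult b χ) * (A.mult c χ - A.mult d χ) : ℤ) : ℂ) := by
    conv_lhs => rw [Char.classFunction_expansion (Char.isClassFunction_indFun O (A.diff a b)),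
      Char.classFunction_expansion (Char.isClassFunction_indFun O (A.diff c d))]
    rw [Char.classInner_sum_smul_sum_smul]
    push_cast
    exact Finset.sum_congr rfl fun χ _ => by
      rw [A.coef, A.coef, map_intCast]; push_cast; ring
  have h2 : classInner (indFun O (A.diff a b)) (indFun O (A.diff c d)) =
      (1331 : ℂ)⁻¹ * ((A.cnt a c - A.cnt a d - (A.cnt b c - A.cnt b d) : ℤ) : ℂ) := by
    rw [Char.frobenius_reciprocity O _ (Char.isClassFunction_indFun O _)]
    rw [show (fun h : ↥O => indFun O (A.diff c d) h) =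
      (1331 : ℂ)⁻¹ • ∑ y : ↥A.N, A.diff (y • c) (y • d) from funext fun o => by
        rw [A.ind_value, Pi.smul_apply, Finset.sum_apply, smul_eq_mul]]
    rw [Char.classInner_smul_right, map_inv₀, map_ofNat, Char.classInner_sum_right]
    congr 1
    have e : ∀ y : ↥A.N, classInner (A.diff a b) (A.diff (y • c) (y • d)) =
        (if a = y • c then (1 : ℂ) else 0) - (if a = y • d then 1 else 0) -
          ((if b = y • c then 1 else 0) - (if b = y • d then 1 else 0)) := fun y => by
      simp only [show A.diff a b = (fun o => (a o : ℂ)) - (fun o => (b o : ℂ)) from rfl,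
        show A.diff (y • c) (y • d) = (fun o => ((y • c) o : ℂ)) - (fun o => ((y • d) o : ℂ)) from rfl,
        Char.classInner_sub_left, Char.classInner_sub_right, A.classInner_dual]
      ring
    simp only [e, Finset.sum_sub_distrib, Finset.sum_boole, cnt]
    push_cast
    rfl
  rw [h1] at h2
  have h3 : (1331 : ℂ) * ((∑ χ : IrrCharacter G, (A.mult a χ - A.mult b χ) * (A.mult c χ - A.mult d χ) : ℤ) : ℂ) =
      ((A.cnt a c - A.cnt a d - (A.cnt b c - A.cnt b d) : ℤ) : ℂ) := by
    rw [h2, mul_inv_cancel_left₀ (by norm_num)]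
  exact_mod_cast h3

theorem cnt_zero {a c : Dual O} (h : a ∉ MulAction.orbit ↥A.N c) : A.cnt a c = 0 := by
  simp only [cnt, Nat.cast_eq_zero, Finset.card_eq_zero, Finset.filter_eq_empty_iff]
  intro y _ e
  exact h ⟨y, e.symm⟩

theorem cnt_self (c : Dual O) : A.cnt c c = Nat.card ↥(MulAction.stabilizer ↥A.N c) := by
  classical
  simp only [cnt]
  rw [Nat.card_eq_fintype_card, Fintype.card_of_subtype]
  intro y
  simp [MulAction.mem_stabilizer_iff, eq_comm]

theorem mult_smul (y : ↥A.N) (a : Dual O) (χ : IrrCharacter G) : A.mult (y • a) χ = A.mult a χ := by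
  have h : (A.mult (y • a) χ : ℂ) = A.mult a χ := by
    rw [Char.TIAbelianTwo.N_cast, Char.TIAbelianTwo.N_cast, Char.TIAbelianTwo.mult, Char.TIAbelianTwo.mult,
      classInner, classInner]
    congr 1
    refine Fintype.sum_equiv (Subgroup.normalizerMonoidHom O y⁻¹).toEquiv _ _ fun o => ?_
    have hv : ((Subgroup.normalizerMonoidHom O y⁻¹).toEquiv o : G) = (y : G)⁻¹ * o * y := by
      show ((y⁻¹ : ↥A.N) : G) * o * ((y⁻¹ : ↥A.N) : G)⁻¹ = _
      rw [Subgroup.coe_inv, inv_inv]
    have hχ := Char.isClassFunction_of_isCharacter (Char.isCharacter_of_isIrr χ.2) (o : G) (y : G)⁻¹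
    rw [inv_inv] at hχ
    rw [hv, hχ, Dual.smul_apply]
    congr 4
    exact Subtype.ext hv.symm
  exact_mod_cast h

theorem sum_mult (χ : IrrCharacter G) [Fintype (Dual O)] :
    ∑ a : Dual O, (A.mult a χ : ℂ) = (χ : G → ℂ) 1 := by
  classical
  letI : CommGroup ↥O := { (inferInstance : Group ↥O) with mul_comm := fun a b => Subtype.ext (A.comm _ a.2 _ b.2) }
  have hzero : ∀ o : ↥O, o ≠ 1 → ∑ a : Dual O, (a o : ℂ) = 0 := by
    intro o ho
    obtain ⟨φ, hφ⟩ := CommGroup.exists_apply_ne_one_of_hasEnoughRootsOfUnity ↥O ℂ ho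
    have h : ∑ a : Dual O, (a o : ℂ) = (φ o : ℂ) * ∑ a : Dual O, (a o : ℂ) := by
      rw [Finset.mul_sum]
      refine (Fintype.sum_equiv (Equiv.mulLeft φ) _ _ fun a => ?_).symm
      simp
    have h2 : ((φ o : ℂ) - 1) * ∑ a : Dual O, (a o : ℂ) = 0 := by linear_combination -h
    exact (mul_eq_zero.1 h2).resolve_left fun e => hφ (Units.ext (sub_eq_zero.1 e))
  simp only [Char.TIAbelianTwo.N_cast, Char.TIAbelianTwo.mult, classInner]
  rw [← Finset.mul_sum, Finset.sum_comm, Finset.sum_eq_single (1 : ↥O)]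
  · simp only [map_one, Units.val_one, mul_one, Finset.sum_const, OneMemClass.coe_one, nsmul_eq_mul,
      Finset.card_univ, ← Nat.card_eq_fintype_card, A.card_dual, A.base.core.card]
    push_cast
    ring
  · intro o _ ho
    rw [← Finset.mul_sum, ← map_sum, hzero o ho, map_zero, mul_zero]
  · simp

variable (R : A.Reps)

/-- The five differences. -/
noncomputable def F (i : Fin 5) (χ : IrrCharacter G) : ℤ := A.mult (R.l i) χ - A.mult R.μ χ

/-- The difference at the trivial character. -/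
noncomputable def P (χ : IrrCharacter G) : ℤ := A.mult 1 χ - A.mult R.μ χ

/-- The difference at the character of `⟨x⟩`. -/
noncomputable def Q (χ : IrrCharacter G) : ℤ := A.mult R.α χ - A.mult R.μ χ

/-- The values of the Gram matrix. -/
theorem gram_values :
    (∀ i j, ∑ χ, A.F R i χ * A.F R j χ = if i = j then 3 else 2) ∧ (∀ i, ∑ χ, A.P R χ * A.F R i χ = 2) ∧
      (∀ i, ∑ χ, A.Q R χ * A.F R i χ = 2) ∧ ∑ χ, A.P R χ * A.P R χ = 242 ∧ ∑ χ, A.Q R χ * A.Q R χ = 26 ∧
      ∑ χ, A.P R χ * A.Q R χ = 2 := by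
  classical
  have h1 : A.cnt 1 1 = 319440 := by
    rw [A.cnt_self, show MulAction.stabilizer ↥A.N (1 : Dual O) = ⊤ from eq_top_iff.2 fun y _ =>
      A.mem_stab.2 fun o ho => rfl, Subgroup.card_top, A.card_N]
    rfl
  have hα : A.cnt R.α R.α = 31944 := by rw [A.cnt_self, A.stab_alpha R.αx R.αW]; rfl
  have hμ : A.cnt R.μ R.μ = 2662 := by rw [A.cnt_self, A.stab_mu R.μx R.μW]; rfl
  have hl : ∀ i j, A.cnt (R.l i) (R.l j) = if i = j then 1331 else 0 := fun i j => by
    split_ifs with h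
    · rw [h, A.cnt_self, A.stab_mixed (R.lx j) (R.lW j)]; rfl
    · exact A.cnt_zero fun hm => h (R.sep i j hm)
  have one_x : A.killsX (1 : Dual O) := rfl
  have one_W : A.killsW (1 : Dual O) := fun w hw => rfl
  have k : ∀ {a c : Dual O}, (¬ (A.killsX a ↔ A.killsX c) ∨ ¬ (A.killsW a ↔ A.killsW c)) → A.cnt a c = 0 :=
    fun {a c} h => A.cnt_zero fun hm => h.elim (fun h => h (A.kills_orbit hm).2) (fun h => h (A.kills_orbit hm).1)
  have oα : A.cnt 1 R.α = 0 := k (Or.inl fun h => R.αx (h.1 one_x))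
  have αo : A.cnt R.α 1 = 0 := k (Or.inl fun h => R.αx (h.2 one_x))
  have oμ : A.cnt 1 R.μ = 0 := k (Or.inr fun h => R.μW (h.1 one_W))
  have μo : A.cnt R.μ 1 = 0 := k (Or.inr fun h => R.μW (h.2 one_W))
  have αμ : A.cnt R.α R.μ = 0 := k (Or.inl fun h => R.αx (h.2 R.μx))
  have μα : A.cnt R.μ R.α = 0 := k (Or.inl fun h => R.αx (h.1 R.μx))
  have ol : ∀ i, A.cnt 1 (R.l i) = 0 := fun i => k (Or.inl fun h => R.lx i (h.1 one_x))
  have lo : ∀ i, A.cnt (R.l i) 1 = 0 := fun i => k (Or.inl fun h => R.lx i (h.2 one_x))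
  have μl : ∀ i, A.cnt R.μ (R.l i) = 0 := fun i => k (Or.inl fun h => R.lx i (h.1 R.μx))
  have lμ : ∀ i, A.cnt (R.l i) R.μ = 0 := fun i => k (Or.inl fun h => R.lx i (h.2 R.μx))
  have αl : ∀ i, A.cnt R.α (R.l i) = 0 := fun i => k (Or.inr fun h => R.lW i (h.1 R.αW))
  refine ⟨fun i j => ?_, fun i => ?_, fun i => ?_, ?_, ?_, ?_⟩
  · have h := A.gram (R.l i) R.μ (R.l j) R.μ
    rw [hl, lμ, μl, hμ] at h
    simp only [F]
    split_ifs at h ⊢ <;> omega
  · have h := A.gram 1 R.μ (R.l i) R.μ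
    rw [ol, oμ, μl, hμ] at h
    simp only [F, P]
    omega
  · have h := A.gram R.α R.μ (R.l i) R.μ
    rw [αl, αμ, μl, hμ] at h
    simp only [F, Q]
    omega
  · have h := A.gram 1 R.μ 1 R.μ
    rw [h1, oμ, μo, hμ] at h
    simp only [P]
    omega
  · have h := A.gram R.α R.μ R.α R.μ
    rw [hα, αμ, μα, hμ] at h
    simp only [Q]
    omega
  · have h := A.gram 1 R.μ R.α R.μ
    rw [oα, oμ, μα, hμ] at h
    simp only [P, Q]
    omega

/-- The degree in terms of the multiplicities. -/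
theorem degree (χ : IrrCharacter G) :
    (χ : G → ℂ) 1 = ((1331 * A.mult R.μ χ + A.P R χ + 10 * A.Q R χ + 240 * ∑ i, A.F R i χ : ℤ) : ℂ) := by
  classical
  haveI : Fintype (Dual O) := @Fintype.ofFinite _ (Nat.finite_of_card_ne_zero (by rw [A.card_dual]; norm_num))
  have hn : ∀ l : Dual O, ∀ {m : ℕ}, Nat.card ↥(MulAction.stabilizer ↥A.N l) = m →
      (Finset.univ.filter fun a => a ∈ MulAction.orbit ↥A.N l).card * m = 319440 := fun l m hm => by
    rw [← Set.ncard_coe_finset, ← hm]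
    convert A.orbit_card l
    ext; simp
  have hsum : ∀ l : Dual O, ∀ {m n : ℕ}, Nat.card ↥(MulAction.stabilizer ↥A.N l) = m → n * m = 319440 →
      ∑ a ∈ Finset.univ.filter (fun a => a ∈ MulAction.orbit ↥A.N l), A.mult a χ = n * A.mult l χ := by
    intro l m n hm hnm
    rw [Finset.sum_congr rfl (g := fun _ => A.mult l χ) fun a ha => by
      obtain ⟨y, rfl⟩ := (Finset.mem_filter.1 ha).2
      exact A.mult_smul y l χ, Finset.sum_const, nsmul_eq_mul]
    congr 2
    have hm0 : 0 < m := hm ▸ Nat.card_pos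
    exact Nat.eq_of_mul_eq_mul_right hm0 ((hn l hm).trans hnm.symm)
  have hcover : (Finset.univ : Finset (Dual O)) =
      ({1} ∪ (Finset.univ.filter fun a => a ∈ MulAction.orbit ↥A.N R.α) ∪
        (Finset.univ.filter fun a => a ∈ MulAction.orbit ↥A.N R.μ)) ∪
        Finset.univ.biUnion fun i => Finset.univ.filter fun a => a ∈ MulAction.orbit ↥A.N (R.l i) := by
    ext a
    simp only [Finset.mem_univ, Finset.mem_union, Finset.mem_singleton, Finset.mem_filter, true_and,
      Finset.mem_biUnion, true_iff]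
    by_cases hx : A.killsX a <;> by_cases hW : A.killsW a
    · exact Or.inl (Or.inl (Or.inl (A.dual_ext hx fun w hw => hW w hw)))
    · exact Or.inl (Or.inr (A.orbit_mu R.μx R.μW hx hW))
    · exact Or.inl (Or.inl (Or.inr (A.orbit_alpha R.αx R.αW hx hW)))
    · exact Or.inr (R.all a hx hW)
  have hd1 : Disjoint ({1} : Finset (Dual O)) (Finset.univ.filter fun a => a ∈ MulAction.orbit ↥A.N R.α) := by
    rw [Finset.disjoint_singleton_left, Finset.mem_filter]
    exact fun h => R.αx ((A.kills_orbit h.2).2.1 rfl)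
  have hd2 : Disjoint ({1} ∪ Finset.univ.filter fun a => a ∈ MulAction.orbit ↥A.N R.α)
      (Finset.univ.filter fun a => a ∈ MulAction.orbit ↥A.N R.μ) := by
    rw [Finset.disjoint_left]
    intro a ha hb
    have hb' := A.kills_orbit (Finset.mem_filter.1 hb).2
    rcases Finset.mem_union.1 ha with h | h
    · exact R.μW (hb'.1.1 (by rw [Finset.mem_singleton.1 h]; exact fun w hw => rfl))
    · exact R.μW (hb'.1.1 ((A.kills_orbit (Finset.mem_filter.1 h).2).1.2 R.αW))
  have hd3 : Disjoint ({1} ∪ (Finset.univ.filter fun a => a ∈ MulAction.orbit ↥A.N R.α) ∪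
        (Finset.univ.filter fun a => a ∈ MulAction.orbit ↥A.N R.μ))
      (Finset.univ.biUnion fun i => Finset.univ.filter fun a => a ∈ MulAction.orbit ↥A.N (R.l i)) := by
    rw [Finset.disjoint_left]
    intro a ha hb
    obtain ⟨i, -, hi⟩ := Finset.mem_biUnion.1 hb
    have hi' := A.kills_orbit (Finset.mem_filter.1 hi).2
    rcases Finset.mem_union.1 ha with h | h
    · rcases Finset.mem_union.1 h with h | h
      · exact R.lx i (hi'.2.1 (by rw [Finset.mem_singleton.1 h]; rfl))
      · exact R.lW i (hi'.1.1 ((A.kills_orbit (Finset.mem_filter.1 h).2).1.2 R.αW))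
    · exact R.lx i (hi'.2.1 ((A.kills_orbit (Finset.mem_filter.1 h).2).2.2 R.μx))
  have hd4 : (↑(Finset.univ : Finset (Fin 5)) : Set (Fin 5)).PairwiseDisjoint fun i =>
      Finset.univ.filter fun a => a ∈ MulAction.orbit ↥A.N (R.l i) := by
    intro i _ j _ hij
    rw [Function.onFun, Finset.disjoint_left]
    intro a ha hb
    refine hij (R.sep i j ?_)
    rw [← MulAction.orbit_eq_iff]
    exact ((MulAction.orbit_eq_iff.2 (Finset.mem_filter.1 ha).2).symm.trans
      (MulAction.orbit_eq_iff.2 (Finset.mem_filter.1 hb).2))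
  rw [← A.sum_mult χ, ← Int.cast_sum]
  congr 1
  rw [hcover, Finset.sum_union hd3, Finset.sum_union hd2, Finset.sum_union hd1, Finset.sum_singleton,
    Finset.sum_biUnion hd4, hsum R.α (n := 10) (A.stab_alpha R.αx R.αW) rfl,
    hsum R.μ (n := 120) (A.stab_mu R.μx R.μW) rfl,
    Finset.sum_congr rfl fun i _ => hsum (R.l i) (n := 240) (A.stab_mixed (R.lx i) (R.lW i)) rfl]
  simp only [F, P, Q, Finset.sum_sub_distrib, Finset.sum_const, Finset.card_univ, Fintype.card_fin, nsmul_eq_mul,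
    ← Finset.mul_sum]
  push_cast
  ring

theorem sum_coef_value (i : Fin 5) (g : G) (hg : g = 1 ∨ orderOf g = 2) :
    ∑ χ : IrrCharacter G, (A.F R i χ : ℂ) * (χ : G → ℂ) g = 0 := by
  have h0 : indFun O (A.diff (R.l i) R.μ) g = 0 := by
    rcases hg with rfl | hg
    · rw [Char.indFun_one, diff, map_one, map_one, sub_self, mul_zero]
    · simp only [indFun]
      rw [Finset.sum_eq_zero fun a _ => Char.extendByZero_notMem O _ fun hO => ?_, mul_zero]
      have h := Subgroup.orderOf_dvd_natCard O hO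
      have e : a⁻¹ * g * a = (MulAut.conj a⁻¹) g := by simp
      rw [e, (MulAut.conj a⁻¹).orderOf_eq, hg, A.base.core.card] at h
      norm_num at h
  rw [Char.classFunction_expansion (Char.isClassFunction_indFun O _), Finset.sum_apply] at h0
  rw [← h0]
  refine Finset.sum_congr rfl fun χ _ => ?_
  rw [Pi.smul_apply, A.coef, smul_eq_mul]
  rfl

/-- The elements of `O` inverted by an element. -/
def invSet (A : AbBase z π t E x O) (a : ↥A.N) : Subgroup ↥O where
  carrier := {o | (a : G) * o * (a : G)⁻¹ = (o : G)⁻¹}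
  one_mem' := by simp
  mul_mem' := fun {p q} hp hq => by
    simp only [Set.mem_ofPred_eq, Subgroup.coe_mul] at *
    rw [show (a : G) * ((p : G) * q) * (a : G)⁻¹ = ((a : G) * p * (a : G)⁻¹) * ((a : G) * q * (a : G)⁻¹) by group,
      hp, hq, mul_inv_rev]
    exact A.comm _ (O.inv_mem p.2) _ (O.inv_mem q.2)
  inv_mem' := fun {p} hp => by
    simp only [Set.mem_ofPred_eq, Subgroup.coe_inv] at *
    rw [show (a : G) * (p : G)⁻¹ * (a : G)⁻¹ = ((a : G) * p * (a : G)⁻¹)⁻¹ by group, hp]

theorem card_invSet {a : ↥A.N} (ha2 : orderOf (a : G) = 2) (hax : (a : G) * x * (a : G)⁻¹ = x⁻¹) :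
    Nat.card (A.invSet a) = 121 := by
  classical
  have haa : (a : G) * a = 1 := by rw [← pow_two, ← ha2, pow_orderOf_eq_one]
  let f : ↥O →* ↥O :=
    { toFun := fun o => o * ⟨(a : G) * (o : G)⁻¹ * (a : G)⁻¹, (Subgroup.mem_normalizer_iff.1 a.2 _).1 (O.inv_mem o.2)⟩
      map_one' := Subtype.ext (by simp)
      map_mul' := fun p q => Subtype.ext (by
        simp only [Subgroup.coe_mul, mul_inv_rev]
        have hp := (Subgroup.mem_normalizer_iff.1 a.2 _).1 (O.inv_mem p.2)
        have hq := (Subgroup.mem_normalizer_iff.1 a.2 _).1 (O.inv_mem q.2)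
        rw [show (a : G) * ((q : G)⁻¹ * (p : G)⁻¹) * (a : G)⁻¹ =
          ((a : G) * (q : G)⁻¹ * (a : G)⁻¹) * ((a : G) * (p : G)⁻¹ * (a : G)⁻¹) by group, A.comm _ hq _ hp]
        have hc : Commute (q : G) ((a : G) * (p : G)⁻¹ * (a : G)⁻¹) := A.comm _ q.2 _ hp
        calc (p : G) * q * ((a : G) * (p : G)⁻¹ * (a : G)⁻¹ * ((a : G) * (q : G)⁻¹ * (a : G)⁻¹))
            = p * (q * ((a : G) * (p : G)⁻¹ * (a : G)⁻¹)) * ((a : G) * (q : G)⁻¹ * (a : G)⁻¹) := by group
          _ = p * (((a : G) * (p : G)⁻¹ * (a : G)⁻¹) * q) * ((a : G) * (q : G)⁻¹ * (a : G)⁻¹) := by rw [hc.eq]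
          _ = _ := by group) }
  have hrange : f.range = A.invSet a := by
    refine le_antisymm ?_ fun o ho => ?_
    · rintro _ ⟨p, rfl⟩
      show (a : G) * ((p : G) * ((a : G) * (p : G)⁻¹ * (a : G)⁻¹)) * (a : G)⁻¹ =
        ((p : G) * ((a : G) * (p : G)⁻¹ * (a : G)⁻¹))⁻¹
      have hi : (a : G)⁻¹ = a := inv_eq_of_mul_eq_one_right haa
      rw [mul_inv_rev, show ((a : G) * (p : G)⁻¹ * (a : G)⁻¹)⁻¹ = (a : G) * p * (a : G)⁻¹ by group]
      calc (a : G) * ((p : G) * ((a : G) * (p : G)⁻¹ * (a : G)⁻¹)) * (a : G)⁻¹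
          = ((a : G) * p * (a : G)⁻¹) * (((a : G) * a) * (p : G)⁻¹ * ((a : G) * a)⁻¹) := by group
        _ = _ := by rw [haa, one_mul, inv_one, mul_one]
    · refine ⟨o ^ 666, ?_⟩
      have h11 : o ^ 1331 = 1 := Subtype.ext (by
        rw [Subgroup.coe_pow, (A.base.mem_O_iff (A.base.core.le o.2)).1 o.2]; rfl)
      apply Subtype.ext
      show ((o ^ 666 : ↥O) : G) * ((a : G) * ((o ^ 666 : ↥O) : G)⁻¹ * (a : G)⁻¹) = (o : G)
      rw [Subgroup.coe_pow, ← inv_pow, ← MulAut.conj_apply, map_pow, MulAut.conj_apply,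
        show (a : G) * (o : G)⁻¹ * (a : G)⁻¹ = ((a : G) * o * (a : G)⁻¹)⁻¹ by group,
        show (a : G) * o * (a : G)⁻¹ = (o : G)⁻¹ from ho, inv_inv, ← pow_add]
      have h2 : (o : G) ^ 1331 = 1 := by rw [← Subgroup.coe_pow, h11]; rfl
      rw [show 666 + 666 = 1331 + 1 by norm_num, pow_succ, h2, one_mul]
  have hker : f.ker = (O ⊓ cent (a : G)).subgroupOf O := by
    ext p
    rw [MonoidHom.mem_ker, Subgroup.mem_subgroupOf]
    constructor
    · intro h
      have h' : (p : G) * ((a : G) * (p : G)⁻¹ * (a : G)⁻¹) = 1 := congrArg Subtype.val h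
      refine ⟨p.2, mem_cent.2 ?_⟩
      calc (p : G) * a = (p : G) * ((a : G) * (p : G)⁻¹ * (a : G)⁻¹) * ((a : G) * p) := by group
        _ = _ := by rw [h', one_mul]
    · intro h
      apply Subtype.ext
      show (p : G) * ((a : G) * (p : G)⁻¹ * (a : G)⁻¹) = 1
      have hc : Commute (p : G) a := mem_cent.1 h.2
      calc (p : G) * ((a : G) * (p : G)⁻¹ * (a : G)⁻¹) = ((p : G) * a) * (p : G)⁻¹ * (a : G)⁻¹ := by group
        _ = _ := by rw [hc.eq]; group
  have h := f.ker.card_mul_index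
  rw [Subgroup.index_ker, hker, hrange, Nat.card_congr (Subgroup.subgroupOfEquivOfLe inf_le_left).toEquiv,
    (A.invol_inverting a.2 ha2 hax).2, A.base.core.card] at h
  omega

theorem stab_iff {a : ↥A.N} (ha2 : orderOf (a : G) = 2) (l : Dual O) :
    a ∈ MulAction.stabilizer ↥A.N l ↔ ∀ o ∈ A.invSet a, l o = 1 := by
  have haa : (a : G) * a = 1 := by rw [← pow_two, ← ha2, pow_orderOf_eq_one]
  rw [A.mem_stab]
  constructor
  · intro h o ho
    have h1 := h o o.2
    have e : (⟨(a : G) * o * (a : G)⁻¹, (Subgroup.mem_normalizer_iff.1 a.2 _).1 o.2⟩ : ↥O) = o⁻¹ :=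
      Subtype.ext ho
    rw [e, map_inv] at h1
    have h2 : l o ^ 2 = 1 := by
      rw [pow_two]
      exact (congrArg (l o * ·) h1).symm.trans (mul_inv_cancel _)
    have h3 : l o ^ 1331 = 1 := by
      rw [← map_pow]
      convert map_one l
      exact Subtype.ext (by rw [Subgroup.coe_pow, (A.base.mem_O_iff (A.base.core.le o.2)).1 o.2]; rfl)
    rw [show 1331 = 2 * 665 + 1 by norm_num, pow_succ, pow_mul, h2, one_pow, one_mul] at h3
    exact h3
  · intro h p hp
    have hq := (Subgroup.mem_normalizer_iff.1 a.2 p).1 hp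
    have hm : (⟨(a : G) * p * (a : G)⁻¹, hq⟩ : ↥O) * (⟨p, hp⟩ : ↥O)⁻¹ ∈ A.invSet a := by
      show (a : G) * ((a : G) * p * (a : G)⁻¹ * p⁻¹) * (a : G)⁻¹ = ((a : G) * p * (a : G)⁻¹ * p⁻¹)⁻¹
      calc (a : G) * ((a : G) * p * (a : G)⁻¹ * p⁻¹) * (a : G)⁻¹
          = ((a : G) * a) * p * ((a : G) * a)⁻¹ * ((a : G) * p⁻¹ * (a : G)⁻¹) := by group
        _ = _ := by rw [haa]; group
    have h1 := h _ hm
    rwa [map_mul, map_inv, mul_inv_eq_one] at h1

theorem conj_t_orderOf {a : G} (h : IsConj a t) : orderOf a = 2 := by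
  obtain ⟨c, hc⟩ := isConj_iff.1 h
  rw [← (MulAut.conj c).orderOf_eq a, MulAut.conj_apply, hc]
  exact A.base.loc.ot

theorem pair_equation :
    ∑ χ : IrrCharacter G, (A.F R 0 χ : ℂ) * ((χ : G → ℂ) t * (χ : G → ℂ) t / (χ : G → ℂ) 1) =
      -11 * (1816657920 : ℂ) ^ 2 / 86775571046077562880 := by
  classical
  set f := A.diff (R.l 0) R.μ with hf
  -- the count
  set n : ↥O → ℕ := fun o => Nat.card {p : G × G // IsConj t p.1 ∧ IsConj t p.2 ∧ p.1 * p.2 = (o : G)}
  set Inv := Finset.univ.filter fun a : ↥A.N => orderOf (a : G) = 2 ∧ (a : G) * x * (a : G)⁻¹ = x⁻¹ with hInv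
  have hfW : ∀ o : ↥O, (o : G) ∈ A.W → f o = 0 := fun o ho => by
    rw [hf, diff, show o = ⟨(o : G), A.W_le ho⟩ from rfl, R.agree _ ho, sub_self]
  have hn : ∀ o : ↥O, (o : G) ∉ A.W → n o = (Inv.filter fun a => o ∈ A.invSet a).card := by
    intro o ho
    have ho1 : (o : G) ≠ 1 := fun e => ho (e ▸ A.W.one_mem)
    obtain ⟨l, hl, w, hw, he⟩ := A.decomp o.2
    have hl1 : l ≠ 1 := fun e => ho (by rw [he, e, one_mul]; exact hw)
    have hinv : ∀ a : ↥A.N, orderOf (a : G) = 2 → o ∈ A.invSet a → (a : G) * x * (a : G)⁻¹ = x⁻¹ := by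
      intro a _ hao
      have h : (a : G) * o * (a : G)⁻¹ = (o : G)⁻¹ := hao
      rw [he] at h
      have e2 : (l * w)⁻¹ = l⁻¹ * w⁻¹ := by
        rw [A.comm l (A.zp_le hl) w hw.1, mul_inv_rev]
      have h' := (A.decomp_unique (conj_zpowers_mem (A.N_x a.2) l hl) (inv_mem hl) (A.N_W a.2 hw) (A.W.inv_mem hw)
        (by rw [← e2, ← h]; group)).1
      obtain ⟨k, hk⟩ := Subgroup.mem_zpowers_iff.1 (show x ∈ Subgroup.zpowers l from by
        haveI := Fact.mk (show Nat.Prime 11 by norm_num)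
        have heq : Subgroup.zpowers l = Subgroup.zpowers x := Subgroup.eq_of_le_of_card_ge
          (Subgroup.zpowers_le.2 hl) (by rw [Nat.card_zpowers, Nat.card_zpowers, A.base.ox,
            A.eleven (A.zp_le hl) hl1])
        exact heq.ge (Subgroup.mem_zpowers x))
      have e3 : (a : G) * l ^ k * (a : G)⁻¹ = (l ^ k)⁻¹ := by
        rw [← MulAut.conj_apply, map_zpow, MulAut.conj_apply, h', inv_zpow]
      exact ((congrArg (fun u => (a : G) * u * (a : G)⁻¹) hk).symm.trans e3).trans (congrArg (·⁻¹) hk)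
    have hmem : ∀ p : {p : G × G // IsConj t p.1 ∧ IsConj t p.2 ∧ p.1 * p.2 = (o : G)},
        p.1.1 ∈ A.N ∧ orderOf p.1.1 = 2 ∧ p.1.1 * o * p.1.1⁻¹ = (o : G)⁻¹ := by
      rintro ⟨⟨a, b⟩, ha, hb, hab⟩
      have ha2 := A.conj_t_orderOf ha.symm
      have hb2 := A.conj_t_orderOf hb.symm
      have haa : a * a = 1 := by rw [← pow_two, ← ha2, pow_orderOf_eq_one]
      have hbb : b * b = 1 := by rw [← pow_two, ← hb2, pow_orderOf_eq_one]
      have hao : a * (o : G) * a⁻¹ = (o : G)⁻¹ := by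
        rw [← hab, mul_inv_rev, inv_eq_of_mul_eq_one_right hbb, inv_eq_of_mul_eq_one_right haa,
          show a * (a * b) * a = (a * a) * (b * a) by group, haa, one_mul]
      exact ⟨A.ti o.2 ho1 (by rw [hao]; exact O.inv_mem o.2), ha2, hao⟩
    show Nat.card _ = _
    rw [← Nat.card_eq_finsetCard]
    refine Nat.card_congr (Equiv.ofBijective (fun p => ⟨⟨p.1.1, (hmem p).1⟩, Finset.mem_filter.2
      ⟨Finset.mem_filter.2 ⟨Finset.mem_univ _, (hmem p).2.1, hinv ⟨p.1.1, (hmem p).1⟩ (hmem p).2.1 (hmem p).2.2⟩,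
        (hmem p).2.2⟩⟩) ⟨fun p q h => ?_, fun a => ?_⟩)
    · have h1 : p.1.1 = q.1.1 := congrArg (fun u => ((u.1 : ↥A.N) : G)) h
      refine Subtype.ext (Prod.ext h1 ?_)
      have hp := p.2.2.2.trans q.2.2.2.symm
      rw [h1] at hp
      exact mul_left_cancel hp
    · obtain ⟨ha, hao⟩ := Finset.mem_filter.1 a.2
      obtain ⟨-, ha2, hax⟩ := Finset.mem_filter.1 ha
      have haa : ((a.1 : ↥A.N) : G) * a.1 = 1 := by rw [← pow_two, ← ha2, pow_orderOf_eq_one]
      have hat := (A.invol_inverting a.1.2 ha2 hax).1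
      have hb2 : (((a.1 : ↥A.N) : G) * o) ^ 2 = 1 := by
        rw [pow_two]
        calc ((a.1 : ↥A.N) : G) * o * ((a.1 : ↥A.N) * o)
            = ((a.1 : ↥A.N) * o * ((a.1 : ↥A.N) : G)⁻¹) * (((a.1 : ↥A.N) : G) * a.1) * o := by group
          _ = _ := by rw [haa, mul_one, show _ = (o : G)⁻¹ from hao, inv_mul_cancel]
      have hb1 : ((a.1 : ↥A.N) : G) * o ≠ 1 := fun e => by
        have hoa : (o : G) = ((a.1 : ↥A.N) : G)⁻¹ := eq_inv_of_mul_eq_one_right e
        have h := Subgroup.orderOf_dvd_natCard O o.2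
        rw [hoa, orderOf_inv, ha2, A.base.core.card] at h
        norm_num at h
      haveI := Fact.mk Nat.prime_two
      have hbt := (A.invol_inverting (A.N.mul_mem a.1.2 (A.O_le o.2)) (orderOf_eq_prime hb2 hb1) (by
        calc ((a.1 : ↥A.N) : G) * o * x * (((a.1 : ↥A.N) : G) * o)⁻¹
            = (a.1 : ↥A.N) * ((o : G) * x * (o : G)⁻¹) * ((a.1 : ↥A.N) : G)⁻¹ := by group
          _ = _ := by rw [A.base.x_central o.2, mul_inv_cancel_right, hax])).1
      exact ⟨⟨(((a.1 : ↥A.N) : G), ((a.1 : ↥A.N) : G) * o), hat.symm, hbt.symm, by rw [← mul_assoc, haa, one_mul]⟩,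
        rfl⟩
  -- the sum over the involutions
  have hterm : ∀ a ∈ Inv, ∑ o : ↥O with o ∈ A.invSet a, f o =
      if a ∈ MulAction.stabilizer ↥A.N R.μ then -121 else 0 := by
    intro a ha
    obtain ⟨-, ha2, hax⟩ := Finset.mem_filter.1 ha
    have hsum : ∀ l : Dual O, ∑ o : ↥O with o ∈ A.invSet a, (l o : ℂ) =
        if a ∈ MulAction.stabilizer ↥A.N l then 121 else 0 := by
      intro l
      rw [Finset.sum_subtype (s := Finset.univ.filter fun o => o ∈ A.invSet a) (p := fun o => o ∈ A.invSet a)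
        (by simp)]
      have h := Char.TIAbelianTwo.sum_hom (l.comp (A.invSet a).subtype)
      rw [A.card_invSet ha2 hax] at h
      refine h.trans (if_congr ?_ (by norm_num) rfl)
      rw [A.stab_iff ha2]
      exact ⟨fun e o ho => DFunLike.congr_fun e ⟨o, ho⟩, fun e => MonoidHom.ext fun o => e o o.2⟩
    have hns : a ∉ MulAction.stabilizer ↥A.N (R.l 0) := fun h => R.lx 0 ((A.stab_iff ha2 _).1 h A.xO hax)
    simp only [hf, diff, Finset.sum_sub_distrib, hsum, if_neg hns]
    split_ifs <;> ring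
  have hcount : (Inv.filter fun a => a ∈ MulAction.stabilizer ↥A.N R.μ).card = 121 := by
    set S := MulAction.stabilizer ↥A.N R.μ
    have hS : Nat.card S = 2662 := A.stab_mu R.μx R.μW
    haveI := Fact.mk Nat.prime_two
    obtain ⟨a0, ha0⟩ := exists_prime_orderOf_dvd_card' (G := ↥S) 2 (by rw [hS]; norm_num)
    rw [← Subgroup.orderOf_coe, ← Subgroup.orderOf_coe] at ha0
    have hx0 : ∀ a : ↥A.N, a ∈ S → orderOf (a : G) = 2 → (a : G) * x * (a : G)⁻¹ = x⁻¹ := by
      intro a haS ha2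
      have haa : (a : G) * a = 1 := by rw [← pow_two, ← ha2, pow_orderOf_eq_one]
      obtain ⟨k, hk⟩ := Subgroup.mem_zpowers_iff.1 (A.N_x a.2)
      have hkk : x ^ (k * k) = x := by
        rw [zpow_mul, hk, ← MulAut.conj_apply, ← map_zpow, MulAut.conj_apply, hk]
        calc (a : G) * ((a : G) * x * (a : G)⁻¹) * (a : G)⁻¹ = ((a : G) * a) * x * ((a : G) * a)⁻¹ := by group
          _ = x := by rw [haa]; group
      have hmod : (k * k) % 11 = 1 := by
        have h4 : x ^ (k * k - 1) = 1 := by rw [zpow_sub, zpow_one, hkk, mul_inv_cancel]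
        have h5 := orderOf_dvd_iff_zpow_eq_one.2 h4
        rw [A.base.ox] at h5
        omega
      have hk11 : k % 11 = 1 ∨ k % 11 = 10 := by
        have := Int.emod_nonneg k (show (11 : ℤ) ≠ 0 by norm_num)
        have := Int.emod_lt_of_pos k (show (0 : ℤ) < 11 by norm_num)
        rw [Int.mul_emod] at hmod
        interval_cases hh : k % 11
        all_goals first | exact Or.inl rfl | exact Or.inr rfl | omega
      have hxk : x ^ k = x ^ (k % 11) := zpow_eq_zpow_emod' (n := 11) k (by rw [← A.base.ox, pow_orderOf_eq_one])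
      rcases hk11 with h | h
      · exfalso
        rw [h, zpow_one] at hxk
        rw [hxk] at hk
        have hO := A.stab_x_W haS R.μW (mem_cent.2 (mul_inv_eq_iff_eq_mul.1 hk.symm))
        have := Subgroup.orderOf_dvd_natCard O hO
        rw [ha2, A.base.core.card] at this
        norm_num at this
      · rw [← hk, hxk, h]
        refine eq_inv_of_mul_eq_one_left ?_
        have hp : x ^ 10 * x = 1 := by
          have h11 := pow_orderOf_eq_one x
          rw [A.base.ox] at h11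
          rwa [← pow_succ]
        exact_mod_cast hp
    have hax0 := hx0 _ a0.2 ha0
    set a := (a0 : ↥A.N)
    set OS := (O.subgroupOf A.N).subgroupOf S
    have hOS : OS.index = 2 := by
      have h1 := OS.card_mul_index
      rw [Nat.card_congr (Subgroup.subgroupOfEquivOfLe (show O.subgroupOf A.N ≤ S from fun y hy =>
        A.O_stab (Subgroup.mem_subgroupOf.1 hy) R.μ)).toEquiv,
        Nat.card_congr (Subgroup.subgroupOfEquivOfLe A.O_le).toEquiv, A.base.core.card, hS] at h1
      omega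
    rw [← A.card_invSet ha0 hax0, ← Nat.card_eq_finsetCard]
    symm
    have hmk : ∀ o : ↥(A.invSet a), (⟨((o : ↥O) : G) * (a : G), A.N.mul_mem (A.O_le (o : ↥O).2) a.2⟩ : ↥A.N) ∈
        Inv.filter fun b => b ∈ S := by
      intro o
      have hao : (a : G) * (o : ↥O) * (a : G)⁻¹ = ((o : ↥O) : G)⁻¹ := o.2
      have haa : (a : G) * a = 1 := by rw [← pow_two, ← ha0, pow_orderOf_eq_one]
      have hsq : (((o : ↥O) : G) * a) ^ 2 = 1 := by
        rw [pow_two]
        calc ((o : ↥O) : G) * a * (((o : ↥O) : G) * a)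
            = ((o : ↥O) : G) * ((a : G) * (o : ↥O) * (a : G)⁻¹) * ((a : G) * a) := by group
          _ = _ := by rw [hao, haa, mul_inv_cancel, one_mul]
      have hne : ((o : ↥O) : G) * a ≠ 1 := fun e => by
        have h := Subgroup.orderOf_dvd_natCard O (o : ↥O).2
        rw [eq_inv_of_mul_eq_one_left e, orderOf_inv, ha0, A.base.core.card] at h
        norm_num at h
      have hS' : (⟨((o : ↥O) : G) * (a : G), A.N.mul_mem (A.O_le (o : ↥O).2) a.2⟩ : ↥A.N) ∈ S :=
        S.mul_mem (x := ⟨((o : ↥O) : G), A.O_le (o : ↥O).2⟩) (A.O_stab (o : ↥O).2 R.μ) a0.2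
      exact Finset.mem_filter.2 ⟨Finset.mem_filter.2 ⟨Finset.mem_univ _, orderOf_eq_prime hsq hne,
        hx0 _ hS' (orderOf_eq_prime hsq hne)⟩, hS'⟩
    refine Nat.card_congr (Equiv.ofBijective (fun o => ⟨_, hmk o⟩) ⟨fun p q h => ?_, fun b => ?_⟩)
    · have h1 : ((p : ↥O) : G) * a = ((q : ↥O) : G) * a := congrArg (fun u => ((u.1 : ↥A.N) : G)) h
      exact Subtype.ext (Subtype.ext (mul_right_cancel h1))
    · obtain ⟨hb, hbS⟩ := Finset.mem_filter.1 b.2
      obtain ⟨-, hb2, hbx⟩ := Finset.mem_filter.1 hb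
      have hnotO : ∀ y : ↥A.N, (y : G) * x * (y : G)⁻¹ = x⁻¹ → (y : G) ∉ O := fun y hy h => by
        rw [A.base.x_central h, mul_inv_cancel_right] at hy
        exact A.base.xne (A.base.not_two x A.base.core.mem (by nth_rw 2 [hy]; exact mul_inv_cancel x))
      have hprod := (Subgroup.mul_mem_iff_of_index_two hOS (a := (⟨b.1, hbS⟩ : ↥S)) (b := a0⁻¹)).2
        (iff_of_false (fun h => hnotO b.1 hbx h) (fun h => hnotO a hax0 (inv_mem_iff.1 h)))
      have hoO : ((b.1 : ↥A.N) : G) * (a : G)⁻¹ ∈ O := hprod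
      have hainv : (a : G)⁻¹ = a := inv_eq_of_mul_eq_one_right (by rw [← pow_two, ← ha0, pow_orderOf_eq_one])
      have hbinv : ((b.1 : ↥A.N) : G)⁻¹ = b.1 := inv_eq_of_mul_eq_one_right (by rw [← pow_two, ← hb2, pow_orderOf_eq_one])
      refine ⟨⟨⟨_, hoO⟩, ?_⟩, Subtype.ext (Subtype.ext (by simp))⟩
      show (a : G) * (((b.1 : ↥A.N) : G) * (a : G)⁻¹) * (a : G)⁻¹ = (((b.1 : ↥A.N) : G) * (a : G)⁻¹)⁻¹
      calc (a : G) * (((b.1 : ↥A.N) : G) * (a : G)⁻¹) * (a : G)⁻¹
          = (a : G) * (b.1 : ↥A.N) * ((a : G) * a)⁻¹ := by group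
        _ = (a : G) * (b.1 : ↥A.N) := by rw [← pow_two, ← ha0, pow_orderOf_eq_one]; group
        _ = _ := by rw [mul_inv_rev, hbinv, inv_inv]
  have hswap : ∑ o : ↥O, f o * (n o : ℂ) = -14641 := by
    rw [Finset.sum_congr rfl (g := fun o => ∑ a ∈ Inv, if o ∈ A.invSet a then f o else 0) fun o _ => ?_,
      Finset.sum_comm, Finset.sum_congr rfl fun a ha => (Finset.sum_filter _ _).symm.trans (hterm a ha),
      ← Finset.sum_filter, Finset.sum_const, hcount, nsmul_eq_mul]
    · norm_num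
    by_cases ho : (o : G) ∈ A.W
    · simp [hfW o ho]
    · rw [← Finset.sum_filter, Finset.sum_const, nsmul_eq_mul, hn o ho, mul_comm]
  -- compare with the class multiplication formula
  have hidx : ((Subgroup.centralizer ({t} : Set G)).index : ℂ) = 86775571046077562880 / 1816657920 := by
    have h := (cent t).card_mul_index
    rw [A.base.loc.ct, A.base.loc.card] at h
    have h' : (1816657920 : ℂ) * ((Subgroup.centralizer ({t} : Set G)).index : ℂ) = 86775571046077562880 := by
      exact_mod_cast h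
    rw [← h', mul_div_cancel_left₀ _ (by norm_num)]
  have hexp : ∑ o : ↥O, f o * (n o : ℂ) = (86775571046077562880 / 1816657920 : ℂ) *
      (86775571046077562880 / 1816657920) / 86775571046077562880 *
      (1331 * ∑ χ : IrrCharacter G, (A.F R 0 χ : ℂ) * ((χ : G → ℂ) t * (χ : G → ℂ) t / (χ : G → ℂ) 1)) := by
    have hG : (Nat.card G : ℂ) = 86775571046077562880 := by rw [A.base.loc.card]; norm_num
    simp only [n, Char.class_mult, hidx, hG, Finset.mul_sum]
    rw [Finset.sum_comm]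
    refine Finset.sum_congr rfl fun χ _ => ?_
    have hcoef : ∑ o : ↥O, f o * conj ((χ : G → ℂ) (o : G)) = 1331 * (A.F R 0 χ : ℂ) := by
      have h := A.coef (R.l 0) R.μ χ
      rw [Char.frobenius_reciprocity O _ (Char.isClassFunction_of_isCharacter (Char.isCharacter_of_isIrr χ.2)),
        classInner, A.base.core.card, ← hf] at h
      rw [F, ← h, ← mul_assoc]
      norm_num
    calc ∑ o : ↥O, f o * ((86775571046077562880 / 1816657920 : ℂ) *
          (86775571046077562880 / 1816657920) / 86775571046077562880 *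
          ((χ : G → ℂ) t * (χ : G → ℂ) t * conj ((χ : G → ℂ) (o : G)) / (χ : G → ℂ) 1))
        = (86775571046077562880 / 1816657920 : ℂ) * (86775571046077562880 / 1816657920) / 86775571046077562880 *
          ((χ : G → ℂ) t * (χ : G → ℂ) t / (χ : G → ℂ) 1) * ∑ o : ↥O, f o * conj ((χ : G → ℂ) (o : G)) := by
          rw [Finset.mul_sum]
          exact Finset.sum_congr rfl fun o _ => by ring
      _ = _ := by rw [hcoef]; ring
  rw [hswap] at hexp
  set X := ∑ χ : IrrCharacter G, (A.F R 0 χ : ℂ) * ((χ : G → ℂ) t * (χ : G → ℂ) t / (χ : G → ℂ) 1)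
  field_simp at hexp ⊢
  linear_combination -(1 / 1331 : ℂ) * hexp

end AbBase

end CfsgLib.JFourPrime
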