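import Mathlib

/-!
# No three degrees fit the abelian case
-/

set_option autoImplicit false
set_option maxRecDepth 100000

namespace CfsgLib.JFourPrime.Degrees

/-- The prime powers of the order. -/
def factors : List (ℕ × ℕ) :=
  [(2, 21), (3, 3), (5, 1), (7, 1), (11, 3), (23, 1), (29, 1), (31, 1), (37, 1), (43, 1)]

/-- The divisors of a product of prime powers. -/
def divs : List (ℕ × ℕ) → List ℕ
  | [] => [1]
  | (p, k) :: l => (List.range (k + 1)).flatMap fun i => (divs l).map fun d => p ^ i * d

theorem mem_divs : ∀ (l : List (ℕ × ℕ)), (∀ q ∈ l, q.1.Prime) → ∀ d,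
    d ∣ (l.map fun q => q.1 ^ q.2).prod → d ∈ divs l
  | [], _, d, h => by simpa [divs] using h
  | (p, k) :: l, hp, d, h => by
    rw [List.map_cons, List.prod_cons] at h
    obtain ⟨u, v, hu, hv, rfl⟩ := Nat.dvd_mul.1 h
    obtain ⟨i, hi, rfl⟩ := (Nat.dvd_prime_pow (hp (p, k) List.mem_cons_self)).1 hu
    simp only [divs, List.mem_flatMap, List.mem_range, List.mem_map]
    exact ⟨i, Nat.lt_succ_of_le hi, v, mem_divs l (fun q hq => hp q (List.mem_cons_of_mem _ hq)) v hv, rfl⟩

/-- The residue at a large prime is `0`, `1` or `-1`. -/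
def okAt (p : ℕ) (d : ℕ) : Bool := d % p == 0 || d % p == 1 || d % p == p - 1

/-- The divisors passing the test at the large primes. -/
def cands : List ℕ :=
  (divs factors).filter fun d =>
    okAt 23 d && okAt 29 d && okAt 31 d && okAt 37 d && okAt 43 d && decide (d * d ≤ 86775571046077562880)

theorem mem_cands {d : ℕ} (h : d ∣ 86775571046077562880) (hs : d * d ≤ 86775571046077562880)
    (hp : ∀ p ∈ [23, 29, 31, 37, 43], d % p = 0 ∨ d % p = 1 ∨ d % p = p - 1) : d ∈ cands := by
  have hd : d ∈ divs factors := mem_divs factors (by simp [factors]; norm_num) d (by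
    simpa [factors] using h)
  have hk : ∀ p ∈ [23, 29, 31, 37, 43], okAt p d = true := fun p hpm => by
    simp only [okAt, Bool.or_eq_true, beq_iff_eq]
    rcases hp p hpm with h | h | h <;> simp [h]
  simp only [cands, List.mem_filter, Bool.and_eq_true, decide_eq_true_eq]
  exact ⟨hd, ⟨⟨⟨⟨hk 23 (by simp), hk 29 (by simp)⟩, hk 31 (by simp)⟩, hk 37 (by simp)⟩, hk 43 (by simp)⟩, hs⟩

/-- The representative of a residue modulo `1331` of least absolute value. -/
def small (v : ℤ) : ℤ := if v % 1331 ≤ 665 then v % 1331 else v % 1331 - 1331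

theorem small_eq {v w : ℤ} (h : v ≡ w [ZMOD 1331]) (hw : w * w ≤ 2662) : small v = w := by
  have h1 : -51 ≤ w := by nlinarith
  have h2 : w ≤ 51 := by nlinarith
  have h' : v % 1331 = w % 1331 := h
  unfold small
  split_ifs <;> omega

/-- Both signs. -/
def signed : List ℤ := cands.flatMap fun d : ℕ => [(d : ℤ), -(d : ℤ)]

theorem mem_signed {d : ℤ} (h : d.natAbs ∈ cands) : d ∈ signed := by
  simp only [signed, List.mem_flatMap, List.mem_cons, List.not_mem_nil, or_false]
  exact ⟨d.natAbs, h, by omega⟩

/-- The candidates for the exceptional degree. -/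
def first : List ℤ := signed.filter fun d => decide (5 * (small (d - 242) * small (d - 242)) ≤ 2662)

/-- The candidates for the other degrees. -/
def second : List ℤ := signed.filter fun d => decide (small (d + 121) * small (d + 121) ≤ 2662)

/-- A triple is impossible: the norm is too large, or a number which should be a square is none. -/
def bad (d a : ℤ) : Bool :=
  decide (-d - a ∉ second) ||
    decide (2662 < 5 * (small (d - 242) * small (d - 242)) + small (a + 121) * small (a + 121) +
      small (-d - a + 121) * small (-d - a + 121)) ||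
    [13, 17, 19, 41, 59].any fun p : ℕ => (List.range p).all fun r =>
      decide ((r : ℤ) * r % p ≠ (11 * 86775571046077562880 * 1816657920 ^ 2 * d * a * (-d - a)) % p)

theorem all_bad : (first.all fun d => second.all fun a => bad d a) = true := by decide +kernel

/-- No three degrees fit. -/
theorem no_triple {d a b w u v f : ℤ} (hd : d.natAbs ∈ cands) (ha : a.natAbs ∈ cands) (hb : b.natAbs ∈ cands)
    (hsum : d + a + b = 0) (hw : d ≡ w + 242 [ZMOD 1331]) (hu : a ≡ u - 121 [ZMOD 1331])
    (hv : b ≡ v - 121 [ZMOD 1331]) (hn : 5 * (w * w) + u * u + v * v ≤ 2662)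
    (hf : f * f * 86775571046077562880 = 11 * 1816657920 ^ 2 * d * a * b) : False := by
  have hw0 : small (d - 242) = w := small_eq (by simpa using hw.sub_right 242)
    (by nlinarith [mul_self_nonneg w, mul_self_nonneg u, mul_self_nonneg v])
  have hu0 : small (a + 121) = u := small_eq (by simpa using hu.add_right 121)
    (by nlinarith [mul_self_nonneg w, mul_self_nonneg u, mul_self_nonneg v])
  have hv0 : small (b + 121) = v := small_eq (by simpa using hv.add_right 121)
    (by nlinarith [mul_self_nonneg w, mul_self_nonneg u, mul_self_nonneg v])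
  have hb' : -d - a = b := by omega
  have h1 : d ∈ first := List.mem_filter.2 ⟨mem_signed hd, by
    rw [hw0, decide_eq_true_eq]; nlinarith [mul_self_nonneg u, mul_self_nonneg v]⟩
  have h2 : a ∈ second := List.mem_filter.2 ⟨mem_signed ha, by
    rw [hu0, decide_eq_true_eq]; nlinarith [mul_self_nonneg w, mul_self_nonneg v]⟩
  have h3 : b ∈ second := List.mem_filter.2 ⟨mem_signed hb, by
    rw [hv0, decide_eq_true_eq]; nlinarith [mul_self_nonneg w, mul_self_nonneg u]⟩
  have h := List.all_eq_true.1 (List.all_eq_true.1 all_bad d h1) a h2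
  simp only [bad, hb', hw0, hu0, hv0, Bool.or_eq_true, decide_eq_true_eq] at h
  rcases h with (h | h) | h
  · exact h h3
  · omega
  obtain ⟨p, hp, h⟩ := List.any_eq_true.1 h
  rw [List.all_eq_true] at h
  have hp0 : (0 : ℤ) < p := by
    simp only [List.mem_cons, List.not_mem_nil, or_false] at hp
    rcases hp with rfl | rfl | rfl | rfl | rfl <;> norm_num
  set g := f * 86775571046077562880
  have hg : g * g = 11 * 86775571046077562880 * 1816657920 ^ 2 * d * a * b := by
    linear_combination (86775571046077562880 : ℤ) * hf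
  have hr := h (g % p).toNat (List.mem_range.2 (by have := Int.emod_lt_of_pos g hp0; omega))
  rw [decide_eq_true_eq] at hr
  apply hr
  rw [Int.toNat_of_nonneg (Int.emod_nonneg _ hp0.ne'), ← Int.mul_emod, hg]

end CfsgLib.JFourPrime.Degrees
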