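import Cfsg.Agent.Lib.JFourPrime.AbelianLocal
import Cfsg.Agent.Lib.Char.TIAbelianTwo

/-!
# The normalizer on the linear characters of an abelian `O`
-/

set_option autoImplicit false
set_option maxRecDepth 100000
set_option linter.style.haveILetI false
set_option linter.unusedSectionVars false

open Cfsg
open scoped ComplexConjugate

namespace CfsgLib.JFourPrime

universe u

variable {G : Type u} [Group G] [Finite G] {z π t : G} {E : Subgroup G}

/-- The linear characters of a subgroup. -/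
abbrev Dual (O : Subgroup G) := ↥O →* ℂˣ

namespace Dual

/-- The normalizer acts on the linear characters. -/
@[reducible] def action (O : Subgroup G) : MulAction ↥(Subgroup.normalizer (O : Set G)) (Dual O) where
  smul y l := l.comp (Subgroup.normalizerMonoidHom O y⁻¹).toMonoidHom
  one_smul l := by
    show l.comp (Subgroup.normalizerMonoidHom O 1⁻¹).toMonoidHom = l
    rw [inv_one, map_one]; rfl
  mul_smul a b l := by
    show l.comp (Subgroup.normalizerMonoidHom O (a * b)⁻¹).toMonoidHom =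
      (l.comp (Subgroup.normalizerMonoidHom O b⁻¹).toMonoidHom).comp
        (Subgroup.normalizerMonoidHom O a⁻¹).toMonoidHom
    rw [mul_inv_rev, map_mul]; rfl

attribute [local instance] action

theorem smul_apply {O : Subgroup G} (y : ↥(Subgroup.normalizer (O : Set G))) (l : Dual O) (o : ↥O) :
    (y • l) o = l ⟨(y : G)⁻¹ * o * (y : G), (Subgroup.mem_normalizer_iff''.1 y.2 o).1 o.2⟩ := by
  show l ((Subgroup.normalizerMonoidHom O y⁻¹).toMonoidHom o) = _
  congr 1
  apply Subtype.ext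
  show ((y⁻¹ : ↥(Subgroup.normalizer (O : Set G))) : G) * o * ((y⁻¹ : ↥(Subgroup.normalizer (O : Set G))) : G)⁻¹ = _
  rw [Subgroup.coe_inv, inv_inv]

end Dual

attribute [local instance] Dual.action

namespace AbBase

variable {x : G} {O : Subgroup G} (A : AbBase z π t E x O)
include A

/-- The element `x` in `O`. -/
def xO (A : AbBase z π t E x O) : ↥O := ⟨x, A.base.core.mem⟩

/-- A linear character is trivial on `W`. -/
def killsW (A : AbBase z π t E x O) (l : Dual O) : Prop := ∀ w, ∀ hw : w ∈ A.W, l ⟨w, A.W_le hw⟩ = 1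

/-- A linear character is trivial on `⟨x⟩`. -/
def killsX (A : AbBase z π t E x O) (l : Dual O) : Prop := l A.xO = 1

theorem apply_pow (l : Dual O) {g : G} (hg : g ∈ Subgroup.zpowers x) :
    ∃ k : ℤ, g = x ^ k ∧ l ⟨g, A.zp_le hg⟩ = l A.xO ^ k := by
  obtain ⟨k, rfl⟩ := Subgroup.mem_zpowers_iff.1 hg
  refine ⟨k, rfl, ?_⟩
  rw [← map_zpow]
  rfl

/-- Two linear characters agree if they agree on `x` and on `W`. -/
theorem dual_ext {l m : Dual O} (hx : l A.xO = m A.xO)
    (hW : ∀ w, ∀ hw : w ∈ A.W, l ⟨w, A.W_le hw⟩ = m ⟨w, A.W_le hw⟩) : l = m := by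
  ext ⟨g, hg⟩
  obtain ⟨a, ha, w, hw, rfl⟩ := A.decomp hg
  obtain ⟨k, hk, h1⟩ := A.apply_pow l ha
  have h2 : m ⟨a, A.zp_le ha⟩ = m A.xO ^ k := by
    rw [← map_zpow]; exact congrArg m (Subtype.ext hk)
  have e : (⟨a * w, hg⟩ : ↥O) = ⟨a, A.zp_le ha⟩ * ⟨w, A.W_le hw⟩ := rfl
  rw [e, map_mul, map_mul, h1, h2, hx, hW w hw]

theorem mem_stab {y : ↥A.N} {l : Dual O} :
    y ∈ MulAction.stabilizer ↥A.N l ↔
      ∀ o, ∀ ho : o ∈ O, l ⟨(y : G) * o * (y : G)⁻¹, (Subgroup.mem_normalizer_iff.1 y.2 o).1 ho⟩ = l ⟨o, ho⟩ := by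
  rw [MulAction.mem_stabilizer_iff]
  constructor
  · intro h o ho
    have h1 := DFunLike.congr_fun h ⟨(y : G) * o * (y : G)⁻¹, (Subgroup.mem_normalizer_iff.1 y.2 o).1 ho⟩
    rw [Dual.smul_apply] at h1
    rw [← h1]
    congr 1
    apply Subtype.ext
    simp [mul_assoc]
  · intro h
    refine MonoidHom.ext fun o => ?_
    rw [Dual.smul_apply]
    have h1 := h ((y : G)⁻¹ * o * y) ((Subgroup.mem_normalizer_iff''.1 y.2 o).1 o.2)
    rw [← h1]
    congr 1
    apply Subtype.ext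
    simp [mul_assoc]

theorem O_stab {y : ↥A.N} (hy : (y : G) ∈ O) (l : Dual O) : y ∈ MulAction.stabilizer ↥A.N l := A.mem_stab.2 fun o ho => by
  congr 1
  exact Subtype.ext (show (y : G) * o * (y : G)⁻¹ = o by rw [A.comm _ hy _ ho, mul_inv_cancel_right])

/-- An element fixing a character which is not trivial on `W` fixes an element of `W`. -/
theorem exists_fixed {y : ↥A.N} {l : Dual O} (hy : y ∈ MulAction.stabilizer ↥A.N l) (hl : ¬ A.killsW l) :
    ∃ w ∈ A.W, w ≠ 1 ∧ (y : G) * w * (y : G)⁻¹ = w := by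
  by_contra hno
  push Not at hno
  have hy' := A.mem_stab.1 hy
  let φ : ↥A.W → ↥A.W := fun w =>
    ⟨(y : G) * w * (y : G)⁻¹ * (w : G)⁻¹, A.W.mul_mem (A.N_W y.2 w.2) (A.W.inv_mem w.2)⟩
  have hinj : Function.Injective φ := by
    intro a b hab
    have h : (y : G) * a * (y : G)⁻¹ * (a : G)⁻¹ = (y : G) * b * (y : G)⁻¹ * (b : G)⁻¹ := congrArg Subtype.val hab
    by_contra hne
    refine hno ((b : G)⁻¹ * a) (A.W.mul_mem (A.W.inv_mem b.2) a.2) (fun e => hne (Subtype.ext (inv_mul_eq_one.1 e).symm)) ?_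
    have hb := (A.N_W y.2 b.2).1
    have hco := A.comm _ (O.inv_mem hb) _ a.2.1
    calc (y : G) * ((b : G)⁻¹ * a) * (y : G)⁻¹
        = ((y : G) * b * (y : G)⁻¹)⁻¹ * ((y : G) * a * (y : G)⁻¹ * (a : G)⁻¹) * a := by group
      _ = ((y : G) * b * (y : G)⁻¹)⁻¹ * ((y : G) * b * (y : G)⁻¹ * (b : G)⁻¹) * a := by rw [h]
      _ = _ := by group
  refine hl fun v hv => ?_
  obtain ⟨w, hw⟩ := (Finite.injective_iff_surjective.1 hinj) ⟨v, hv⟩
  have e : (y : G) * w * (y : G)⁻¹ * (w : G)⁻¹ = v := congrArg Subtype.val hw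
  have e' : (⟨v, A.W_le hv⟩ : ↥O) = ⟨(y : G) * w * (y : G)⁻¹, (A.N_W y.2 w.2).1⟩ * (⟨w, A.W_le w.2⟩ : ↥O)⁻¹ :=
    Subtype.ext e.symm
  rw [e', map_mul, map_inv, hy' w w.2.1, mul_inv_cancel]

/-- An element fixing a character which is not trivial on `⟨x⟩` centralizes `x`. -/
theorem fix_x {y : ↥A.N} {l : Dual O} (hy : y ∈ MulAction.stabilizer ↥A.N l) (hl : ¬ A.killsX l) :
    (y : G) ∈ cent x := by
  obtain ⟨k, hk, hk'⟩ := A.apply_pow l (A.N_x y.2)
  have h := A.mem_stab.1 hy x A.base.core.mem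
  rw [hk'] at h
  have hord : orderOf (l A.xO) = 11 := by
    haveI := Fact.mk (show Nat.Prime 11 by norm_num)
    refine orderOf_eq_prime ?_ hl
    rw [← map_pow]
    convert map_one l
    exact Subtype.ext (by simp [xO, ← A.base.ox, pow_orderOf_eq_one])
  have h1 : (l A.xO) ^ (k - 1) = 1 := by
    rw [zpow_sub, zpow_one]
    exact mul_inv_eq_one.2 h
  have h2 := orderOf_dvd_iff_zpow_eq_one.2 h1
  rw [hord, ← A.base.ox, orderOf_dvd_iff_zpow_eq_one, zpow_sub, zpow_one, mul_inv_eq_one] at h2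
  rw [h2] at hk
  exact mem_cent.2 (mul_inv_eq_iff_eq_mul.1 hk)

theorem stab_x_W {y : ↥A.N} {l : Dual O} (hy : y ∈ MulAction.stabilizer ↥A.N l) (hl : ¬ A.killsW l)
    (hyx : (y : G) ∈ cent x) : (y : G) ∈ O := by
  obtain ⟨w, hw, hw1, hyw⟩ := A.exists_fixed hy hl
  obtain ⟨o, ho, a, ha, he, hact⟩ := A.N_split y.2
  rw [hact w hw.1] at hyw
  have hax : a ∈ cent x := by
    have := mul_mem (inv_mem (A.base.core.le ho)) hyx
    rwa [he, inv_mul_cancel_left] at this
  rw [he]
  exact O.mul_mem ho (A.zp_le (A.base.fix_x_f hw hw1 hax ha.2 (mem_cent.2 (mul_inv_eq_iff_eq_mul.1 hyw))))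

theorem card_stab_eq {l : Dual O} {K : Subgroup G} (hK : K ≤ A.N)
    (h : ∀ y : ↥A.N, y ∈ MulAction.stabilizer ↥A.N l ↔ (y : G) ∈ K) :
    Nat.card ↥(MulAction.stabilizer ↥A.N l) = Nat.card K := by
  rw [show MulAction.stabilizer ↥A.N l = K.subgroupOf A.N from
    Subgroup.ext fun y => (h y).trans Subgroup.mem_subgroupOf.symm]
  exact Nat.card_congr (Subgroup.subgroupOfEquivOfLe hK).toEquiv

theorem stab_mixed {l : Dual O} (hx : ¬ A.killsX l) (hW : ¬ A.killsW l) :
    Nat.card ↥(MulAction.stabilizer ↥A.N l) = 1331 := by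
  rw [A.card_stab_eq A.O_le fun y => ⟨fun hy => A.stab_x_W hy hW (A.fix_x hy hx), fun hy => A.O_stab hy l⟩,
    A.base.core.card]

theorem stab_alpha {l : Dual O} (hx : ¬ A.killsX l) (hW : A.killsW l) :
    Nat.card ↥(MulAction.stabilizer ↥A.N l) = 31944 := by
  rw [A.card_stab_eq A.cent_x_le fun y => ⟨fun hy => A.fix_x hy hx, fun hy => A.mem_stab.2 fun o ho => ?_⟩,
    A.base.core.card_cent]
  obtain ⟨a, ha, w, hw, rfl⟩ := A.decomp ho
  have hya : (y : G) * a * (y : G)⁻¹ = a := by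
    obtain ⟨i, rfl⟩ := Subgroup.mem_zpowers_iff.1 ha
    rw [((show Commute (y : G) x from mem_cent.1 hy).zpow_right i).eq, mul_inv_cancel_right]
  have e1 : (⟨(y : G) * (a * w) * (y : G)⁻¹, (Subgroup.mem_normalizer_iff.1 y.2 _).1 ho⟩ : ↥O) =
      ⟨a, A.zp_le ha⟩ * ⟨(y : G) * w * (y : G)⁻¹, (A.N_W y.2 hw).1⟩ :=
    Subtype.ext (by
      show (y : G) * (a * w) * (y : G)⁻¹ = a * ((y : G) * w * (y : G)⁻¹)
      nth_rw 2 [← hya]; group)
  rw [e1, show (⟨a * w, ho⟩ : ↥O) = ⟨a, A.zp_le ha⟩ * ⟨w, hw.1⟩ from rfl, map_mul, map_mul,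
    hW _ (A.N_W y.2 hw), hW w hw]

theorem card_dual : Nat.card (Dual O) = 1331 := by
  letI : CommGroup ↥O := { (inferInstance : Group ↥O) with mul_comm := fun a b => Subtype.ext (A.comm _ a.2 _ b.2) }
  rw [CommGroup.card_monoidHom_of_hasEnoughRootsOfUnity, A.base.core.card]

theorem orbit_card (l : Dual O) :
    (MulAction.orbit ↥A.N l).ncard * Nat.card ↥(MulAction.stabilizer ↥A.N l) = 319440 := by
  rw [← MulAction.index_stabilizer, mul_comm, Subgroup.card_mul_index, A.card_N]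

theorem killsW_smul {y : ↥A.N} {l : Dual O} (h : A.killsW l) : A.killsW (y • l) := fun w hw => by
  rw [Dual.smul_apply]
  refine h _ ?_
  have := A.N_W (inv_mem y.2) hw
  rwa [inv_inv] at this

theorem killsX_smul {y : ↥A.N} {l : Dual O} (h : A.killsX l) : A.killsX (y • l) := by
  obtain ⟨k, hk, hk'⟩ := A.apply_pow l (by simpa using A.N_x (inv_mem y.2) : (y : G)⁻¹ * x * y ∈ Subgroup.zpowers x)
  rw [killsX, Dual.smul_apply]
  exact hk'.trans (by rw [show l A.xO = 1 from h, one_zpow])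

theorem kills_orbit {l m : Dual O} (h : m ∈ MulAction.orbit ↥A.N l) :
    (A.killsW m ↔ A.killsW l) ∧ (A.killsX m ↔ A.killsX l) := by
  obtain ⟨y, rfl⟩ := h
  refine ⟨⟨fun h => ?_, A.killsW_smul⟩, ⟨fun h => ?_, A.killsX_smul⟩⟩
  · simpa using A.killsW_smul (y := y⁻¹) h
  · simpa using A.killsX_smul (y := y⁻¹) h

theorem W_restrict_surj (f : ↥A.W →* ℂˣ) :
    ∃ l : Dual O, A.killsX l ∧ ∀ w, ∀ hw : w ∈ A.W, l ⟨w, A.W_le hw⟩ = f ⟨w, hw⟩ := by
  classical
  have hd : ∀ g : ↥O, ∃ w : ↥A.W, ∃ a ∈ Subgroup.zpowers x, (g : G) = a * w := fun g => by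
    obtain ⟨a, ha, w, hw, e⟩ := A.decomp g.2; exact ⟨⟨w, hw⟩, a, ha, e⟩
  choose p q hq hpq using hd
  have hp : ∀ (g : ↥O) {a : G} {w : ↥A.W}, a ∈ Subgroup.zpowers x → (g : G) = a * w → p g = w := fun g a w ha e =>
    Subtype.ext (A.decomp_unique (hq g) ha (p g).2 w.2 ((hpq g).symm.trans e)).2
  refine ⟨{ toFun := fun g => f (p g), map_one' := ?_, map_mul' := fun g h => ?_ }, ?_, fun w hw => ?_⟩
  · rw [hp 1 (one_mem _) (w := 1) (by simp), map_one]
  · rw [← map_mul]
    congr 1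
    refine hp (g * h) (mul_mem (hq g) (hq h)) ?_
    rw [Subgroup.coe_mul, hpq g, hpq h, Subgroup.coe_mul]
    have hc : Commute ((p g : ↥A.W) : G) (q h) := A.comm _ (p g).2.1 _ (A.zp_le (hq h))
    calc q g * (p g : G) * (q h * (p h : G)) = q g * ((p g : G) * q h) * (p h : G) := by group
      _ = q g * (q h * (p g : G)) * (p h : G) := by rw [hc.eq]
      _ = _ := by group
  · show f (p A.xO) = 1
    rw [hp A.xO (Subgroup.mem_zpowers x) (w := 1) (by simp [xO]), map_one]
  · show f (p ⟨w, A.W_le hw⟩) = _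
    rw [hp ⟨w, A.W_le hw⟩ (one_mem _) (w := ⟨w, hw⟩) (by simp)]

theorem ncard_killsX : {l : Dual O | A.killsX l}.ncard = 121 := by
  classical
  rw [← A.card_W, ← Nat.card_coe_set_eq]
  letI : CommGroup ↥A.W := { (inferInstance : Group ↥A.W) with mul_comm := fun a b => Subtype.ext (A.comm _ a.2.1 _ b.2.1) }
  rw [← CommGroup.card_monoidHom_of_hasEnoughRootsOfUnity ↥A.W ℂ]
  refine Nat.card_congr (Equiv.ofBijective
    (fun l => (l.1).comp (Subgroup.inclusion A.W_le)) ⟨fun l m h => Subtype.ext ?_, fun f => ?_⟩)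
  · exact A.dual_ext (l.2.trans m.2.symm) fun w hw => DFunLike.congr_fun h ⟨w, hw⟩
  · obtain ⟨l, hl, hlW⟩ := A.W_restrict_surj f
    exact ⟨⟨l, hl⟩, MonoidHom.ext fun w => hlW w w.2⟩

theorem ncard_killsW : {l : Dual O | A.killsW l}.ncard ≤ 11 := by
  classical
  letI : CommGroup ↥(Subgroup.zpowers x) :=
    { (inferInstance : Group ↥(Subgroup.zpowers x)) with
      mul_comm := fun a b => Subtype.ext (A.comm _ (A.zp_le a.2) _ (A.zp_le b.2)) }
  have h := Nat.card_le_card_of_injective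
    (fun l : {l : Dual O | A.killsW l} => (l.1).comp (Subgroup.inclusion A.zp_le)) fun l m h => Subtype.ext
      (A.dual_ext (DFunLike.congr_fun h ⟨x, Subgroup.mem_zpowers x⟩) fun w hw => (l.2 w hw).trans (m.2 w hw).symm)
  rwa [CommGroup.card_monoidHom_of_hasEnoughRootsOfUnity, Nat.card_zpowers, A.base.ox, Nat.card_coe_set_eq] at h

theorem stab_mu {l : Dual O} (hx : A.killsX l) (hW : ¬ A.killsW l) :
    Nat.card ↥(MulAction.stabilizer ↥A.N l) = 2662 := by
  classical
  set S := MulAction.stabilizer ↥A.N l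
  set K := S.map A.N.subtype with hK
  have hcard : Nat.card K = Nat.card S := Subgroup.card_map_of_injective A.N.subtype_injective
  have hmemK : ∀ {g : G}, g ∈ K → ∃ y : ↥A.N, y ∈ S ∧ (y : G) = g := fun {g} hg => by
    obtain ⟨y, hy, rfl⟩ := hg; exact ⟨y, hy, rfl⟩
  have hOK : O ≤ K := fun o ho => ⟨⟨o, A.O_le ho⟩, A.O_stab ho l, rfl⟩
  have hfix : K ⊓ cent x = O := le_antisymm (fun g hg => by
    obtain ⟨y, hy, rfl⟩ := hmemK hg.1
    exact A.stab_x_W hy hW hg.2) fun o ho => ⟨hOK ho, A.base.core.le ho⟩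
  have hKN : ∀ g ∈ K, g * x * g⁻¹ ∈ Subgroup.zpowers x := fun g hg => by
    obtain ⟨y, -, rfl⟩ := hmemK hg; exact A.N_x y.2
  have horb := CfsgLib.JFour.card_orbit_mul K x
  rw [show K ⊓ Subgroup.centralizer ({x} : Set G) = O from hfix, A.base.core.card] at horb
  set o := Set.ncard {v : G | ∃ h ∈ K, h * x * h⁻¹ = v}
  have hKnx : K ≤ Subgroup.normalizer (Subgroup.zpowers x : Set G) := fun g hg =>
    Subgroup.mem_normalizer_iff.2 fun v => ⟨conj_zpowers_mem (hKN g hg) v, fun hv => by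
      have := conj_zpowers_mem (hKN g⁻¹ (inv_mem hg)) _ hv
      rwa [show g⁻¹ * (g * v * g⁻¹) * g⁻¹⁻¹ = v by group] at this⟩
  have ho10 : o ∣ 10 := by
    let f0 : ↥K →* MulAut ↥(Subgroup.zpowers x) :=
      (Subgroup.normalizerMonoidHom (Subgroup.zpowers x)).comp (Subgroup.inclusion hKnx)
    have hker : f0.ker = (cent x).subgroupOf K := by
      rw [← MonoidHom.comap_ker, Subgroup.normalizerMonoidHom_ker]
      ext a
      simp [Subgroup.mem_subgroupOf, Subgroup.zpowers_eq_closure, Subgroup.centralizer_closure]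
    have hN := f0.ker.card_mul_index
    rw [Subgroup.index_ker, hker, ← Subgroup.inf_subgroupOf_right,
      Nat.card_congr (Subgroup.subgroupOfEquivOfLe inf_le_right).toEquiv, inf_comm, hfix, A.base.core.card,
      ← horb] at hN
    have hd := f0.range.card_subgroup_dvd_card
    rw [IsCyclic.card_mulAut, Nat.card_zpowers, A.base.ox, Nat.totient_prime (by norm_num)] at hd
    rwa [show Nat.card ↥f0.range = o by omega] at hd
  have h5 : ¬ 5 ∣ o := fun h => by
    obtain ⟨s, hs⟩ := exists_prime_orderOf_dvd_card' (G := ↥K) 5 (hp := ⟨by norm_num⟩)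
      (horb ▸ Dvd.dvd.mul_right h _)
    rw [← Subgroup.orderOf_coe] at hs
    obtain ⟨y, hy, hys⟩ := hmemK s.2
    obtain ⟨w, hw, hw1, hyw⟩ := A.exists_fixed hy hW
    rw [hys, mul_inv_eq_iff_eq_mul] at hyw
    have hd := Subgroup.orderOf_dvd_natCard (cent (s : G)) (x := w) (mem_cent.2 hyw.symm)
    rw [A.base.loc.five _ hs, A.base.inverted_order hw hw1] at hd
    norm_num at hd
  have hsub : MulAction.orbit ↥A.N l ⊆ {m : Dual O | A.killsX m} \ {1} := fun m hm =>
    ⟨(A.kills_orbit hm).2.2 hx, fun e => hW ((A.kills_orbit hm).1.1 (by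
      rw [Set.mem_singleton_iff] at e; rw [e]; intro w hw; rfl))⟩
  have h120 : (MulAction.orbit ↥A.N l).ncard ≤ 120 := by
    refine (Set.ncard_le_ncard hsub (Set.toFinite _)).trans (le_of_eq ?_)
    rw [Set.ncard_sdiff (Set.singleton_subset_iff.2 (show (1 : Dual O) ∈ {m : Dual O | A.killsX m} from rfl)) (Set.toFinite _), A.ncard_killsX,
      Set.ncard_singleton]
  have ho := A.orbit_card l
  have hS : Nat.card S = o * 1331 := by rw [← hcard, ← horb]
  rw [hS] at ho ⊢
  have h2 : 2 ≤ o := by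
    by_contra h
    have := Nat.mul_le_mul h120 (Nat.mul_le_mul_right 1331 (show o ≤ 1 by omega))
    omega
  have := Nat.le_of_dvd (by norm_num) ho10
  interval_cases o <;> omega

theorem orbit_alpha {a l : Dual O} (hax : ¬ A.killsX a) (haW : A.killsW a) (hlx : ¬ A.killsX l) (hlW : A.killsW l) :
    l ∈ MulAction.orbit ↥A.N a := by
  have hsub : MulAction.orbit ↥A.N a ⊆ {m : Dual O | A.killsW m} \ {1} := fun m hm =>
    ⟨(A.kills_orbit hm).1.2 haW, fun e => hax ((A.kills_orbit hm).2.1 (by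
      rw [Set.mem_singleton_iff] at e; rw [e]; rfl))⟩
  have h := A.orbit_card a
  rw [A.stab_alpha hax haW] at h
  have h1 : ({m : Dual O | A.killsW m} \ {1}).ncard ≤ 10 := by
    rw [Set.ncard_sdiff (Set.singleton_subset_iff.2 (show (1 : Dual O) ∈ {m : Dual O | A.killsW m} from fun w hw => rfl)) (Set.toFinite _),
      Set.ncard_singleton]
    have := A.ncard_killsW
    omega
  rw [Set.eq_of_subset_of_ncard_le hsub (by omega) (Set.toFinite _)]
  exact ⟨hlW, fun e => hlx (by rw [Set.mem_singleton_iff] at e; rw [e]; rfl)⟩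

theorem orbit_mu {a l : Dual O} (hax : A.killsX a) (haW : ¬ A.killsW a) (hlx : A.killsX l) (hlW : ¬ A.killsW l) :
    l ∈ MulAction.orbit ↥A.N a := by
  have hsub : MulAction.orbit ↥A.N a ⊆ {m : Dual O | A.killsX m} \ {1} := fun m hm =>
    ⟨(A.kills_orbit hm).2.2 hax, fun e => haW ((A.kills_orbit hm).1.1 (by
      rw [Set.mem_singleton_iff] at e; rw [e]; intro w hw; rfl))⟩
  have h := A.orbit_card a
  rw [A.stab_mu hax haW] at h
  have h1 : ({m : Dual O | A.killsX m} \ {1}).ncard = 120 := by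
    rw [Set.ncard_sdiff (Set.singleton_subset_iff.2 (show (1 : Dual O) ∈ {m : Dual O | A.killsX m} from rfl)) (Set.toFinite _), A.ncard_killsX,
      Set.ncard_singleton]
  rw [Set.eq_of_subset_of_ncard_le hsub (by omega) (Set.toFinite _)]
  exact ⟨hlx, fun e => hlW (by rw [Set.mem_singleton_iff] at e; rw [e]; intro w hw; rfl)⟩

/-- Representatives of the orbits. -/
structure Reps (A : AbBase z π t E x O) where
  α : Dual O
  μ : Dual O
  l : Fin 5 → Dual O
  αx : ¬ A.killsX α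
  αW : A.killsW α
  μx : A.killsX μ
  μW : ¬ A.killsW μ
  lx : ∀ i, ¬ A.killsX (l i)
  lW : ∀ i, ¬ A.killsW (l i)
  sep : ∀ i j, l i ∈ MulAction.orbit ↥A.N (l j) → i = j
  agree : ∀ w, ∀ hw : w ∈ A.W, μ ⟨w, A.W_le hw⟩ = l 0 ⟨w, A.W_le hw⟩
  all : ∀ m, ¬ A.killsX m → ¬ A.killsW m → ∃ i, m ∈ MulAction.orbit ↥A.N (l i)

theorem exists_reps : Nonempty A.Reps := by
  classical
  haveI : Fintype (Dual O) := @Fintype.ofFinite _ (Nat.finite_of_card_ne_zero (by rw [A.card_dual]; norm_num))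
  have hW121 := A.ncard_killsX
  have hL11 := A.ncard_killsW
  set M := Finset.univ.filter fun m : Dual O => ¬ A.killsX m ∧ ¬ A.killsW m with hM
  have hXW : ({m : Dual O | A.killsX m} ∩ {m | A.killsW m}) = {1} := Set.eq_singleton_iff_unique_mem.2
    ⟨⟨rfl, fun w hw => rfl⟩, fun m hm => A.dual_ext (m := 1) hm.1 fun w hw => hm.2 w hw⟩
  have hMc : 1200 ≤ M.card := by
    have h1 := Set.ncard_union_add_ncard_inter {m : Dual O | A.killsX m} {m | A.killsW m}
    rw [hXW, Set.ncard_singleton] at h1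
    have h2 : ({m : Dual O | A.killsX m} ∪ {m | A.killsW m})ᶜ = ↑M := by ext; simp [M]
    have h3 := Set.ncard_add_ncard_compl ({m : Dual O | A.killsX m} ∪ {m | A.killsW m})
    rw [h2, Set.ncard_coe_finset, A.card_dual] at h3
    omega
  have hMle : M.card ≤ 1200 := by
    have h1 := Set.ncard_union_add_ncard_inter {m : Dual O | A.killsX m} {m | A.killsW m}
    rw [hXW, Set.ncard_singleton] at h1
    have h2 : ({m : Dual O | A.killsX m} ∪ {m | A.killsW m})ᶜ = ↑M := by ext; simp [M]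
    have h3 := Set.ncard_add_ncard_compl ({m : Dual O | A.killsX m} ∪ {m | A.killsW m})
    rw [h2, Set.ncard_coe_finset, A.card_dual] at h3
    have h4 : {m : Dual O | A.killsW m}.ncard = 11 := by
      obtain ⟨m, hm⟩ : ∃ m : Dual O, ¬ A.killsX m ∧ A.killsW m := by
        letI : CommGroup ↥O :=
          { (inferInstance : Group ↥O) with mul_comm := fun a b => Subtype.ext (A.comm _ a.2 _ b.2) }
        obtain ⟨φ, hφ⟩ := CommGroup.exists_apply_ne_one_of_hasEnoughRootsOfUnity ↥O ℂ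
          (show A.xO ≠ 1 from fun e => A.base.xne (congrArg Subtype.val e))
        obtain ⟨m, hm, hmW⟩ := A.W_restrict_surj (φ.comp (Subgroup.inclusion A.W_le))
        refine ⟨φ * m⁻¹, fun h => hφ ?_, fun w hw => ?_⟩
        · have h' : φ A.xO * (m A.xO)⁻¹ = 1 := h
          rwa [show m A.xO = 1 from hm, inv_one, mul_one] at h'
        · rw [MonoidHom.mul_apply, MonoidHom.inv_apply, hmW w hw]
          exact mul_inv_cancel _
      refine le_antisymm hL11 ?_
      have h := A.orbit_card m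
      rw [A.stab_alpha hm.1 hm.2] at h
      have hsub : MulAction.orbit ↥A.N m ⊆ {m : Dual O | A.killsW m} \ {1} := fun n hn =>
        ⟨(A.kills_orbit hn).1.2 hm.2, fun e => hm.1 ((A.kills_orbit hn).2.1 (by
          rw [Set.mem_singleton_iff] at e; rw [e]; rfl))⟩
      have h5 := Set.ncard_le_ncard hsub (Set.toFinite _)
      rw [Set.ncard_sdiff (Set.singleton_subset_iff.2 (show (1 : Dual O) ∈ {m : Dual O | A.killsW m} from fun w hw => rfl)) (Set.toFinite _),
        Set.ncard_singleton] at h5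
      omega
    omega
  let f : Dual O → Finset (Dual O) := fun m => Finset.univ.filter fun n => n ∈ MulAction.orbit ↥A.N m
  have hfib : ∀ m ∈ M, M.filter (fun n => f n = f m) = f m := by
    intro m hm
    simp only [hM, Finset.mem_filter, Finset.mem_univ, true_and] at hm
    ext n
    simp only [hM, Finset.mem_filter, Finset.mem_univ, true_and, f]
    constructor
    · rintro ⟨-, he⟩
      have hn : n ∈ Finset.univ.filter fun k => k ∈ MulAction.orbit ↥A.N m := by
        rw [← he]; simp [MulAction.mem_orbit_self]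
      simpa using hn
    · intro hn
      refine ⟨⟨fun h => hm.1 ((A.kills_orbit hn).2.1 h), fun h => hm.2 ((A.kills_orbit hn).1.1 h)⟩, ?_⟩
      exact Finset.filter_congr fun k _ => by rw [MulAction.orbit_eq_iff.2 hn]
  have hf240 : ∀ m ∈ M, (f m).card = 240 := fun m hm => by
    simp only [hM, Finset.mem_filter, Finset.mem_univ, true_and] at hm
    have h := A.orbit_card m
    rw [A.stab_mixed hm.1 hm.2] at h
    rw [← Set.ncard_coe_finset, show (↑(f m) : Set (Dual O)) = MulAction.orbit ↥A.N m by ext; simp [f]]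
    omega
  have h5 : (M.image f).card = 5 := by
    have h := Finset.card_eq_sum_card_image f M
    rw [Finset.sum_congr rfl (g := fun _ => 240) fun T hT => by
      obtain ⟨m, hm, rfl⟩ := Finset.mem_image.1 hT
      rw [hfib m hm]; exact hf240 m hm, Finset.sum_const, smul_eq_mul] at h
    omega
  let e : Fin 5 ≃ ↥(M.image f) := ((M.image f).equivFinOfCardEq h5).symm
  have hl : ∀ i, ∃ m ∈ M, f m = (e i : Finset (Dual O)) := fun i => Finset.mem_image.1 (e i).2
  choose l hlM hlf using hl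
  have hlM' : ∀ i, ¬ A.killsX (l i) ∧ ¬ A.killsW (l i) := fun i => by simpa [hM] using hlM i
  obtain ⟨μ, hμx, hμ⟩ := A.W_restrict_surj ((l 0).comp (Subgroup.inclusion A.W_le))
  obtain ⟨α, hα⟩ : ∃ a : Dual O, ¬ A.killsX a ∧ A.killsW a := by
    refine ⟨l 0 * μ⁻¹, fun h => (hlM' 0).1 ?_, fun w hw => ?_⟩
    · have h' : l 0 A.xO * (μ A.xO)⁻¹ = 1 := h
      rwa [show μ A.xO = 1 from hμx, inv_one, mul_one] at h'
    · rw [MonoidHom.mul_apply, MonoidHom.inv_apply, hμ w hw]
      exact mul_inv_cancel _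
  refine ⟨{ α := α, μ := μ, l := l, αx := hα.1, αW := hα.2, μx := hμx, μW := fun h => (hlM' 0).2 fun w hw => ?_,
            lx := fun i => (hlM' i).1, lW := fun i => (hlM' i).2, sep := fun i j h => ?_, agree := hμ,
            all := fun m h1 h2 => ?_ }⟩
  · exact (hμ w hw).symm.trans (h w hw)
  · refine e.injective (Subtype.ext ?_)
    rw [← hlf i, ← hlf j]
    exact Finset.filter_congr fun k _ => by rw [MulAction.orbit_eq_iff.2 h]
  · obtain ⟨i, hi⟩ := e.surjective ⟨f m, Finset.mem_image.2 ⟨m, by simp [hM, h1, h2], rfl⟩⟩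
    refine ⟨i, ?_⟩
    have h : m ∈ f m := by simp [f, MulAction.mem_orbit_self]
    rw [show f m = f (l i) by rw [hlf i, hi]] at h
    simpa [f] using h

end AbBase

end CfsgLib.JFourPrime
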