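import Cfsg.Agent.Lib.Char.TIVectors

/-!
# Five integral vectors of norm three with products two
-/

set_option autoImplicit false

namespace CfsgLib.JFourPrime.Vectors

variable {ι : Type*} [Fintype ι] [DecidableEq ι]

/-- The shape of five vectors of norm three with pairwise products two and product zero with a positive
vector. -/
structure Shape (F : Fin 5 → ι → ℤ) (d : ι → ℤ) where
  p : ι
  q : Fin 4 → ι
  a : ι
  b : ι
  ε : ℤ
  δa : ℤ
  δb : ℤ
  hε : ε = 1 ∨ ε = -1
  hδa : δa = 1 ∨ δa = -1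
  hδb : δb = 1 ∨ δb = -1
  qinj : Function.Injective q
  qp : ∀ s, q s ≠ p
  ab : a ≠ b
  ap : a ≠ p
  bp : b ≠ p
  aq : ∀ s, q s ≠ a
  bq : ∀ s, q s ≠ b
  hF : ∀ i, F 0 i = (if i = p then ε else 0) + (if i = a then δa else 0) + (if i = b then δb else 0)
  Kp : ∑ i, F i p = ε
  Kq : ∀ s, ∑ i, F i (q s) = ε
  Ka : ∑ i, F i a = 5 * δa
  Kb : ∑ i, F i b = 5 * δb
  dq : ∀ s, d (q s) = d p
  same : ∀ V : ι → ℤ, (∀ i, ∑ j, V j * F i j = ∑ j, V j * F 0 j) → ∀ s, V (q s) = V p

theorem exists_shape (F : Fin 5 → ι → ℤ) (d : ι → ℤ) (hg : ∀ i j, ∑ k, F i k * F j k = if i = j then 3 else 2)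
    (hd : ∀ i, 0 < d i) (hFd : ∀ i, ∑ k, F i k * d k = 0) : Nonempty (Shape F d) := by
  classical
  set D : Fin 5 → ι → ℤ := fun s k => F s k - F 0 k with hD
  set S := (Finset.univ : Finset (Fin 5)).erase 0 with hS
  have hDD : ∀ s ∈ S, ∀ t ∈ S, ∑ k, D s k * D t k = if s = t then 2 else 1 := by
    intro s hs t ht
    have hs0 : s ≠ 0 := (Finset.mem_erase.1 hs).1
    have ht0 : t ≠ 0 := (Finset.mem_erase.1 ht).1
    have e : ∑ k, D s k * D t k = ∑ k, F s k * F t k - ∑ k, F s k * F 0 k - ∑ k, F 0 k * F t k + ∑ k, F 0 k * F 0 k := by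
      simp only [← Finset.sum_sub_distrib, ← Finset.sum_add_distrib]
      exact Finset.sum_congr rfl fun k _ => by simp only [hD]; ring
    rw [e, hg, hg, hg, hg, if_neg hs0, if_neg ht0.symm, if_pos rfl]
    split_ifs <;> norm_num
  obtain ⟨p, v, hv, hall⟩ := CfsgLib.Char.TIVectors.common_entry S D (fun a b => a = b)
    (fun s _ t _ h => by rw [h]) (by decide) (fun s hs => by rw [hDD s hs s hs, if_pos rfl])
    (fun s hs t ht h => by rw [hDD s hs t ht, if_neg h]) ⟨1, by decide⟩
  have hq : ∀ s ∈ S, ∃ q, q ≠ p ∧ D s q = -v ∧ d q = d p ∧ ∀ k, k ≠ p → k ≠ q → D s k = 0 := by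
    intro s hs
    have h2 : ∑ k, D s k * D s k = 2 := by rw [hDD s hs s hs, if_pos rfl]
    have hc := CfsgLib.Char.TIVectors.card_supp h2
    set T := Finset.univ.filter fun k => D s k ≠ 0
    have hp : p ∈ T := by
      have := (hall s hs).1
      simp [T, this]
      rcases hv with rfl | rfl <;> norm_num
    obtain ⟨q, hq⟩ := Finset.card_eq_one.1 (show (T.erase p).card = 1 by rw [Finset.card_erase_of_mem hp, hc])
    have hqT : q ∈ T.erase p := hq.ge (Finset.mem_singleton_self q)
    obtain ⟨hqp, hqT'⟩ := Finset.mem_erase.1 hqT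
    have hz : ∀ k, k ≠ p → k ≠ q → D s k = 0 := fun k hk1 hk2 => by
      by_contra h
      exact hk2 (Finset.mem_singleton.1 (hq.le (Finset.mem_erase.2 ⟨hk1, by simp [T, h]⟩)))
    have hsum : v * d p + D s q * d q = 0 := by
      have h0 : ∑ k, D s k * d k = 0 := by
        simp only [hD, sub_mul, Finset.sum_sub_distrib, hFd, sub_zero]
      rw [← Finset.add_sum_erase _ _ (Finset.mem_univ p), ← Finset.add_sum_erase _ _
        (Finset.mem_erase.2 ⟨hqp, Finset.mem_univ q⟩), Finset.sum_eq_zero, add_zero, (hall s hs).1] at h0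
      · exact h0
      · intro k hk
        simp only [Finset.mem_erase] at hk
        rw [hz k hk.2.1 hk.1, zero_mul]
    have hDq := CfsgLib.Char.TIVectors.abs_le_one (D := D s) (by rw [h2]; norm_num) q
    have := hd p
    have := hd q
    refine ⟨q, hqp, ?_, ?_, hz⟩ <;> rcases hv with rfl | rfl <;>
      rcases hDq with h | h | h <;> simp only [h] at hsum ⊢ <;> omega
  have : Nonempty ι := ⟨p⟩
  choose! qf hqp hqv hqd hqz using hq
  set e : Fin 4 → Fin 5 := Fin.succ
  have he : ∀ s, e s ∈ S := fun s => Finset.mem_erase.2 ⟨Fin.succ_ne_zero s, Finset.mem_univ _⟩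
  have hDv : ∀ s, ∀ k, D (e s) k = (if k = p then v else 0) + (if k = qf (e s) then -v else 0) := by
    intro s k
    by_cases h1 : k = p
    · subst h1; rw [if_pos rfl, if_neg (hqp _ (he s)).symm, add_zero]; exact (hall _ (he s)).1
    by_cases h2 : k = qf (e s)
    · subst h2; rw [if_neg h1, if_pos rfl, zero_add]; exact hqv _ (he s)
    · rw [if_neg h1, if_neg h2, hqz _ (he s) k h1 h2, add_zero]
  have hv0 : v ≠ 0 := by rcases hv with rfl | rfl <;> norm_num
  have hinj : Function.Injective fun s => qf (e s) := by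
    intro s t (h : qf (e s) = qf (e t))
    by_contra hne
    have hne' : e s ≠ e t := fun e' => hne (Fin.succ_injective _ e')
    refine hqp _ (he s) ((hall _ (he s)).2 _ (he t) hne' _ ?_ ?_)
    · rw [hqv _ (he s)]; omega
    · rw [h, hqv _ (he t)]; omega
  have hval : ∀ (V : ι → ℤ) (s : Fin 4), ∑ k, V k * D (e s) k = v * (V p - V (qf (e s))) := fun V s => by
    simp only [hDv, mul_add, Finset.sum_add_distrib, mul_ite, mul_zero, Finset.sum_ite_eq', Finset.mem_univ,
      if_true]
    ring
  have hF0q : ∀ s, F 0 (qf (e s)) = F 0 p + v := by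
    intro s
    have h := hval (F 0) s
    have h' : ∑ k, F 0 k * D (e s) k = -1 := by
      simp only [hD, mul_sub, Finset.sum_sub_distrib, hg]
      simp [e, (Fin.succ_ne_zero s).symm]
    rw [h'] at h
    rcases hv with rfl | rfl <;> omega
  have hnorm : F 0 p * F 0 p + 4 * ((F 0 p + v) * (F 0 p + v)) ≤ 3 := by
    have h := hg 0 0
    rw [if_pos rfl] at h
    rw [← h, ← Finset.add_sum_erase _ _ (Finset.mem_univ p)]
    refine add_le_add le_rfl ?_
    have hsub : Finset.univ.image (fun s => qf (e s)) ⊆ Finset.univ.erase p := fun k hk => by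
      obtain ⟨s, -, rfl⟩ := Finset.mem_image.1 hk
      exact Finset.mem_erase.2 ⟨hqp _ (he s), Finset.mem_univ _⟩
    refine le_trans (le_of_eq ?_) (Finset.sum_le_sum_of_subset_of_nonneg hsub fun k _ _ => mul_self_nonneg _)
    rw [Finset.sum_image hinj.injOn]
    simp only [hF0q, Finset.sum_const, Finset.card_univ, Fintype.card_fin, nsmul_eq_mul]
    norm_num
  have hFp : F 0 p = -v := by
    have h1 : -1 ≤ F 0 p + v := by nlinarith
    have h2 : F 0 p + v ≤ 1 := by nlinarith
    by_contra hne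
    have hc : F 0 p + v = 1 ∨ F 0 p + v = -1 := by omega
    rcases hc with h | h <;> rw [h] at hnorm <;> nlinarith
  have hF0q' : ∀ s, F 0 (qf (e s)) = 0 := fun s => by rw [hF0q, hFp]; ring
  set R : ι → ℤ := fun k => if k = p then 0 else F 0 k
  have hR2 : ∑ k, R k * R k = 2 := by
    have h := hg 0 0
    rw [if_pos rfl, ← Finset.add_sum_erase _ _ (Finset.mem_univ p), hFp] at h
    rw [← Finset.add_sum_erase _ _ (Finset.mem_univ p)]
    have hvv : -v * -v = 1 := by rcases hv with rfl | rfl <;> norm_num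
    simp only [R, if_true, mul_zero, zero_add]
    rw [Finset.sum_congr rfl fun k hk => by rw [if_neg (Finset.mem_erase.1 hk).1]]
    omega
  obtain ⟨a, b, hab, hsupp⟩ := Finset.card_eq_two.1 (CfsgLib.Char.TIVectors.card_supp hR2)
  have hmem : ∀ k, R k ≠ 0 ↔ k = a ∨ k = b := fun k => by
    have := Finset.ext_iff.1 hsupp k
    simpa using this
  have hRab := fun k => CfsgLib.Char.TIVectors.abs_le_one (D := R) (by rw [hR2]; norm_num) k
  have ha0 : R a ≠ 0 := (hmem a).2 (Or.inl rfl)
  have hb0 : R b ≠ 0 := (hmem b).2 (Or.inr rfl)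
  have hap : a ≠ p := fun h => ha0 (by simp [R, h])
  have hbp : b ≠ p := fun h => hb0 (by simp [R, h])
  have haq : ∀ s, qf (e s) ≠ a := fun s h => ha0 (by simp [R, ← h, hqp _ (he s), hF0q' s])
  have hbq : ∀ s, qf (e s) ≠ b := fun s h => hb0 (by simp [R, ← h, hqp _ (he s), hF0q' s])
  have hFK : ∀ k, ∑ i, F i k = 5 * F 0 k + ∑ s, D (e s) k := fun k => by
    rw [Fin.sum_univ_succ (f := fun i => F i k)]
    simp only [hD, e, Finset.sum_sub_distrib, Finset.sum_const, Finset.card_univ, Fintype.card_fin, nsmul_eq_mul]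
    push_cast
    ring
  refine ⟨{ p := p, q := fun s => qf (e s), a := a, b := b, ε := -v, δa := R a, δb := R b,
            hε := by rcases hv with rfl | rfl <;> simp,
            hδa := (hRab a).resolve_left ha0, hδb := (hRab b).resolve_left hb0,
            qinj := hinj, qp := fun s => hqp _ (he s), ab := hab, ap := hap, bp := hbp, aq := haq, bq := hbq,
            hF := fun k => ?_, Kp := ?_, Kq := fun s => ?_, Ka := ?_, Kb := ?_, dq := fun s => hqd _ (he s),
            same := fun V hV s => ?_ }⟩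
  · by_cases h : k = p
    · subst h; rw [if_pos rfl, if_neg hap.symm, if_neg hbp.symm, hFp]; ring
    rw [if_neg h, zero_add]
    have hk : R k = F 0 k := by simp [R, h]
    by_cases h1 : k = a
    · subst h1; rw [if_pos rfl, if_neg hab, add_zero, hk]
    by_cases h2 : k = b
    · subst h2; rw [if_neg h1, if_pos rfl, zero_add, hk]
    rw [if_neg h1, if_neg h2, add_zero, ← hk]
    by_contra hne
    exact (not_or.2 ⟨h1, h2⟩) ((hmem k).1 hne)
  · rw [hFK, hFp, Finset.sum_congr rfl fun s _ => (hall _ (he s)).1]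
    simp only [Finset.sum_const, Finset.card_univ, Fintype.card_fin, nsmul_eq_mul]
    push_cast
    ring
  · rw [hFK, hF0q', Finset.sum_eq_single s (fun t _ hts => hqz _ (he t) _ (hqp _ (he s))
      (fun h => hts (hinj h).symm)) (by simp), hqv _ (he s)]
    ring
  · rw [hFK, Finset.sum_eq_zero fun s _ => hqz _ (he s) a hap (haq s).symm, add_zero]
    simp [R, hap]
  · rw [hFK, Finset.sum_eq_zero fun s _ => hqz _ (he s) b hbp (hbq s).symm, add_zero]
    simp [R, hbp]
  · have h := hval V s
    simp only [hD, mul_sub, Finset.sum_sub_distrib, hV] at h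
    have := (mul_eq_zero.1 ((by linarith : v * (V p - V (qf (e s))) = 0))).resolve_left hv0
    linarith

end CfsgLib.JFourPrime.Vectors
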