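import Cfsg.Agent.Lib.BrauerTuan.Data
import Cfsg.Agent.Lib.JFourPrime.Defs

/-!
# The degrees modulo the large primes
-/

set_option autoImplicit false
set_option maxRecDepth 100000
set_option linter.style.haveILetI false
set_option linter.unusedSectionVars false

open Cfsg
open scoped CfsgLib.Char Classical

namespace CfsgLib.JFourPrime

universe u

variable {G : Type u} [Group G] [Fintype G]

/-- The pairs of a large prime and the index of the centralizer in the normalizer. -/
def bigPairs : List (ℕ × ℕ) := [(23, 22), (29, 28), (31, 10), (37, 12), (43, 14)]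

/-- The local facts at the large primes. -/
def LargeFacts (G : Type u) [Group G] : Prop :=
  ∀ pe ∈ bigPairs, ∃ U : Sylow pe.1 G, Nat.card (U : Subgroup G) = pe.1 ∧
    Subgroup.centralizer ((U : Subgroup G) : Set G) = (U : Subgroup G) ∧
    Nat.card ↥(Subgroup.normalizer ((U : Subgroup G) : Set G)) = pe.1 * pe.2

/-- The degree of an irreducible character. -/
noncomputable abbrev deg (χ : IrrCharacter G) : ℕ := charDegree (χ : G → ℂ)

/-- The residues at the large primes. -/
theorem residue [IsSimpleGroup G] (hG : ¬ IsCyclic G) (hL : LargeFacts G) {p e : ℕ} (hpe : (p, e) ∈ bigPairs) :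
    ∃ Y : Finset (IrrCharacter G), e * Y.card + 1 = p ∧
      (∀ φ ∈ Y, ∀ ψ ∈ Y, deg φ = deg ψ) ∧
      ∀ χ : IrrCharacter G, deg χ % p = 0 ∨ deg χ % p = 1 ∨ deg χ % p = p - 1 ∨
        (χ ∈ Y ∧ (deg χ % p = e ∨ deg χ % p = p - e)) := by
  obtain ⟨U, hU, hC, hN⟩ : ∃ U : Sylow p G, Nat.card (U : Subgroup G) = p ∧
      Subgroup.centralizer ((U : Subgroup G) : Set G) = (U : Subgroup G) ∧
      Nat.card ↥(Subgroup.normalizer ((U : Subgroup G) : Set G)) = p * e := hL _ hpe
  have hp : p.Prime := by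
    simp only [bigPairs, List.mem_cons, List.not_mem_nil, or_false, Prod.mk.injEq] at hpe
    rcases hpe with ⟨rfl, -⟩ | ⟨rfl, -⟩ | ⟨rfl, -⟩ | ⟨rfl, -⟩ | ⟨rfl, -⟩ <;> norm_num
  haveI := Fact.mk hp
  obtain ⟨D⟩ := BrauerTuan.nonempty_data hG U hU
  have he : D.e = e := by
    have h1 := (Subgroup.normalizer ((U : Subgroup G) : Set G)).card_mul_index
    have hi : (Subgroup.normalizer ((U : Subgroup G) : Set G)).index = 1 + D.n * p :=
      U.card_eq_index_normalizer.symm.trans D.card_sylow
    rw [hN, hi] at h1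
    have h2 := D.card_G
    rw [hC, hU, ← h1] at h2
    have h3 : 0 < (1 + D.n * p) * p := Nat.mul_pos (by omega) hp.pos
    refine Nat.eq_of_mul_eq_mul_right h3 ?_
    rw [← mul_assoc, ← h2]
    ring
  have hcard : e * D.Y.card + 1 = p := by rw [D.card_Y, ← he]; exact D.het
  have hep : 1 ≤ e ∧ e < p := by
    have h2 := D.two_le_e
    have h1 : 1 ≤ D.Y.card := D.card_Y.symm ▸ D.one_le_t
    have := Nat.le_mul_of_pos_right e h1
    omega
  refine ⟨D.Y, hcard, D.degY_eq, fun χ => ?_⟩
  have hmod : ∀ {a : ℤ}, (deg χ : ℤ) ≡ a [ZMOD p] → ∀ {r : ℕ}, r < p → a % p = (r : ℤ) → deg χ % p = r := by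
    intro a h r hr ha
    have h' : (deg χ : ℤ) % p = r := by rw [← ha]; exact h
    exact_mod_cast h'
  by_cases hX : χ ∈ D.X
  · rcases D.hδ χ hX with h | h
    · refine Or.inr (Or.inl (hmod (D.degX χ hX) hp.one_lt ?_))
      rw [h, Nat.cast_one]
      exact Int.emod_eq_of_lt (by norm_num) (by exact_mod_cast hp.one_lt)
    · refine Or.inr (Or.inr (Or.inl (hmod (D.degX χ hX) (by have := hp.pos; omega) ?_)))
      rw [h, Int.emod_eq_add_self_emod, Int.emod_eq_of_lt (by have := hp.two_le; omega) (by omega)]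
      have := hp.pos
      omega
  by_cases hY : χ ∈ D.Y
  · refine Or.inr (Or.inr (Or.inr ⟨hY, ?_⟩))
    have h := D.degY χ hY
    rw [he] at h
    rcases D.hε with h' | h'
    · refine Or.inl (hmod h hep.2 ?_)
      rw [h', one_mul]
      exact Int.emod_eq_of_lt (by omega) (by omega)
    · refine Or.inr (hmod h (by omega) ?_)
      rw [h', neg_one_mul, Int.emod_eq_add_self_emod, Int.emod_eq_of_lt (by omega) (by omega)]
      omega
  · refine Or.inl (Nat.mod_eq_zero_of_dvd ?_)
    -- the character vanishes on the nontrivial elements of `U`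
    have hv := D.out hC χ hX hY
    haveI : Fintype ↥(U : Subgroup G) := Fintype.ofFinite _
    obtain ⟨m, hm⟩ := Char.exists_nat_classInner (Char.isCharacter_restrict (U : Subgroup G)
      (Char.isCharacter_of_isIrr χ.2)) (Char.isCharacter_one (G := ↥(U : Subgroup G)))
    refine ⟨m, ?_⟩
    rw [classInner, Finset.sum_eq_single (1 : ↥(U : Subgroup G)) (fun v _ hv1 => by
      rw [hv (v : G) v.2 (fun h => hv1 (Subtype.ext h)), zero_mul]) (by simp), hU, OneMemClass.coe_one,
      map_one, mul_one, (Blocks.irr_degree_eq χ).1] at hm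
    have hp0 : ((p : ℕ) : ℂ) ≠ 0 := Nat.cast_ne_zero.mpr hp.pos.ne'
    have h' : (deg χ : ℂ) = (p : ℂ) * m := by rw [← hm, mul_inv_cancel_left₀ hp0]
    exact_mod_cast h'

end CfsgLib.JFourPrime
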