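import Cfsg.Agent.Lib.JFourPrime.AbelianChar
import Cfsg.Agent.Lib.JFourPrime.AbelianVectors
import Cfsg.Agent.Lib.JFourPrime.AbelianDegrees
import Cfsg.Agent.Lib.JFourPrime.LargeDegree

/-!
# The Sylow subgroup of order `11 ^ 3` is not abelian
-/

set_option autoImplicit false
set_option maxRecDepth 100000
set_option linter.style.haveILetI false
set_option linter.unusedSectionVars false

open Cfsg
open scoped ComplexConjugate CfsgLib.Char Classical

namespace CfsgLib.JFourPrime

universe u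

variable {G : Type u} [Group G] [Fintype G] {z π t : G} {E : Subgroup G}

/-- A residue is `0`, `1` or `-1`. -/
def IsTiny (p r : ℕ) : Prop := r % p = 0 ∨ r % p = 1 ∨ r % p = p - 1

instance (p r : ℕ) : Decidable (IsTiny p r) := by unfold IsTiny; infer_instance

/-- An exceptional residue is neither the sum of two tiny ones nor half of one. -/
theorem residue_check : ∀ pe ∈ bigPairs, ∀ k ∈ [pe.2, pe.1 - pe.2], ¬ IsTiny pe.1 k →
    (∀ i ∈ [(-2 : ℤ), -1, 0, 1, 2], ((k : ℤ) - i) % (pe.1 : ℤ) ≠ 0) ∧ ¬ IsTiny pe.1 (2 * k) := by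
  decide +kernel

theorem tiny_int {p d : ℕ} (hp : 0 < p) (h : IsTiny p d) :
    ∃ i : ℤ, -1 ≤ i ∧ i ≤ 1 ∧ (p : ℤ) ∣ (d : ℤ) - i := by
  have h0 : ((d % p : ℕ) : ℤ) = (d : ℤ) % p := Int.natCast_mod d p
  rcases h with h | h | h
  · exact ⟨0, by norm_num, by norm_num, by rw [sub_zero]; exact Int.dvd_of_emod_eq_zero (by rw [← h0, h]; rfl)⟩
  · refine ⟨1, by norm_num, by norm_num, ⟨(d : ℤ) / p, ?_⟩⟩
    have h1 := Int.emod_add_ediv_mul (d : ℤ) p
    rw [← h0, h] at h1
    push_cast at h1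
    linarith
  · refine ⟨-1, by norm_num, by norm_num, ⟨(d : ℤ) / p + 1, ?_⟩⟩
    have h1 := Int.emod_add_ediv_mul (d : ℤ) p
    rw [← h0, h, Nat.cast_sub hp] at h1
    push_cast at h1
    linarith

namespace AbBase

variable {x : G} {O : Subgroup G} [Fintype ↥O] (A : AbBase z π t E x O)
include A

theorem deg_le (χ : IrrCharacter G) :
    deg χ ∣ 86775571046077562880 ∧ deg χ * deg χ ≤ 86775571046077562880 := by
  refine ⟨?_, ?_⟩
  · obtain ⟨n, hn, -, hd⟩ := Char.exists_degree_dvd_card (G := G) χ.2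
    rw [(Blocks.irr_degree_eq χ).1, Nat.cast_inj] at hn
    rw [A.base.loc.card] at hd
    exact (show deg χ = n from hn) ▸ hd
  have h := Char.sum_sq_degree (G := G)
  simp only [fun ψ : IrrCharacter G => (Blocks.irr_degree_eq ψ).1, A.base.loc.card] at h
  have h' : ∑ ψ : IrrCharacter G, deg ψ ^ 2 = 86775571046077562880 := by exact_mod_cast h
  rw [← h', ← pow_two]
  exact Finset.single_le_sum (f := fun ψ => deg ψ ^ 2) (fun ψ _ => Nat.zero_le _) (Finset.mem_univ χ)

/-- The Sylow subgroup is not abelian. -/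
theorem false_of_large [IsSimpleGroup G] (hG : ¬ IsCyclic G) (hL : LargeFacts G) : False := by
  obtain ⟨R⟩ := A.exists_reps
  obtain ⟨gF, gPF, gQF, gPP, gQQ, gPQ⟩ := A.gram_values R
  have hFd : ∀ i, ∑ χ, A.F R i χ * (deg χ : ℤ) = 0 := fun i => by
    have h := A.sum_coef_value R i 1 (Or.inl rfl)
    simp only [fun χ : IrrCharacter G => (Blocks.irr_degree_eq χ).1] at h
    exact_mod_cast h
  obtain ⟨S⟩ := Vectors.exists_shape (A.F R) (fun χ => (deg χ : ℤ)) gF
    (fun χ => by exact_mod_cast (Blocks.irr_degree_eq χ).2) hFd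
  -- the characters carrying the sums
  set K : IrrCharacter G → ℤ := fun χ => ∑ i, A.F R i χ
  set w : IrrCharacter G → ℤ := fun χ => A.P R χ + 10 * A.Q R χ - 2 * K χ
  have hwsum : ∑ χ, w χ * w χ = 2662 := by
    have hPK : ∑ χ, A.P R χ * K χ = 10 := by
      simp only [K, Finset.mul_sum]
      rw [Finset.sum_comm]
      simp only [gPF, Finset.sum_const, Finset.card_univ, Fintype.card_fin]
      norm_num
    have hQK : ∑ χ, A.Q R χ * K χ = 10 := by
      simp only [K, Finset.mul_sum]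
      rw [Finset.sum_comm]
      simp only [gQF, Finset.sum_const, Finset.card_univ, Fintype.card_fin]
      norm_num
    have hKK : ∑ χ, K χ * K χ = 55 := by
      simp only [K, Finset.sum_mul_sum]
      rw [Finset.sum_comm]
      simp_rw [Finset.sum_comm (s := (Finset.univ : Finset (IrrCharacter G))), gF]
      decide
    have e : ∀ χ, w χ * w χ = A.P R χ * A.P R χ + 100 * (A.Q R χ * A.Q R χ) + 20 * (A.P R χ * A.Q R χ) -
        4 * (A.P R χ * K χ) - 40 * (A.Q R χ * K χ) + 4 * (K χ * K χ) := fun χ => by simp only [w]; ring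
    simp only [e, Finset.sum_sub_distrib, Finset.sum_add_distrib, ← Finset.mul_sum, gPP, gQQ, gPQ, hPK, hQK, hKK]
    norm_num
  have hdeg : ∀ χ, (deg χ : ℤ) = 1331 * A.mult R.μ χ + w χ + 242 * K χ := fun χ => by
    have h := A.degree R χ
    rw [(Blocks.irr_degree_eq χ).1] at h
    have h' : (deg χ : ℤ) = 1331 * A.mult R.μ χ + A.P R χ + 10 * A.Q R χ + 240 * ∑ i, A.F R i χ := by
      exact_mod_cast h
    rw [h']; simp only [w, K]; ring
  have hwq : ∀ s, w (S.q s) = w S.p := fun s => by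
    simp only [w, K, S.Kq s, S.Kp, S.same (A.P R) (fun i => by rw [gPF, gPF]) s,
      S.same (A.Q R) (fun i => by rw [gQF, gQF]) s]
  -- the seven characters
  set Q7 : Finset (IrrCharacter G) := insert S.a (insert S.b (insert S.p (Finset.univ.image S.q))) with hQ7
  have hsum7 : ∑ χ ∈ Q7, w χ * w χ = w S.a * w S.a + (w S.b * w S.b + (w S.p * w S.p + 4 * (w S.p * w S.p))) := by
    rw [hQ7, Finset.sum_insert (by simp [S.ab, S.ap, S.aq]), Finset.sum_insert (by simp [S.bp, S.bq]),
      Finset.sum_insert (by simp [S.qp]), Finset.sum_image S.qinj.injOn]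
    simp only [hwq, Finset.sum_const, Finset.card_univ, Fintype.card_fin, nsmul_eq_mul]
    push_cast
    ring
  have hle : ∑ χ ∈ Q7, w χ * w χ ≤ 2662 := hwsum ▸
    Finset.sum_le_sum_of_subset_of_nonneg (Finset.subset_univ _) fun χ _ _ => mul_self_nonneg _
  -- the signed degrees
  set d0 : ℤ := S.ε * deg S.p
  set da : ℤ := S.δa * deg S.a
  set db : ℤ := S.δb * deg S.b
  have hsum : d0 + da + db = 0 := by
    have h := hFd 0
    simp only [S.hF, add_mul, Finset.sum_add_distrib, ite_mul, zero_mul, Finset.sum_ite_eq', Finset.mem_univ,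
      if_true] at h
    exact h
  have hε2 : S.ε * S.ε = 1 := by rcases S.hε with h | h <;> rw [h] <;> norm_num
  have hδa2 : S.δa * S.δa = 1 := by rcases S.hδa with h | h <;> rw [h] <;> norm_num
  have hδb2 : S.δb * S.δb = 1 := by rcases S.hδb with h | h <;> rw [h] <;> norm_num
  have hw0 : d0 ≡ S.ε * w S.p + 242 [ZMOD 1331] := Int.modEq_iff_dvd.2 ⟨-(S.ε * A.mult R.μ S.p), by
    have := hdeg S.p
    simp only [d0, K, S.Kp] at this ⊢
    rw [this]; linear_combination (-242 : ℤ) * hε2⟩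
  have hwa : da ≡ S.δa * w S.a - 121 [ZMOD 1331] := Int.modEq_iff_dvd.2 ⟨-(S.δa * A.mult R.μ S.a) - 1, by
    have := hdeg S.a
    simp only [da, K, S.Ka] at this ⊢
    rw [this]; linear_combination (-1210 : ℤ) * hδa2⟩
  have hwb : db ≡ S.δb * w S.b - 121 [ZMOD 1331] := Int.modEq_iff_dvd.2 ⟨-(S.δb * A.mult R.μ S.b) - 1, by
    have := hdeg S.b
    simp only [db, K, S.Kb] at this ⊢
    rw [this]; linear_combination (-1210 : ℤ) * hδb2⟩
  have hnorm : 5 * (S.ε * w S.p * (S.ε * w S.p)) + S.δa * w S.a * (S.δa * w S.a) +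
      S.δb * w S.b * (S.δb * w S.b) ≤ 2662 := by
    rw [hsum7] at hle
    have e : ∀ s v : ℤ, s * s = 1 → s * v * (s * v) = v * v := fun s v h => by linear_combination (v * v) * h
    rw [e _ _ hε2, e _ _ hδa2, e _ _ hδb2]
    linarith
  have habs : ∀ {s : ℤ} {χ : IrrCharacter G}, s = 1 ∨ s = -1 → (s * (deg χ : ℤ)).natAbs = deg χ := by
    intro s χ h; rcases h with rfl | rfl <;> simp
  -- the residues
  have hres : ∀ pe ∈ bigPairs, IsTiny pe.1 (deg S.p) ∧ IsTiny pe.1 (deg S.a) ∧ IsTiny pe.1 (deg S.b) := by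
    intro pe hpe
    obtain ⟨Y, hY, hYeq, hY'⟩ := residue (p := pe.1) (e := pe.2) hG hL hpe
    have hp5 : 23 ≤ pe.1 ∧ 10 ≤ pe.2 ∧ pe.2 < pe.1 ∧ pe.1 ≤ 3 * pe.2 + 1 + 12 := by
      simp only [bigPairs, List.mem_cons, List.not_mem_nil, or_false] at hpe
      rcases hpe with rfl | rfl | rfl | rfl | rfl <;> norm_num
    have hY5 : Y.card < 5 := by nlinarith
    have h0 : IsTiny pe.1 (deg S.p) := by
      by_contra h
      have hsub : insert S.p (Finset.univ.image S.q) ⊆ Y := by
        intro χ hχ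
        have hd : deg χ = deg S.p := by
          rcases Finset.mem_insert.1 hχ with rfl | hχ
          · rfl
          · obtain ⟨s, -, rfl⟩ := Finset.mem_image.1 hχ
            exact_mod_cast S.dq s
        rcases hY' χ with h' | h' | h' | ⟨h', -⟩
        · exact absurd (Or.inl (hd ▸ h')) h
        · exact absurd (Or.inr (Or.inl (hd ▸ h'))) h
        · exact absurd (Or.inr (Or.inr (hd ▸ h'))) h
        · exact h'
      have := Finset.card_le_card hsub
      rw [Finset.card_insert_of_notMem (by simp [S.qp]), Finset.card_image_of_injective _ S.qinj,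
        Finset.card_univ, Fintype.card_fin] at this
      omega
    have hsp : ∀ χ, ¬ IsTiny pe.1 (deg χ) → χ ∈ Y ∧ deg χ % pe.1 ∈ [pe.2, pe.1 - pe.2] := fun χ h => by
      rcases hY' χ with h' | h' | h' | ⟨h', h''⟩
      · exact absurd (Or.inl h') h
      · exact absurd (Or.inr (Or.inl h')) h
      · exact absurd (Or.inr (Or.inr h')) h
      · exact ⟨h', by simpa using h''⟩
    have hp0 : (0 : ℕ) < pe.1 := by omega
    have hpos : 0 < deg S.p := (Blocks.irr_degree_eq S.p).2
    -- one special degree among three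
    have key : ∀ {χ ψ : IrrCharacter G} {s u : ℤ}, s = 1 ∨ s = -1 → u = 1 ∨ u = -1 →
        d0 + s * deg χ + u * deg ψ = 0 → ¬ IsTiny pe.1 (deg χ) → False := by
      intro χ ψ s u hs hu he hχ
      obtain ⟨hχY, hk⟩ := hsp χ hχ
      set k := deg χ % pe.1 with hk'
      have hkk : ¬ IsTiny pe.1 k := fun h => hχ (by
        unfold IsTiny at h ⊢
        rwa [hk', Nat.mod_mod] at h)
      obtain ⟨hc1, hc2⟩ := residue_check pe hpe k hk hkk
      by_cases hψ : IsTiny pe.1 (deg ψ)
      · obtain ⟨i, hi1, hi2, hid⟩ := tiny_int hp0 h0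
        obtain ⟨j, hj1, hj2, hjd⟩ := tiny_int hp0 hψ
        have hsv : s * s = 1 := by rcases hs with rfl | rfl <;> norm_num
        have hd : (pe.1 : ℤ) ∣ (k : ℤ) - (-(s * (S.ε * i + u * j))) := by
          have h1 : (pe.1 : ℤ) ∣ (deg χ : ℤ) - k := by
            rw [hk', Int.natCast_mod]; exact Int.modEq_iff_dvd.1 (Int.mod_modEq _ _)
          have h2 : (pe.1 : ℤ) ∣ -((deg χ : ℤ) - k) + (-(s * S.ε)) * ((deg S.p : ℤ) - i) +
              (-(s * u)) * ((deg ψ : ℤ) - j) :=
            dvd_add (dvd_add h1.neg_right (hid.mul_left _)) (hjd.mul_left _)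
          convert h2 using 1
          have he' : S.ε * (deg S.p : ℤ) + s * deg χ + u * deg ψ = 0 := he
          linear_combination s * he' - (deg χ : ℤ) * hsv
        refine hc1 _ ?_ (Int.emod_eq_zero_of_dvd hd)
        have hb : -2 ≤ -(s * (S.ε * i + u * j)) ∧ -(s * (S.ε * i + u * j)) ≤ 2 := by
          rcases hs with rfl | rfl <;> rcases hu with rfl | rfl <;> rcases S.hε with h | h <;> rw [h] <;> omega
        simp only [List.mem_cons, List.not_mem_nil, or_false]
        omega
      · have heq : deg χ = deg ψ := hYeq χ hχY ψ (hsp ψ hψ).1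
        have h2 : deg S.p = 2 * deg χ := by
          have he' : S.ε * (deg S.p : ℤ) + s * deg χ + u * deg ψ = 0 := he
          rw [← heq] at he'
          rcases hs with rfl | rfl <;> rcases hu with rfl | rfl <;> rcases S.hε with h | h <;> rw [h] at he' <;>
            omega
        refine hc2 ?_
        have e : 2 * (deg χ % pe.1) % pe.1 = deg S.p % pe.1 := by rw [h2, Nat.mul_mod_mod]
        unfold IsTiny at h0 ⊢
        rw [e]
        exact h0
    refine ⟨h0, ?_, ?_⟩
    · by_contra h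
      exact key S.hδa S.hδb hsum h
    · by_contra h
      refine key (ψ := S.a) S.hδb S.hδa ?_ h
      linarith
  have hcand : ∀ χ : IrrCharacter G, (∀ pe ∈ bigPairs, IsTiny pe.1 (deg χ)) → deg χ ∈ Degrees.cands := fun χ h =>
    Degrees.mem_cands (A.deg_le χ).1 (A.deg_le χ).2 fun p hp => by
      simp only [List.mem_cons, List.not_mem_nil, or_false] at hp
      rcases hp with rfl | rfl | rfl | rfl | rfl
      exacts [h (23, 22) (by simp [bigPairs]), h (29, 28) (by simp [bigPairs]), h (31, 10) (by simp [bigPairs]),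
        h (37, 12) (by simp [bigPairs]), h (43, 14) (by simp [bigPairs])]
  -- the values at the involution
  have hint := fun χ : IrrCharacter G => Blocks.InertiaNine.exists_int_invol (t := t)
    (by rw [← A.base.loc.ot, pow_orderOf_eq_one]) χ
  choose v hv using hint
  have hvsum : S.ε * v S.p + S.δa * v S.a + S.δb * v S.b = 0 := by
    have h := A.sum_coef_value R 0 t (Or.inr A.base.loc.ot)
    simp only [hv] at h
    have h' : ∑ χ, A.F R 0 χ * v χ = 0 := by exact_mod_cast h
    simpa only [S.hF, add_mul, Finset.sum_add_distrib, ite_mul, zero_mul, Finset.sum_ite_eq', Finset.mem_univ,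
      if_true] using h'
  have hpair := A.pair_equation R
  simp only [hv, fun χ : IrrCharacter G => (Blocks.irr_degree_eq χ).1, S.hF, Int.cast_add, Int.cast_ite,
    Int.cast_zero, add_mul, Finset.sum_add_distrib, ite_mul, zero_mul, Finset.sum_ite_eq', Finset.mem_univ,
    if_true] at hpair
  set X : ℤ := S.ε * v S.p
  set Y : ℤ := S.δa * v S.a
  refine Degrees.no_triple (d := d0) (a := da) (b := db) (f := X * da - Y * d0) ?_ ?_ ?_ hsum hw0 hwa hwb hnorm ?_
  · rw [habs S.hε]; exact hcand S.p fun pe h => (hres pe h).1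
  · rw [habs S.hδa]; exact hcand S.a fun pe h => (hres pe h).2.1
  · rw [habs S.hδb]; exact hcand S.b fun pe h => (hres pe h).2.2
  have hterm : ∀ {s : ℤ} {χ : IrrCharacter G}, s * s = 1 →
      (s : ℂ) * ((v χ : ℂ) * (v χ : ℂ) / (deg χ : ℂ)) =
        ((s * v χ : ℤ) : ℂ) * ((s * v χ : ℤ) : ℂ) / ((s * (deg χ : ℤ) : ℤ) : ℂ) := by
    intro s χ hs
    have hs' : (s : ℂ) * (s : ℂ) = 1 := by exact_mod_cast hs
    have hdne : (deg χ : ℂ) ≠ 0 := Nat.cast_ne_zero.mpr (Blocks.irr_degree_eq χ).2.ne'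
    have hsne : (s : ℂ) ≠ 0 := left_ne_zero_of_mul (hs'.trans_ne one_ne_zero)
    push_cast
    field_simp
  rw [hterm hε2, hterm hδa2, hterm hδb2] at hpair
  have hV : S.δb * v S.b = -X - Y := by linarith
  have hd0 : ∀ {s : ℤ} {χ : IrrCharacter G}, s * s = 1 → ((s * (deg χ : ℤ) : ℤ) : ℂ) ≠ 0 := fun {s χ} hs =>
    Int.cast_ne_zero.mpr (mul_ne_zero (left_ne_zero_of_mul (hs.trans_ne one_ne_zero))
      (by exact_mod_cast (Blocks.irr_degree_eq χ).2.ne'))
  have h0 : ((d0 : ℤ) : ℂ) ≠ 0 := hd0 hε2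
  have h1 : ((da : ℤ) : ℂ) ≠ 0 := hd0 hδa2
  have h2 : ((db : ℤ) : ℂ) ≠ 0 := hd0 hδb2
  change (X : ℂ) * X / (d0 : ℂ) + (Y : ℂ) * Y / (da : ℂ) +
    ((S.δb * v S.b : ℤ) : ℂ) * ((S.δb * v S.b : ℤ) : ℂ) / (db : ℂ) = _ at hpair
  rw [hV, show db = -d0 - da by linarith] at hpair
  rw [show db = -d0 - da by linarith] at h2 ⊢
  push_cast at hpair h2
  field_simp at hpair
  have key : (((X * da - Y * d0) * (X * da - Y * d0) * 86775571046077562880 : ℤ) : ℂ) =
      ((11 * 1816657920 ^ 2 * d0 * da * (-d0 - da) : ℤ) : ℂ) := by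
    push_cast
    linear_combination (-1 : ℂ) * hpair
  exact_mod_cast key

end AbBase

end CfsgLib.JFourPrime
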