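import Cfsg.Agent.Lib.JFourPrime.ElevenFusion

/-!
# The local structure if the Sylow subgroup of order `11 ^ 3` were abelian
-/

set_option autoImplicit false
set_option maxRecDepth 100000
set_option linter.style.haveILetI false
set_option linter.unusedSectionVars false

open Cfsg

namespace CfsgLib.JFourPrime

variable {G : Type*} [Group G] [Finite G] {z π t : G} {E : Subgroup G}

namespace Base

variable {x : G} {O : Subgroup G} (B : Base z π t E x O)
include B

/-- `Act` moves `x` to every other non-trivial power. -/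
theorem act_orbit_x :
    {v : G | ∃ h ∈ B.Act, h * x * h⁻¹ = v} = (Subgroup.zpowers x : Set G) \ {1} := by
  have hsub : {v : G | ∃ h ∈ B.Act, h * x * h⁻¹ = v} ⊆ (Subgroup.zpowers x : Set G) \ {1} := by
    rintro _ ⟨h, hh, rfl⟩
    refine ⟨(Subgroup.mem_normalizer_iff.1 hh.1 x).1 (Subgroup.mem_zpowers x), fun e => B.xne ?_⟩
    rw [Set.mem_singleton_iff, mul_inv_eq_one, mul_eq_left] at e
    exact e
  refine Set.eq_of_subset_of_ncard_le hsub ?_ (Set.toFinite _)
  have horb := CfsgLib.JFour.card_orbit_mul B.Act x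
  have hle : Nat.card ↥(B.Act ⊓ Subgroup.centralizer ({x} : Set G)) ≤ 264 := by
    rw [← B.loc.card_zx B.xpi B.ox]
    exact Subgroup.card_le_of_le fun a ha => ⟨ha.1.2, ha.2⟩
  rw [B.card_act] at horb
  rw [Set.ncard_sdiff (Set.singleton_subset_iff.2 (one_mem (Subgroup.zpowers x))) (Set.toFinite _),
    Set.ncard_singleton, ← Nat.card_coe_set_eq]
  show Nat.card ↥(Subgroup.zpowers x) - 1 ≤ _
  rw [Nat.card_zpowers, B.ox]
  by_contra h
  push Not at h
  have := Nat.mul_le_mul (Nat.lt_succ_iff.1 (show _ < 9 + 1 from h)) hle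
  omega

end Base

/-- The case of an abelian Sylow subgroup. -/
structure AbBase (z π t : G) (E : Subgroup G) (x : G) (O : Subgroup G) : Prop where
  base : Base z π t E x O
  comm : ∀ a ∈ O, ∀ b ∈ O, a * b = b * a

namespace AbBase

variable {x : G} {O : Subgroup G} (A : AbBase z π t E x O)
include A

/-- The inverted elements as a subgroup. -/
def W (A : AbBase z π t E x O) : Subgroup G where
  carrier := A.base.inverted
  one_mem' := A.base.one_inverted
  mul_mem' := fun {a b} ha hb => ⟨O.mul_mem ha.1 hb.1, by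
    rw [show z * (a * b) * z⁻¹ = (z * a * z⁻¹) * (z * b * z⁻¹) by group, ha.2, hb.2, mul_inv_rev]
    exact A.comm _ (O.inv_mem ha.1) _ (O.inv_mem hb.1)⟩
  inv_mem' := fun {a} ha => ⟨O.inv_mem ha.1, by
    rw [show z * a⁻¹ * z⁻¹ = (z * a * z⁻¹)⁻¹ by group, ha.2]⟩

theorem W_le : A.W ≤ O := fun _ h => h.1

theorem zp_le : Subgroup.zpowers x ≤ O := Subgroup.zpowers_le.2 A.base.core.mem

theorem W_disj {g : G} (hg : g ∈ Subgroup.zpowers x) (hW : g ∈ A.W) : g = 1 :=
  of_not_not fun h => A.base.inverted_not_mem hW h hg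

theorem decomp {g : G} (hg : g ∈ O) : ∃ l ∈ Subgroup.zpowers x, ∃ w ∈ A.W, g = l * w := by
  obtain ⟨w, hw, h⟩ := A.base.exists_inverted hg
  exact ⟨w⁻¹, inv_mem hw, g * w, h, by rw [A.comm g hg w (A.zp_le hw)]; group⟩

theorem decomp_unique {l l' w w' : G} (hl : l ∈ Subgroup.zpowers x) (hl' : l' ∈ Subgroup.zpowers x)
    (hw : w ∈ A.W) (hw' : w' ∈ A.W) (h : l * w = l' * w') : l = l' ∧ w = w' := by
  have e : l'⁻¹ * l = w' * w⁻¹ := by
    calc l'⁻¹ * l = l'⁻¹ * (l * w) * w⁻¹ := by group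
      _ = _ := by rw [h]; group
  have h1 := A.W_disj (mul_mem (inv_mem hl') hl) (e ▸ A.W.mul_mem hw' (A.W.inv_mem hw))
  have hll : l = l' := (inv_mul_eq_one.1 h1).symm
  exact ⟨hll, mul_left_cancel (hll ▸ h)⟩

theorem exists_W_ne : ∃ w ∈ A.W, w ≠ 1 := by
  by_contra h
  push Not at h
  have hle : O ≤ Subgroup.zpowers x := fun g hg => by
    obtain ⟨l, hl, w, hw, rfl⟩ := A.decomp hg
    rw [h w hw, mul_one]; exact hl
  have := Subgroup.card_le_of_le hle
  rw [A.base.core.card, Nat.card_zpowers, A.base.ox] at this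
  omega

theorem card_W : Nat.card A.W = 121 := by
  obtain ⟨w, hw, hw1⟩ := A.exists_W_ne
  exact (Nat.card_coe_set_eq _).trans (A.base.inverted_orbit hw hw1).2

theorem W_orbit {w v : G} (hw : w ∈ A.W) (hw1 : w ≠ 1) (hv : v ∈ A.W) (hv1 : v ≠ 1) :
    ∃ a ∈ A.base.Act, a * w * a⁻¹ = v :=
  (A.base.inverted_orbit hw hw1).1.ge ⟨hv, hv1⟩

theorem eleven {g : G} (hg : g ∈ O) (hg1 : g ≠ 1) : orderOf g = 11 := by
  haveI := Fact.mk (show Nat.Prime 11 by norm_num)
  obtain ⟨l, hl, w, hw, rfl⟩ := A.decomp hg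
  refine orderOf_eq_prime ?_ hg1
  have h1 : l ^ 11 = 1 := by
    rw [← orderOf_dvd_iff_pow_eq_one]
    have h := Subgroup.orderOf_dvd_natCard _ hl
    rwa [Nat.card_zpowers, A.base.ox] at h
  have h2 : w ^ 11 = 1 := by
    by_cases h : w = 1
    · rw [h, one_pow]
    · rw [← A.base.inverted_order hw h, pow_orderOf_eq_one]
  rw [(show Commute l w from A.comm l (A.zp_le hl) w hw.1).mul_pow, h1, h2, one_mul]

/-- Conjugation by `Act` respects the decomposition. -/
theorem act_fix {a l w : G} (ha : a ∈ A.base.Act) (hl : l ∈ Subgroup.zpowers x) (hw : w ∈ A.W)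
    (h : a * (l * w) * a⁻¹ = l * w) : a * l * a⁻¹ = l ∧ a * w * a⁻¹ = w := by
  refine A.decomp_unique (conj_zpowers_mem ((Subgroup.mem_normalizer_iff.1 ha.1 x).1 (Subgroup.mem_zpowers x)) l hl)
    hl (A.base.act_inverted ha hw) hw ?_
  rw [← h]; group

theorem mixed_stab {l w : G} (hl : l ∈ Subgroup.zpowers x) (hl1 : l ≠ 1) (hw : w ∈ A.W) (hw1 : w ≠ 1) :
    A.base.Act ⊓ cent (l * w) = Subgroup.zpowers x := by
  refine le_antisymm (fun a ha => ?_) (Subgroup.zpowers_le.2 ⟨⟨Subgroup.le_normalizer (Subgroup.mem_zpowers x),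
    A.base.x_mem⟩, mem_cent.2 (mem_cent.1 (A.base.core.le (O.mul_mem (A.zp_le hl) hw.1))).symm⟩)
  obtain ⟨h1, h2⟩ := A.act_fix ha.1 hl hw (mul_inv_eq_iff_eq_mul.2 (mem_cent.1 ha.2))
  have hax : a ∈ cent x := by
    rw [← A.base.cent_eq_of_mem hl hl1]
    exact mem_cent.2 (mul_inv_eq_iff_eq_mul.1 h1)
  exact A.base.fix_x_f hw hw1 hax ha.1.2 (mem_cent.2 (mul_inv_eq_iff_eq_mul.1 h2))

/-- The normalizer of `O`. -/
abbrev N (_A : AbBase z π t E x O) : Subgroup G := Subgroup.normalizer (O : Set G)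

theorem mem_N_of_conj {a : G} (h : ∀ g ∈ O, a * g * a⁻¹ ∈ O) : a ∈ A.N := by
  classical
  have := Fintype.ofFinite G
  exact Subgroup.mem_normalizer_fintype fun g hg => h g hg

theorem act_le : A.base.Act ≤ A.N := fun _ ha => A.mem_N_of_conj fun _ hg => A.base.act_O ha hg

theorem cent_x_le : cent x ≤ A.N := fun _ ha => A.mem_N_of_conj fun _ hg => A.base.core.normal _ ha _ hg

theorem O_le : O ≤ A.N := Subgroup.le_normalizer

/-- A set invariant under `Act` whose orbits have orders divisible by `d`. -/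
theorem dvd_ncard {d : ℕ} (R : Set G) (hR : ∀ a ∈ A.base.Act, ∀ v ∈ R, a * v * a⁻¹ ∈ R)
    (hd : ∀ v ∈ R, d ∣ Set.ncard {u : G | ∃ h ∈ A.base.Act, h * v * h⁻¹ = u}) : d ∣ R.ncard := by
  classical
  have := Fintype.ofFinite G
  let f : G → Finset G := fun v => Finset.univ.filter fun u => ∃ h ∈ A.base.Act, h * v * h⁻¹ = u
  have hRf : R = ↑(Finset.univ.filter fun v => v ∈ R) := by ext; simp
  rw [hRf, Set.ncard_coe_finset, Finset.card_eq_sum_card_image f]
  refine Finset.dvd_sum fun T hT => ?_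
  simp only [Finset.mem_image, Finset.mem_filter, Finset.mem_univ, true_and] at hT
  obtain ⟨v, hv, rfl⟩ := hT
  have hfib : (Finset.univ.filter fun v => v ∈ R).filter (fun u => f u = f v) = f v := by
    ext u
    simp only [Finset.mem_filter, Finset.mem_univ, true_and, f]
    constructor
    · rintro ⟨-, he⟩
      have hu : u ∈ Finset.univ.filter fun w => ∃ h ∈ A.base.Act, h * v * h⁻¹ = w := by
        rw [← he]; simp only [Finset.mem_filter, Finset.mem_univ, true_and]
        exact ⟨1, one_mem _, by group⟩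
      simpa using hu
    · rintro ⟨h, hh, rfl⟩
      refine ⟨hR h hh v hv, Finset.filter_congr fun w _ => ?_⟩
      constructor
      · rintro ⟨k, hk, rfl⟩; exact ⟨k * h, mul_mem hk hh, by group⟩
      · rintro ⟨k, hk, rfl⟩; exact ⟨k * h⁻¹, mul_mem hk (inv_mem hh), by group⟩
  rw [hfib, show (f v).card = Set.ncard {u : G | ∃ h ∈ A.base.Act, h * v * h⁻¹ = u} by
    rw [← Set.ncard_coe_finset]; congr 1; ext; simp [f]]
  exact hd v hv

/-- The orbit of `x` under the normalizer. -/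
theorem orbit_x : {v : G | ∃ h ∈ A.N, h * x * h⁻¹ = v} = (Subgroup.zpowers x : Set G) \ {1} := by
  classical
  set Ox := {v : G | ∃ h ∈ A.N, h * x * h⁻¹ = v} with hOx
  set Lx := (Subgroup.zpowers x : Set G) \ {1} with hLx
  have hsub : Lx ⊆ Ox := by
    rw [hLx, ← A.base.act_orbit_x]
    rintro _ ⟨h, hh, rfl⟩
    exact ⟨h, A.act_le hh, rfl⟩
  have hsubO : Ox ⊆ (O : Set G) \ {1} := by
    rintro _ ⟨h, hh, rfl⟩
    refine ⟨(Subgroup.mem_normalizer_iff.1 hh x).1 A.base.core.mem, fun e => A.base.xne ?_⟩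
    rw [Set.mem_singleton_iff, mul_inv_eq_one, mul_eq_left] at e
    exact e
  have hR : 120 ∣ (Ox \ Lx).ncard := by
    refine A.dvd_ncard _ (fun a ha v hv => ?_) fun v hv => ?_
    · obtain ⟨⟨h, hh, rfl⟩, hvL⟩ := hv
      refine ⟨⟨a * h, A.N.mul_mem (A.act_le ha) hh, by group⟩, fun hL => hvL ?_⟩
      have h1 := conj_zpowers_mem (((Subgroup.mem_normalizer_iff.1 (inv_mem ha).1 x)).1 (Subgroup.mem_zpowers x)) _ hL.1
      refine ⟨by simpa [mul_assoc] using h1, fun e => hL.2 ?_⟩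
      rw [Set.mem_singleton_iff] at e ⊢
      rw [e, mul_one, mul_inv_cancel]
    · obtain ⟨l, hl, w, hw, rfl⟩ := A.decomp (hsubO hv.1).1
      have hw1 : w ≠ 1 := fun e => hv.2 ⟨by rw [e, mul_one]; exact hl, (hsubO hv.1).2⟩
      have horb := CfsgLib.JFour.card_orbit_mul A.base.Act (l * w)
      rw [A.base.card_act] at horb
      by_cases hl1 : l = 1
      · subst hl1
        rw [show Nat.card ↥(A.base.Act ⊓ Subgroup.centralizer ({1 * w} : Set G)) = 22 by
          rw [one_mul]; exact A.base.card_stab hw hw1] at horb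
        exact dvd_of_eq (by omega)
      · rw [show A.base.Act ⊓ Subgroup.centralizer ({l * w} : Set G) = _ from A.mixed_stab hl hl1 hw hw1,
          Nat.card_zpowers, A.base.ox] at horb
        exact ⟨2, by omega⟩
  obtain ⟨m, hm⟩ := hR
  have hL : Lx.ncard = 10 := by
    rw [hLx, Set.ncard_sdiff (Set.singleton_subset_iff.2 (one_mem (Subgroup.zpowers x))) (Set.toFinite _),
      Set.ncard_singleton, ← Nat.card_coe_set_eq]
    show Nat.card ↥(Subgroup.zpowers x) - 1 = 10
    rw [Nat.card_zpowers, A.base.ox]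
  have hcard := Set.ncard_sdiff_add_ncard_of_subset hsub (Set.toFinite Ox)
  rw [hL, hm] at hcard
  have hbound : Ox.ncard ≤ 1330 := by
    refine (Set.ncard_le_ncard hsubO (Set.toFinite _)).trans (le_of_eq ?_)
    rw [Set.ncard_sdiff (Set.singleton_subset_iff.2 O.one_mem) (Set.toFinite _), Set.ncard_singleton,
      ← Nat.card_coe_set_eq]
    show Nat.card ↥O - 1 = 1330
    rw [A.base.core.card]
  have horb := CfsgLib.JFour.card_orbit_mul A.N x
  rw [show A.N ⊓ Subgroup.centralizer ({x} : Set G) = cent x from inf_eq_right.2 A.cent_x_le,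
    A.base.core.card_cent] at horb
  change Ox.ncard * 31944 = _ at horb
  haveI := Fact.mk (show Nat.Prime 11 by norm_num)
  let S : Sylow 11 G := Sylow.ofCard O (by
    rw [A.base.core.card, A.base.loc.card, show (86775571046077562880 : ℕ) = 11 ^ 3 * 65195770883604480 by norm_num,
      Nat.factorization_mul (by norm_num) (by norm_num), Finsupp.add_apply, Nat.factorization_pow]
    simp [Nat.Prime.factorization_self (show Nat.Prime 11 by norm_num),
      Nat.factorization_eq_zero_of_not_dvd (show ¬ 11 ∣ 65195770883604480 by norm_num)])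
  have hn := card_sylow_modEq_one 11 G
  rw [S.card_eq_index_normalizer] at hn
  have hmul := A.N.card_mul_index
  change A.N.index % 11 = 1 at hn
  rw [A.base.loc.card, ← horb] at hmul
  set n := A.N.index
  have key : ∀ k ∈ List.range 12, (120 * k + 10) * 31944 ∣ 86775571046077562880 →
      86775571046077562880 / ((120 * k + 10) * 31944) % 11 = 1 → k = 0 := by decide +kernel
  have hm0 : m = 0 := by
    refine key m (List.mem_range.2 (by omega)) ⟨n, ?_⟩ ?_
    · rw [← hmul, ← hcard]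
    · rw [← hmul, ← hcard, Nat.mul_div_cancel_left _ (by omega)]; exact hn
  refine (Set.eq_of_subset_of_ncard_le hsub ?_ (Set.toFinite _)).symm
  rw [hL]
  omega

theorem N_x {y : G} (hy : y ∈ A.N) : y * x * y⁻¹ ∈ Subgroup.zpowers x :=
  (A.orbit_x.le ⟨y, hy, rfl⟩).1

theorem card_N : Nat.card A.N = 319440 := by
  have horb := CfsgLib.JFour.card_orbit_mul A.N x
  rw [show A.N ⊓ Subgroup.centralizer ({x} : Set G) = cent x from inf_eq_right.2 A.cent_x_le,
    A.base.core.card_cent, A.orbit_x,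
    Set.ncard_sdiff (Set.singleton_subset_iff.2 (one_mem (Subgroup.zpowers x))) (Set.toFinite _),
    Set.ncard_singleton, ← Nat.card_coe_set_eq] at horb
  rw [← horb]
  show (Nat.card ↥(Subgroup.zpowers x) - 1) * 31944 = 319440
  rw [Nat.card_zpowers, A.base.ox]

/-- The action of the normalizer is the action of `Act`. -/
theorem N_split {y : G} (hy : y ∈ A.N) :
    ∃ o ∈ O, ∃ a ∈ A.base.Act, y = o * a ∧ ∀ g ∈ O, y * g * y⁻¹ = a * g * a⁻¹ := by
  obtain ⟨a1, ha1, he⟩ : y * x * y⁻¹ ∈ {v : G | ∃ h ∈ A.base.Act, h * x * h⁻¹ = v} := by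
    rw [A.base.act_orbit_x, ← A.orbit_x]
    exact ⟨y, hy, rfl⟩
  have hc : a1⁻¹ * y ∈ cent x := mem_cent.2 (by
    calc a1⁻¹ * y * x = a1⁻¹ * (y * x * y⁻¹) * y := by group
      _ = _ := by rw [← he]; group)
  obtain ⟨o, ho, hb⟩ := A.base.core.oddCore.split A.base.loc.zz hc
  set b := o * (a1⁻¹ * y) with hbdef
  have hbx : b ∈ cent x := mul_mem (A.base.core.le ho) hc
  have hbA : b ∈ A.base.Act := by
    refine ⟨Subgroup.mem_normalizer_iff.2 fun v => ?_, hb⟩
    have hcm : ∀ {c : G}, c ∈ cent x → ∀ v ∈ Subgroup.zpowers x, c * v * c⁻¹ ∈ Subgroup.zpowers x := fun {c} hc =>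
      conj_zpowers_mem (by rw [mem_cent.1 hc, mul_inv_cancel_right]; exact Subgroup.mem_zpowers x)
    refine ⟨hcm hbx v, fun hv => ?_⟩
    have h1 := hcm (inv_mem hbx) _ hv
    rwa [show b⁻¹ * (b * v * b⁻¹) * b⁻¹⁻¹ = v by group] at h1
  refine ⟨a1 * o⁻¹ * a1⁻¹, A.base.act_O ha1 (O.inv_mem ho), a1 * b, mul_mem ha1 hbA, by rw [hbdef]; group,
    fun g hg => ?_⟩
  have ho' := A.base.act_O ha1 (O.inv_mem ho)
  have hg' := A.base.act_O (mul_mem ha1 hbA) hg
  calc y * g * y⁻¹ = (a1 * o⁻¹ * a1⁻¹) * ((a1 * b) * g * (a1 * b)⁻¹) * (a1 * o⁻¹ * a1⁻¹)⁻¹ := by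
        rw [hbdef]; group
    _ = _ := by rw [A.comm _ ho' _ hg', mul_inv_cancel_right]

theorem N_W {y w : G} (hy : y ∈ A.N) (hw : w ∈ A.W) : y * w * y⁻¹ ∈ A.W := by
  obtain ⟨o, -, a, ha, -, h⟩ := A.N_split hy
  rw [h w hw.1]
  exact A.base.act_inverted ha hw

theorem conj_mem_N {g : G} (hg : ∀ o ∈ O, g * o * g⁻¹ ∈ cent x) : g ∈ A.N := A.mem_N_of_conj fun o ho => by
  rw [A.base.mem_O_iff (hg o ho), ← MulAut.conj_apply, ← map_pow,
    (A.base.mem_O_iff (A.base.core.le ho)).1 ho, map_one]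

theorem not_conj_x {v : G} (hv : v ∈ O) (hvx : v ∉ Subgroup.zpowers x) (c : G) :
    c * v * c⁻¹ ∉ Subgroup.zpowers x := by
  intro h
  have hne : c * v * c⁻¹ ≠ 1 := fun e => hvx (by
    rw [mul_inv_eq_one, mul_eq_left] at e
    rw [e]; exact one_mem _)
  have hcN : c ∈ A.N := A.conj_mem_N fun o ho => by
    rw [← A.base.cent_eq_of_mem h hne, cent_conj]
    exact ⟨o, mem_cent.2 (A.comm o ho v hv), rfl⟩
  have h' := conj_zpowers_mem (A.N_x (inv_mem hcN)) _ h
  rw [show c⁻¹ * (c * v * c⁻¹) * c⁻¹⁻¹ = v by group] at h'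
  exact hvx h'

theorem cent_normal {v g : G} (hv : v ∈ O) (hvx : v ∉ Subgroup.zpowers x) (hg : g ∈ cent v) : g ∈ A.N := by
  have hv1 : v ≠ 1 := fun e => hvx (e ▸ one_mem _)
  have hd := (A.base.card_cent_dvd (A.eleven hv hv1) (A.not_conj_x hv hvx)).1
  have hOC : O ≤ cent v := fun o ho => mem_cent.2 (A.comm o ho v hv)
  set K := O.subgroupOf (cent v) with hK
  have hKc : Nat.card K = 1331 := by
    rw [Nat.card_congr (Subgroup.subgroupOfEquivOfLe hOC).toEquiv, A.base.core.card]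
  have hidx := K.card_mul_index
  rw [hKc] at hidx
  have h12 : K.index = 1 ∨ K.index = 2 := by
    have h2 : K.index ∣ 2 := Nat.dvd_of_mul_dvd_mul_left (show 0 < 1331 by norm_num)
      (show 1331 * K.index ∣ 1331 * 2 by rw [hidx]; exact hd.trans (dvd_of_eq (by norm_num)))
    exact (Nat.dvd_prime Nat.prime_two).1 h2
  have hn : K.Normal := by
    rcases h12 with h | h
    · rw [Subgroup.index_eq_one.1 h]; infer_instance
    · exact Subgroup.normal_of_index_eq_two h
  exact A.mem_N_of_conj fun o ho =>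
    Subgroup.mem_subgroupOf.1 (hn.conj_mem ⟨o, hOC ho⟩ (Subgroup.mem_subgroupOf.2 ho) ⟨g, hg⟩)

/-- `O` is a TI subgroup. -/
theorem ti {v g : G} (hv : v ∈ O) (hv1 : v ≠ 1) (hgv : g * v * g⁻¹ ∈ O) : g ∈ A.N := by
  set v' := g * v * g⁻¹ with hv'
  have hne : v' ≠ 1 := fun e => hv1 (by rw [hv', mul_inv_eq_one, mul_eq_left] at e; exact e)
  have hcm : ∀ o ∈ O, g * o * g⁻¹ ∈ cent v' := fun o ho => by
    rw [hv', cent_conj]
    exact ⟨o, mem_cent.2 (A.comm o ho v hv), rfl⟩
  by_cases hvx : v' ∈ Subgroup.zpowers x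
  · exact A.conj_mem_N fun o ho => A.base.cent_eq_of_mem hvx hne ▸ hcm o ho
  refine A.mem_N_of_conj fun o ho => ?_
  have hN := A.cent_normal hgv hvx (hcm o ho)
  haveI : (O.subgroupOf A.N).Normal := Subgroup.normal_in_normalizer
  have h11 : (g * o * g⁻¹) ^ 1331 = 1 := by
    rw [← MulAut.conj_apply, ← map_pow, (A.base.mem_O_iff (A.base.core.le ho)).1 ho, map_one]
  have hidx : (O.subgroupOf A.N).index = 240 := by
    have h1 := (O.subgroupOf A.N).card_mul_index
    rw [Nat.card_congr (Subgroup.subgroupOfEquivOfLe A.O_le).toEquiv, A.base.core.card, A.card_N] at h1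
    omega
  have h1 := (O.subgroupOf A.N).pow_index_mem ⟨_, hN⟩
  rw [hidx, Subgroup.mem_subgroupOf] at h1
  obtain ⟨m, hm⟩ := exists_pow_eq_self_of_coprime
    (Nat.Coprime.of_dvd_right (orderOf_dvd_of_pow_eq_one h11) (show Nat.Coprime 240 1331 by norm_num))
  rw [← hm]
  exact pow_mem h1 m

/-- An element outside `⟨x⟩` and `W` has centralizer of odd order. -/
theorem mixed_odd {l w : G} (hl : l ∈ Subgroup.zpowers x) (hl1 : l ≠ 1) (hw : w ∈ A.W) (hw1 : w ≠ 1) :
    ¬ 2 ∣ Nat.card ↥(cent (l * w)) := by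
  intro h2
  have hv : l * w ∈ O := O.mul_mem (A.zp_le hl) hw.1
  have hvx : l * w ∉ Subgroup.zpowers x := fun h => hw1 (A.W_disj (by
    simpa using mul_mem (inv_mem hl) h) hw)
  have hv1 : l * w ≠ 1 := fun e => hvx (e ▸ one_mem _)
  obtain ⟨i, hi, hvi⟩ := (A.base.card_cent_dvd (A.eleven hv hv1) (A.not_conj_x hv hvx)).2 h2
  obtain ⟨j, hj, hwj⟩ := A.base.inverted_invol hw hw1
  have hjt : IsConj j t := (A.base.loc.invol j hj).resolve_left fun h => by
    obtain ⟨c, hc⟩ := A.base.conj_x_of_z (A.base.inverted_order hw hw1) h hwj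
    exact A.not_conj_x hw.1 (A.base.inverted_not_mem hw hw1) c hc
  obtain ⟨c, hc⟩ := A.base.conj_of_t (A.eleven hv hv1) (A.base.inverted_order hw hw1) hi hjt hvi hwj
  have hcW : c * (l * w) * c⁻¹ ∈ A.W := Subgroup.zpowers_le.2 hw hc
  have hcN := A.ti hv hv1 hcW.1
  have h := A.N_W (inv_mem hcN) hcW
  rw [show c⁻¹ * (c * (l * w) * c⁻¹) * c⁻¹⁻¹ = l * w by group] at h
  exact hl1 (A.decomp_unique hl (one_mem _) hw h (one_mul _).symm).1

/-- An involution inverting `x` fixes an element of `W`, so belongs to the class of `t` and has eleven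
fixed points in `O`. -/
theorem invol_inverting {a : G} (ha : a ∈ A.N) (ha2 : orderOf a = 2) (hax : a * x * a⁻¹ = x⁻¹) :
    IsConj a t ∧ Nat.card ↥(O ⊓ cent a) = 11 := by
  classical
  haveI := Fact.mk Nat.prime_two
  have haa : a * a = 1 := by rw [← pow_two, ← ha2, pow_orderOf_eq_one]
  have hainv : a⁻¹ = a := inv_eq_of_mul_eq_one_right haa
  have hzinv : z⁻¹ = z := A.base.loc.z_inv
  obtain ⟨w, hw, hw1, hwa⟩ : ∃ w ∈ A.W, w ≠ 1 ∧ a * w = w * a := by
    by_contra hno
    push Not at hno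
    have hinv : ∀ v ∈ A.W, a * v * a⁻¹ = v⁻¹ := fun v hv => by
      have hv' := A.N_W ha hv
      have hp := A.W.mul_mem hv hv'
      have hfix : a * (v * (a * v * a⁻¹)) * a⁻¹ = v * (a * v * a⁻¹) := by
        rw [hainv] at hv' ⊢
        calc a * (v * (a * v * a)) * a = (a * v * a) * (v * (a * a)) := by group
          _ = (a * v * a) * v := by rw [haa, mul_one]
          _ = _ := (A.comm _ hv'.1 _ hv.1)
      refine eq_inv_of_mul_eq_one_right ?_
      by_contra hne
      exact hno _ hp hne (mul_inv_eq_iff_eq_mul.1 hfix)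
    set b := z * a
    have hbW : ∀ v ∈ A.W, b * v * b⁻¹ = v := fun v hv => by
      calc b * v * b⁻¹ = z * (a * v * a⁻¹) * z⁻¹ := by simp only [b]; group
        _ = z * v⁻¹ * z⁻¹ := by rw [hinv v hv]
        _ = _ := by rw [(A.W.inv_mem hv).2, inv_inv]
    obtain ⟨w, hw, hw1⟩ := A.exists_W_ne
    have hbC : b ∈ cent w := mem_cent.2 (mul_inv_eq_iff_eq_mul.1 (hbW w hw))
    have hwx := A.base.inverted_not_mem hw hw1
    have hd := (A.base.card_cent_dvd (A.base.inverted_order hw hw1) (A.not_conj_x hw.1 hwx)).1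
    have hbx : b * x * b⁻¹ = x⁻¹ := by
      calc b * x * b⁻¹ = z * (a * x * a⁻¹) * z⁻¹ := by simp only [b]; group
        _ = (z * x * z⁻¹)⁻¹ := by rw [hax]; group
        _ = _ := by rw [(mem_cent.1 A.base.z_mem : z * x = x * z), mul_inv_cancel_right]
    set i := b ^ 1331
    have hi2 : i ^ 2 = 1 := by
      rw [← pow_mul, ← orderOf_dvd_iff_pow_eq_one]
      exact ((Subgroup.orderOf_dvd_natCard _ hbC).trans hd).trans (dvd_of_eq (by norm_num))
    have hiW : ∀ v ∈ A.W, v ∈ cent i := fun v hv => by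
      have hc : Commute b v := mul_inv_eq_iff_eq_mul.1 (hbW v hv)
      exact mem_cent.2 (hc.pow_left 1331).eq.symm
    have hix : i * x * i⁻¹ = x⁻¹ := by
      have hk : ∀ k : ℕ, b ^ (2 * k + 1) * x * (b ^ (2 * k + 1))⁻¹ = x⁻¹ := fun k => by
        induction k with
        | zero => simpa using hbx
        | succ k ih =>
          have hb2 : b * (b * x⁻¹ * b⁻¹) * b⁻¹ = x⁻¹ := by
            rw [show b * x⁻¹ * b⁻¹ = (b * x * b⁻¹)⁻¹ by group, hbx, inv_inv, hbx]
          rw [show 2 * (k + 1) + 1 = 1 + (1 + (2 * k + 1)) by ring, pow_add, pow_one]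
          calc b * b ^ (1 + (2 * k + 1)) * x * (b * b ^ (1 + (2 * k + 1)))⁻¹
              = b * (b * (b ^ (2 * k + 1) * x * (b ^ (2 * k + 1))⁻¹) * b⁻¹) * b⁻¹ := by
                rw [pow_add, pow_one]; group
            _ = _ := by rw [ih, hb2]
      exact hk 665
    have hi1 : i ≠ 1 := fun e => A.base.xne (A.base.not_two x A.base.core.mem (by
      rw [e, one_mul, inv_one, mul_one] at hix
      nth_rw 2 [hix]
      exact mul_inv_cancel x))
    have hio : orderOf i = 2 := orderOf_eq_prime hi2 hi1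
    have hcard : 121 ∣ Nat.card ↥(cent i) := by
      rw [← A.card_W]
      exact Subgroup.card_dvd_of_le hiW
    rcases A.base.loc.invol i hio with h | h
    · rw [← card_cent_of_isConj h, A.base.loc.cz] at hcard; norm_num at hcard
    · rw [← card_cent_of_isConj h, A.base.loc.ct] at hcard; norm_num at hcard
  have hwo := A.base.inverted_order hw hw1
  have hwx := A.base.inverted_not_mem hw hw1
  have hat : IsConj a t := (A.base.loc.invol a ha2).resolve_left fun h => by
    obtain ⟨c, hc⟩ := A.base.conj_x_of_z hwo h hwa.symm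
    exact A.not_conj_x hw.1 hwx c hc
  refine ⟨hat, ?_⟩
  obtain ⟨c, hc⟩ := isConj_iff.1 hat
  have hle : Subgroup.zpowers w ≤ O ⊓ cent a :=
    Subgroup.zpowers_le.2 ⟨hw.1, mem_cent.2 hwa.symm⟩
  have h11 : 11 ∣ Nat.card ↥(O ⊓ cent a) := by
    rw [← hwo, ← Nat.card_zpowers]; exact Subgroup.card_dvd_of_le hle
  refine Nat.dvd_antisymm ?_ h11
  have hwt : c * w * c⁻¹ ∈ cent t := by
    rw [← hc, cent_conj]; exact ⟨w, mem_cent.2 hwa.symm, rfl⟩
  have hmap : (O ⊓ cent a).map (MulAut.conj c).toMonoidHom ≤ cent t ⊓ cent (c * w * c⁻¹) := by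
    rintro _ ⟨o, ho, rfl⟩
    exact ⟨by rw [← hc, cent_conj]; exact ⟨o, ho.2, rfl⟩,
      by rw [cent_conj]; exact ⟨o, mem_cent.2 (A.comm o ho.1 w hw.1), rfl⟩⟩
  have hd := Subgroup.card_dvd_of_le hmap
  rw [Subgroup.card_map_of_injective (MulAut.conj c).injective,
    A.base.loc.card_tv hwt (((MulAut.conj c).orderOf_eq w).trans hwo)] at hd
  have hd' : Nat.card ↥(O ⊓ cent a) ∣ 1331 := A.base.core.card ▸ Subgroup.card_dvd_of_le inf_le_left
  exact (Nat.dvd_gcd hd hd').trans (dvd_of_eq (by norm_num))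

end AbBase

end CfsgLib.JFourPrime
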