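import Cfsg.Agent.Lib.JFourPrime.ElevenFusion
import Cfsg.Agent.Lib.Extraspecial.Setting
import Cfsg.Agent.Lib.OrderSix.QuatShape

/-!
# A nonabelian Sylow subgroup of order `11 ^ 3`: structure, normalizer and classes
-/

set_option autoImplicit false
set_option maxRecDepth 100000
set_option linter.style.haveILetI false
set_option linter.unusedSectionVars false

open Cfsg
open scoped commutatorElement

namespace CfsgLib.JFourPrime

variable {G : Type*} [Group G] [Finite G] {z π t : G} {E : Subgroup G}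

/-- The order of a product of two subgroups meeting trivially, one normalizing the other. -/
theorem card_sup_disjoint (K L : Subgroup G) (hLK : L ≤ Subgroup.normalizer (K : Set G)) (hd : Disjoint K L) :
    Nat.card ↥(K ⊔ L) = Nat.card K * Nat.card L := by
  rw [← Nat.card_prod]
  let f : ↥K × ↥L → ↥(K ⊔ L) := fun p =>
    ⟨(p.1 : G) * p.2, mul_mem (Subgroup.mem_sup_left p.1.2) (Subgroup.mem_sup_right p.2.2)⟩
  refine (Nat.card_congr (Equiv.ofBijective f ⟨fun p q h => ?_, fun a => ?_⟩)).symm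
  · exact Subgroup.mul_injective_of_disjoint hd (congrArg Subtype.val h)
  · have ha : (a : G) ∈ ((K ⊔ L : Subgroup G) : Set G) := a.2
    rw [Subgroup.coe_mul_of_right_le_normalizer_left K L hLK] at ha
    obtain ⟨k, hk, l, hl, e⟩ := Set.mem_mul.1 ha
    exact ⟨(⟨k, hk⟩, ⟨l, hl⟩), Subtype.ext e⟩

namespace Base

variable {x : G} {O : Subgroup G} (B : Base z π t E x O)
include B

theorem mem_zpowers_center {g : G} (hna : ¬ ∀ a ∈ O, ∀ b ∈ O, a * b = b * a) (hg : g ∈ O)
    (hgc : ∀ a ∈ O, a * g = g * a) : g ∈ Subgroup.zpowers x := by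
  classical
  haveI := Fact.mk (show Nat.Prime 11 by norm_num)
  set C := Subgroup.center ↥O with hC
  have hxC : (⟨x, B.core.mem⟩ : ↥O) ∈ C := Subgroup.mem_center_iff.2 fun a => Subtype.ext (B.x_central a.2)
  have hle : Subgroup.zpowers (⟨x, B.core.mem⟩ : ↥O) ≤ C := Subgroup.zpowers_le.2 hxC
  have hcard : Nat.card C ≤ 11 := by
    have hmul := C.card_mul_index
    rw [B.core.card] at hmul
    obtain ⟨k, hk, hkc⟩ := (Nat.dvd_prime_pow (show Nat.Prime 11 by norm_num)).1
      (show Nat.card C ∣ 11 ^ 3 from ⟨C.index, by rw [hmul]; norm_num⟩)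
    by_contra hlt
    have hk2 : 2 ≤ k := by
      by_contra h
      interval_cases k <;> rw [hkc] at hlt <;> norm_num at hlt
    have hidx : C.index ∣ 11 := by
      interval_cases k <;> rw [hkc] at hmul
      · exact dvd_of_eq (by omega)
      · rw [show C.index = 1 by omega]; exact one_dvd _
    haveI : IsCyclic (↥O ⧸ C) := by
      rcases (Nat.dvd_prime (show Nat.Prime 11 by norm_num)).1 hidx with h | h
      · haveI : Subsingleton (↥O ⧸ C) := (Nat.card_eq_one_iff_unique.1 ((Subgroup.index_eq_card C).symm.trans h)).1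
        infer_instance
      · exact isCyclic_of_prime_card (p := 11) ((Subgroup.index_eq_card C).symm.trans h)
    exact hna fun a ha b hb => congrArg Subtype.val
      ((MonoidHom.isMulCommutative_of_isCyclic_of_ker_le_center (QuotientGroup.mk' C)
        (QuotientGroup.ker_mk' C).le).is_comm.comm (⟨a, ha⟩ : ↥O) ⟨b, hb⟩)
  have heq : Subgroup.zpowers (⟨x, B.core.mem⟩ : ↥O) = C := Subgroup.eq_of_le_of_card_ge hle
    (by rw [Nat.card_zpowers, Subgroup.orderOf_mk, B.ox]; exact hcard)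
  have hgC : (⟨g, hg⟩ : ↥O) ∈ C := Subgroup.mem_center_iff.2 fun a => Subtype.ext (hgc a a.2)
  obtain ⟨k, hk⟩ := Subgroup.mem_zpowers_iff.1 (heq.ge hgC)
  exact Subgroup.mem_zpowers_iff.2 ⟨k, by simpa using congrArg Subtype.val hk⟩

theorem pow_eleven {g : G} (hg : g ∈ O) : g ^ 11 = 1 := by
  obtain ⟨w, hw, h⟩ := B.exists_inverted hg
  have hgw : g = (g * w) * w⁻¹ := by group
  have h1 : (g * w) ^ 11 = 1 := by
    by_cases h1 : g * w = 1
    · rw [h1, one_pow]
    · rw [← B.inverted_order h h1, pow_orderOf_eq_one]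
  have h2 : w ^ 11 = 1 := by
    rw [← orderOf_dvd_iff_pow_eq_one]
    have := Subgroup.orderOf_dvd_natCard _ hw
    rwa [Nat.card_zpowers, B.ox] at this
  obtain ⟨k, rfl⟩ := Subgroup.mem_zpowers_iff.1 hw
  have hc : Commute (g * x ^ k) (x ^ k)⁻¹ :=
    ((show Commute (g * x ^ k) x from B.x_central h.1).zpow_right k).inv_right
  rw [hgw, hc.mul_pow, h1, inv_pow, h2, one_mul, inv_one]

theorem extraspecial (hna : ¬ ∀ a ∈ O, ∀ b ∈ O, a * b = b * a) :
    IsExtraspecial 11 ↥O ∧ Monoid.exponent ↥O = 11 := by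
  classical
  haveI := Fact.mk (show Nat.Prime 11 by norm_num)
  haveI : Fact (Nat.Prime 11) := Fact.mk (by norm_num)
  have hmem : ∀ a : ↥O, a ∈ Subgroup.center ↥O ↔ (a : G) ∈ Subgroup.zpowers x := by
    intro a
    constructor
    · intro h
      exact B.mem_zpowers_center hna a.2 fun b hb => congrArg Subtype.val (Subgroup.mem_center_iff.1 h ⟨b, hb⟩)
    · intro h
      obtain ⟨k, hk⟩ := Subgroup.mem_zpowers_iff.1 h
      refine Subgroup.mem_center_iff.2 fun b => Subtype.ext ?_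
      show (b : G) * a = a * b
      rw [← hk]
      exact ((show Commute (b : G) x from B.x_central b.2).zpow_right k).eq
  have hc : Nat.card (Subgroup.center ↥O) = 11 := by
    rw [← B.ox, ← Nat.card_zpowers]
    exact Nat.card_congr
      { toFun := fun a => ⟨(a : ↥O), (hmem a).1 a.2⟩
        invFun := fun a => ⟨⟨a, Subgroup.zpowers_le.2 B.core.mem a.2⟩, (hmem _).2 a.2⟩
        left_inv := fun a => rfl
        right_inv := fun a => rfl }
  refine ⟨Extraspecial.isExtraspecial_of (IsPGroup.of_card (n := 3) (by rw [B.core.card]; norm_num)) hc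
    (fun a b => (hmem _).2 ?_) (fun a => (hmem _).2 ?_) ?_, ?_⟩
  · have h := B.core.oddCore.commutator_mem B.loc.zz B.core.fix B.z_mem a.2 b.2
    simpa [commutatorElement_def] using h
  · rw [Subgroup.coe_pow, B.pow_eleven a.2]; exact one_mem _
  · by_contra h
    push Not at h
    exact hna fun a ha b hb => congrArg Subtype.val (commutatorElement_eq_one_iff_mul_comm.1 (h ⟨a, ha⟩ ⟨b, hb⟩))
  · have hd : Monoid.exponent ↥O ∣ 11 :=
      Monoid.exponent_dvd_of_forall_pow_eq_one fun a => Subtype.ext (B.pow_eleven a.2)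
    refine ((Nat.dvd_prime (show Nat.Prime 11 by norm_num)).1 hd).resolve_left fun h => ?_
    have h1 := Monoid.pow_exponent_eq_one (⟨x, B.core.mem⟩ : ↥O)
    rw [h, pow_one] at h1
    exact B.xne (congrArg Subtype.val h1)

theorem card_normalizer (hna : ¬ ∀ a ∈ O, ∀ b ∈ O, a * b = b * a) :
    Nat.card ↥(Subgroup.normalizer (O : Set G)) = 319440 := by
  classical
  have := Fintype.ofFinite G
  set N := Subgroup.normalizer (O : Set G)
  have hX : cent x ≤ N := fun a ha => Subgroup.mem_normalizer_fintype fun g hg => B.core.normal a ha g hg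
  have hA : B.Act ≤ N := fun a ha => Subgroup.mem_normalizer_fintype fun g hg => B.act_O ha hg
  have horbit : {v : G | ∃ h ∈ N, h * x * h⁻¹ = v} ⊆ (Subgroup.zpowers x : Set G) \ {1} := by
    rintro _ ⟨h, hh, rfl⟩
    refine ⟨B.mem_zpowers_center hna ((Subgroup.mem_normalizer_iff.1 hh x).1 B.core.mem) fun a ha => ?_, fun e => B.xne ?_⟩
    · have ha' := (Subgroup.mem_normalizer_iff''.1 hh a).1 ha
      calc a * (h * x * h⁻¹) = h * ((h⁻¹ * a * h) * x) * h⁻¹ := by group
        _ = h * (x * (h⁻¹ * a * h)) * h⁻¹ := by rw [B.x_central ha']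
        _ = _ := by group
    · rw [Set.mem_singleton_iff, mul_inv_eq_one, mul_eq_left] at e
      exact e
  have h1 := Set.ncard_le_ncard horbit (Set.toFinite _)
  have hten : ((Subgroup.zpowers x : Set G) \ {1}).ncard = 10 := by
    rw [Set.ncard_sdiff (Set.singleton_subset_iff.2 (one_mem (Subgroup.zpowers x))) (Set.toFinite _),
      Set.ncard_singleton, ← Nat.card_coe_set_eq]
    show Nat.card ↥(Subgroup.zpowers x) - 1 = 10
    rw [Nat.card_zpowers, B.ox]
  have horb := CfsgLib.JFour.card_orbit_mul N x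
  rw [show N ⊓ Subgroup.centralizer ({x} : Set G) = cent x from inf_eq_right.2 hX, B.core.card_cent] at horb
  have hact := CfsgLib.JFour.card_orbit_mul B.Act x
  have hle : Nat.card ↥(B.Act ⊓ Subgroup.centralizer ({x} : Set G)) ≤ 264 := by
    rw [← B.loc.card_zx B.xpi B.ox]
    exact Subgroup.card_le_of_le fun a ha => ⟨ha.1.2, ha.2⟩
  rw [B.card_act] at hact
  have h2 : Set.ncard {v : G | ∃ h ∈ B.Act, h * x * h⁻¹ = v} ≤ Set.ncard {v : G | ∃ h ∈ N, h * x * h⁻¹ = v} :=
    Set.ncard_le_ncard (fun v ⟨h, hh, e⟩ => ⟨h, hA hh, e⟩) (Set.toFinite _)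
  have h3 : 10 ≤ Set.ncard {v : G | ∃ h ∈ B.Act, h * x * h⁻¹ = v} := by
    by_contra hlt
    push Not at hlt
    have := Nat.mul_le_mul (Nat.lt_succ_iff.1 (show _ < 9 + 1 from hlt)) hle
    omega
  rw [← horb, show Set.ncard {v : G | ∃ h ∈ N, h * x * h⁻¹ = v} = 10 by omega]

/-- No element of `C(π)` inverts `x`. -/
theorem not_inverting {y : G} (hy : y ∈ cent π) : y * x * y⁻¹ ≠ x⁻¹ := by
  classical
  intro hyx
  haveI := Fact.mk (show Nat.Prime 11 by norm_num)
  set K := cent π
  set X0 := (Subgroup.zpowers x).subgroupOf K with hX0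
  have hfac : (Nat.card ↥K).factorization 11 = 1 := by
    rw [B.loc.card_cpi, show (2661120 : ℕ) = 11 * 241920 by norm_num,
      Nat.factorization_mul (by norm_num) (by norm_num), Finsupp.add_apply,
      Nat.Prime.factorization_self (show Nat.Prime 11 by norm_num),
      Nat.factorization_eq_zero_of_not_dvd (show ¬ 11 ∣ 241920 by norm_num)]
  let P : Sylow 11 ↥K := Sylow.ofCard X0 (by
    rw [Nat.card_congr (Subgroup.subgroupOfEquivOfLe (Subgroup.zpowers_le.2 B.xpi)).toEquiv, Nat.card_zpowers,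
      B.ox, hfac, pow_one])
  set N := K ⊓ Subgroup.normalizer (Subgroup.zpowers x : Set G) with hN
  have hmap : (Subgroup.normalizer (X0 : Set ↥K)).map K.subtype = N := by
    ext g
    constructor
    · rintro ⟨a, ha, rfl⟩
      refine ⟨a.2, Subgroup.mem_normalizer_iff.2 fun v => ⟨fun hv =>
        (Subgroup.mem_normalizer_iff.1 ha ⟨v, Subgroup.zpowers_le.2 B.xpi hv⟩).1 hv, fun hv => ?_⟩⟩
      have hvK : v ∈ K := by
        have := K.mul_mem (K.mul_mem (K.inv_mem a.2) (Subgroup.zpowers_le.2 B.xpi hv)) a.2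
        simpa [mul_assoc] using this
      exact (Subgroup.mem_normalizer_iff.1 ha ⟨v, hvK⟩).2 hv
    · intro hg
      exact ⟨⟨g, hg.1⟩, Subgroup.mem_normalizer_iff.2 fun v => Subgroup.mem_normalizer_iff.1 hg.2 (v : G), rfl⟩
  have hn := card_sylow_modEq_one 11 ↥K
  rw [P.card_eq_index_normalizer] at hn
  have hmul := (Subgroup.normalizer (X0 : Set ↥K)).card_mul_index
  change (Subgroup.normalizer (X0 : Set ↥K)).index % 11 = 1 at hn
  rw [← Subgroup.card_map_of_injective K.subtype_injective, hmap, B.loc.card_cpi] at hmul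
  set n := (Subgroup.normalizer (X0 : Set ↥K)).index
  have hxN : x ∈ N := ⟨B.xpi, Subgroup.le_normalizer (Subgroup.mem_zpowers x)⟩
  have h66 : Nat.card ↥(N ⊓ cent x) = 66 := by
    refine Nat.dvd_antisymm ((Subgroup.card_dvd_of_le (show N ⊓ cent x ≤ cent π ⊓ cent x from fun a ha => ⟨ha.1.1, ha.2⟩)).trans (B.loc.pi_small x B.xpi B.ox)) ?_
    have hmem : ∀ {a : G}, a ∈ cent π → a ∈ cent x → a ∈ N ⊓ cent x := fun {a} ha hax =>
      ⟨⟨ha, Subgroup.mem_normalizer_iff.2 fun v => by
        have hc : ∀ {b : G}, b ∈ cent x → ∀ {v : G}, v ∈ Subgroup.zpowers x → b * v * b⁻¹ = v := fun {b} hb {v} hv => by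
          obtain ⟨i, rfl⟩ := Subgroup.mem_zpowers_iff.1 hv
          rw [((show Commute b x from mem_cent.1 hb).zpow_right i).eq, mul_inv_cancel_right]
        refine ⟨fun hv => by rwa [hc hax hv], fun hv => ?_⟩
        have h2 := hc (inv_mem hax) hv
        rw [show a⁻¹ * (a * v * a⁻¹) * a⁻¹⁻¹ = v by group] at h2
        rw [h2]; exact hv⟩, hax⟩
    have d2 : 2 ∣ Nat.card ↥(N ⊓ cent x) := B.loc.oz ▸ Subgroup.orderOf_dvd_natCard _
      (hmem (mem_cent.2 B.loc.piz.symm) B.z_mem)
    have d3 : 3 ∣ Nat.card ↥(N ⊓ cent x) := B.loc.opi ▸ Subgroup.orderOf_dvd_natCard _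
      (hmem (mem_cent.2 rfl) (mem_cent.2 (mem_cent.1 B.xpi).symm))
    have d11 : 11 ∣ Nat.card ↥(N ⊓ cent x) := B.ox ▸ Subgroup.orderOf_dvd_natCard _ (hmem B.xpi (mem_cent.2 rfl))
    exact Nat.Coprime.mul_dvd_of_dvd_of_dvd (by norm_num : Nat.Coprime 6 11)
      (Nat.Coprime.mul_dvd_of_dvd_of_dvd (by norm_num : Nat.Coprime 2 3) d2 d3) d11
  have horb := CfsgLib.JFour.card_orbit_mul N x
  rw [show Nat.card ↥(N ⊓ Subgroup.centralizer ({x} : Set G)) = 66 from h66] at horb
  set o := Set.ncard {v : G | ∃ h ∈ N, h * x * h⁻¹ = v}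
  have hyN : y ∈ N := ⟨hy, Subgroup.mem_normalizer_iff.2 fun v => ⟨conj_zpowers_mem (by
      rw [hyx]; exact inv_mem (Subgroup.mem_zpowers x)) v, fun hv => by
      have hy' : y⁻¹ * x * y⁻¹⁻¹ = x⁻¹ := by
        rw [← inv_eq_iff_eq_inv] at hyx
        rw [inv_inv]
        nth_rw 1 [← hyx]
        group
      have := conj_zpowers_mem (a := y⁻¹) (by rw [hy']; exact inv_mem (Subgroup.mem_zpowers x)) _ hv
      rwa [show y⁻¹ * (y * v * y⁻¹) * y⁻¹⁻¹ = v by group] at this⟩⟩
  have hev : 2 ∣ Nat.card N / 66 := by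
    have hne : ((cent x).subgroupOf N) ≠ ⊤ := fun h => by
      have hyc : y ∈ cent x := Subgroup.mem_subgroupOf.1 (h.ge (Subgroup.mem_top (⟨y, hyN⟩ : ↥N)))
      rw [mem_cent.1 hyc, mul_inv_cancel_right] at hyx
      exact B.xne (B.not_two x B.core.mem (by nth_rw 2 [hyx]; exact mul_inv_cancel x))
    haveI : ((cent x).subgroupOf N).Normal := ⟨fun a ha g => by
      rw [Subgroup.mem_subgroupOf] at ha ⊢
      obtain ⟨i, hi⟩ := Subgroup.mem_zpowers_iff.1 ((Subgroup.mem_normalizer_iff''.1 g.2.2 x).1 (Subgroup.mem_zpowers x))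
      refine mem_cent.2 ?_
      simp only [Subgroup.coe_mul, Subgroup.coe_inv]
      have hci : Commute (a : G) ((g : G)⁻¹ * x * g) := by
        rw [← hi]; exact (show Commute (a : G) x from mem_cent.1 ha).zpow_right i
      calc (g : G) * a * (g : G)⁻¹ * x = g * ((a : G) * ((g : G)⁻¹ * x * g)) * (g : G)⁻¹ := by group
        _ = g * (((g : G)⁻¹ * x * g) * a) * (g : G)⁻¹ := by rw [hci.eq]
        _ = _ := by group⟩
    have hidx := ((cent x).subgroupOf N).card_mul_index
    rw [← Subgroup.inf_subgroupOf_left, Nat.card_congr (Subgroup.subgroupOfEquivOfLe inf_le_left).toEquiv, h66] at hidx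
    rw [← hidx, Nat.mul_div_cancel_left _ (by norm_num), Subgroup.inf_subgroupOf_left]
    have hq : (QuotientGroup.mk (⟨y, hyN⟩ : ↥N) : ↥N ⧸ (cent x).subgroupOf N) ^ 2 = 1 := by
      rw [← QuotientGroup.mk_pow, QuotientGroup.eq_one_iff, Subgroup.mem_subgroupOf]
      refine mem_cent.2 (mul_inv_eq_iff_eq_mul.1 ?_)
      simp only [Subgroup.coe_pow]
      calc y ^ 2 * x * (y ^ 2)⁻¹ = y * (y * x * y⁻¹) * y⁻¹ := by rw [pow_two]; group
        _ = y * x⁻¹ * y⁻¹ := by rw [hyx]
        _ = (y * x * y⁻¹)⁻¹ := by group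
        _ = _ := by rw [hyx, inv_inv]
    haveI := Fact.mk Nat.prime_two
    have hne1 : (QuotientGroup.mk (⟨y, hyN⟩ : ↥N) : ↥N ⧸ (cent x).subgroupOf N) ≠ 1 := fun h => by
      rw [QuotientGroup.eq_one_iff, Subgroup.mem_subgroupOf] at h
      have hyc := mem_cent.1 h
      simp only at hyc
      rw [hyc, mul_inv_cancel_right] at hyx
      exact B.xne (B.not_two x B.core.mem (by nth_rw 2 [hyx]; exact mul_inv_cancel x))
    rw [Subgroup.index_eq_card, ← orderOf_eq_prime hq hne1]
    exact orderOf_dvd_natCard _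
  rw [← horb, Nat.mul_div_cancel _ (by norm_num)] at hev
  have ho : o ≤ 10 := by
    have hsub : {v : G | ∃ h ∈ N, h * x * h⁻¹ = v} ⊆ (Subgroup.zpowers x : Set G) \ {1} := by
      rintro _ ⟨h, hh, rfl⟩
      refine ⟨(Subgroup.mem_normalizer_iff.1 hh.2 x).1 (Subgroup.mem_zpowers x), fun e => B.xne ?_⟩
      rw [Set.mem_singleton_iff, mul_inv_eq_one, mul_eq_left] at e
      exact e
    refine (Set.ncard_le_ncard hsub (Set.toFinite _)).trans (le_of_eq ?_)
    rw [Set.ncard_sdiff (Set.singleton_subset_iff.2 (one_mem (Subgroup.zpowers x))) (Set.toFinite _),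
      Set.ncard_singleton, ← Nat.card_coe_set_eq]
    show Nat.card ↥(Subgroup.zpowers x) - 1 = 10
    rw [Nat.card_zpowers, B.ox]
  rw [← horb] at hmul
  interval_cases o <;> omega

theorem exists_gl : ∃ K : Subgroup G, K ≤ Subgroup.normalizer (O : Set G) ∧
    Nonempty (↥K ≃* GL (Fin 2) (ZMod 3)) := by
  classical
  have := Fintype.ofFinite G
  have L := B.loc
  haveI := Fact.mk Nat.prime_three
  set Q := E ⊓ cent x with hQ
  set H := cent z ⊓ cent x with hH
  have hQH : Q ≤ H := fun a ha => ⟨L.E_le ha.1, ha.2⟩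
  have hπH : π ∈ H := ⟨L.pi_mem, mem_cent.2 (mem_cent.1 B.xpi).symm⟩
  have hHQ : ∀ h ∈ H, ∀ q ∈ Q, h * q * h⁻¹ ∈ Q := fun h hh q hq =>
    ⟨L.conjE hh.1 hq.1, (cent x).mul_mem ((cent x).mul_mem hh.2 hq.2) ((cent x).inv_mem hh.2)⟩
  have hπN : π ∈ Subgroup.normalizer (Q : Set G) := Subgroup.mem_normalizer_fintype fun q hq => hHQ π hπH q hq
  set T := Q ⊔ Subgroup.zpowers π with hTdef
  have hT24 : Nat.card T = 24 := by
    have hd : Disjoint Q (Subgroup.zpowers π) := by
      rw [disjoint_iff, eq_bot_iff]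
      intro a ha
      rw [Subgroup.mem_bot, ← orderOf_eq_one_iff]
      exact Nat.eq_one_of_dvd_coprimes (show Nat.Coprime 8 3 by norm_num)
        (L.card_Q B.xpi B.ox ▸ Subgroup.orderOf_dvd_natCard Q ha.1)
        (by
          have h := Subgroup.orderOf_dvd_natCard _ ha.2
          rwa [Nat.card_zpowers, L.opi] at h)
    have hcomp := card_sup_disjoint Q (Subgroup.zpowers π)
      (Subgroup.zpowers_le.2 hπN) hd
    rw [hTdef, hcomp, L.card_Q B.xpi B.ox, Nat.card_zpowers, L.opi]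
  have hTH : T ≤ H := sup_le hQH (Subgroup.zpowers_le.2 hπH)
  -- an involution inverting `x`
  obtain ⟨g, hg⟩ : ∃ g ∈ O, g ∉ Subgroup.zpowers x := by
    by_contra h
    push Not at h
    have := Subgroup.card_le_of_le h
    rw [B.core.card, Nat.card_zpowers, B.ox] at this
    omega
  obtain ⟨w, hw, hf⟩ := B.exists_inverted hg.1
  have hf1 : g * w ≠ 1 := fun h => hg.2 (by rw [eq_inv_of_mul_eq_one_left h]; exact inv_mem hw)
  haveI : Fact (Nat.Prime 2) := Fact.mk Nat.prime_two
  obtain ⟨s, hs⟩ := exists_prime_orderOf_dvd_card' (G := ↥(B.Act ⊓ cent (g * w))) 2 (by rw [B.card_stab hf hf1]; norm_num)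
  rw [← Subgroup.orderOf_coe] at hs
  have hss : (s : G) * s = 1 := by rw [← pow_two, ← hs, pow_orderOf_eq_one]
  have hsx : (s : G) ∉ cent x := fun h => by
    have := Subgroup.orderOf_dvd_natCard _ (B.fix_x_f hf hf1 h s.2.1.2 s.2.2)
    rw [hs, Nat.card_zpowers, B.ox] at this
    norm_num at this
  have hsinv : (s : G) * x * (s : G)⁻¹ = x⁻¹ := by
    obtain ⟨k, hk⟩ := B.conj_x s.2.1
    have hkk : x ^ (k * k) = x := by
      rw [zpow_mul, ← hk, ← MulAut.conj_apply, ← map_zpow, MulAut.conj_apply, ← hk]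
      calc (s : G) * ((s : G) * x * (s : G)⁻¹) * (s : G)⁻¹ = ((s : G) * s) * x * ((s : G) * s)⁻¹ := by group
        _ = x := by rw [hss]; group
    have hmod : (k * k) % 11 = 1 := by
      have h4 : x ^ (k * k - 1) = 1 := by rw [zpow_sub, zpow_one, hkk, mul_inv_cancel]
      have h5 := orderOf_dvd_iff_zpow_eq_one.2 h4
      rw [B.ox] at h5
      omega
    have hk11 : k % 11 = 1 ∨ k % 11 = 10 := by
      have := Int.emod_nonneg k (show (11 : ℤ) ≠ 0 by norm_num)
      have := Int.emod_lt_of_pos k (show (0 : ℤ) < 11 by norm_num)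
      rw [Int.mul_emod] at hmod
      interval_cases hh : k % 11
      all_goals first | exact Or.inl rfl | exact Or.inr rfl | omega
    have hxk : x ^ k = x ^ (k % 11) := zpow_eq_zpow_emod' (n := 11) k (by rw [← B.ox, pow_orderOf_eq_one])
    rcases hk11 with h | h
    · exfalso
      rw [h, zpow_one] at hxk
      rw [hxk] at hk
      exact hsx (mem_cent.2 (mul_inv_eq_iff_eq_mul.1 hk))
    · rw [hk, hxk, h]
      refine eq_inv_of_mul_eq_one_left ?_
      have h11 := pow_orderOf_eq_one x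
      rw [B.ox] at h11
      have hp : x ^ 10 * x = 1 := by rwa [← pow_succ]
      exact_mod_cast hp
  -- `s` normalizes `T`
  have hscx : ∀ a ∈ cent x, (s : G) * a * (s : G)⁻¹ ∈ cent x := fun a ha => by
    refine mem_cent.2 ?_
    have hc : Commute a x⁻¹ := (show Commute a x from mem_cent.1 ha).inv_right
    have hinv : (s : G)⁻¹ = s := inv_eq_of_mul_eq_one_right hss
    have hxs : (s : G)⁻¹ * x * (s : G) = x⁻¹ := by rw [hinv]; nth_rw 2 [← hinv]; exact hsinv
    calc (s : G) * a * (s : G)⁻¹ * x = s * (a * ((s : G)⁻¹ * x * s)) * (s : G)⁻¹ := by group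
      _ = s * (((s : G)⁻¹ * x * s) * a) * (s : G)⁻¹ := by rw [hxs, hc.eq]
      _ = _ := by group
  have hsQ : ∀ q ∈ Q, (s : G) * q * (s : G)⁻¹ ∈ Q := fun q hq => ⟨L.conjE s.2.1.2 hq.1, hscx q hq.2⟩
  -- the quotient of `H` by `T`
  have hTmem : ∀ a ∈ H, a ^ 24 = 1 → a ∈ T := by
    intro a ha ha24
    have hidx : (T.subgroupOf H).index = 11 := by
      have h1 := (T.subgroupOf H).card_mul_index
      rw [Nat.card_congr (Subgroup.subgroupOfEquivOfLe hTH).toEquiv, hT24, L.card_zx B.xpi B.ox] at h1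
      omega
    haveI : (T.subgroupOf H).Normal := by
      have hn : ∀ h ∈ H, h ∈ Subgroup.normalizer (T : Set G) := by
        intro h hh
        -- `H` is generated by `x` and `T`
        have hsup : T ⊔ Subgroup.zpowers x = H := by
          refine Subgroup.eq_of_le_of_card_ge (sup_le hTH (Subgroup.zpowers_le.2 ⟨B.x_mem, mem_cent.2 rfl⟩)) ?_
          rw [L.card_zx B.xpi B.ox]
          refine Nat.le_of_dvd Nat.card_pos (Nat.Coprime.mul_dvd_of_dvd_of_dvd (show Nat.Coprime 24 11 by norm_num)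
            ?_ ?_)
          · rw [← hT24]; exact Subgroup.card_dvd_of_le le_sup_left
          · rw [← B.ox, ← Nat.card_zpowers]; exact Subgroup.card_dvd_of_le le_sup_right
        refine (sup_le Subgroup.le_normalizer (Subgroup.zpowers_le.2 ?_) : T ⊔ Subgroup.zpowers x ≤ _) (hsup.ge hh)
        refine Subgroup.mem_normalizer_fintype fun a ha => ?_
        rw [SetLike.mem_coe] at ha ⊢
        rw [← mem_cent.1 (hTH ha).2, mul_inv_cancel_right]
        exact ha
      exact ⟨fun b hb h => Subgroup.mem_subgroupOf.2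
        ((Subgroup.mem_normalizer_iff.1 (hn h h.2) (b : G)).1 (Subgroup.mem_subgroupOf.1 hb))⟩
    have h1 := (T.subgroupOf H).pow_index_mem ⟨a, ha⟩
    rw [hidx, Subgroup.mem_subgroupOf] at h1
    obtain ⟨m, hm⟩ := exists_pow_eq_self_of_coprime
      (Nat.Coprime.of_dvd_right (orderOf_dvd_of_pow_eq_one ha24) (show Nat.Coprime 11 24 by norm_num))
    rw [← hm]
    exact pow_mem h1 m
  have hsH : ∀ a ∈ H, (s : G) * a * (s : G)⁻¹ ∈ H := fun a ha =>
    ⟨(cent z).mul_mem ((cent z).mul_mem s.2.1.2 ha.1) ((cent z).inv_mem s.2.1.2), hscx a ha.2⟩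
  have hsT : ∀ a ∈ T, (s : G) * a * (s : G)⁻¹ ∈ T := fun a ha => hTmem _ (hsH a (hTH ha)) (by
    rw [← MulAut.conj_apply, ← map_pow, show a ^ 24 = 1 by
      rw [← orderOf_dvd_iff_pow_eq_one, ← hT24]; exact Subgroup.orderOf_dvd_natCard T ha, map_one])
  -- the group of order forty-eight
  have hsT' : (s : G) ∈ Subgroup.normalizer (T : Set G) := Subgroup.mem_normalizer_fintype fun a ha => hsT a ha
  set K := T ⊔ Subgroup.zpowers (s : G) with hKdef
  have hK48 : Nat.card K = 48 := by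
    have hd : Disjoint T (Subgroup.zpowers (s : G)) := by
      rw [disjoint_iff, eq_bot_iff]
      intro a ha
      obtain ⟨k, rfl⟩ := Subgroup.mem_zpowers_iff.1 ha.2
      have hk2 : (s : G) ^ k = (s : G) ^ (k % 2) := zpow_eq_zpow_emod' (n := 2) k (by rw [pow_two, hss])
      rcases Int.emod_two_eq_zero_or_one k with h | h
      · rw [Subgroup.mem_bot, hk2, h, zpow_zero]
      · rw [hk2, h, zpow_one] at ha
        exact absurd (hTH ha.1).2 hsx
    rw [hKdef, card_sup_disjoint _ _ (Subgroup.zpowers_le.2 hsT') hd, hT24,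
      Nat.card_zpowers, hs]
  have hKN : K ≤ Subgroup.normalizer (O : Set G) := by
    refine sup_le (fun a ha => Subgroup.mem_normalizer_fintype fun o ho => B.core.normal a (hTH ha).2 o ho) ?_
    exact Subgroup.zpowers_le.2 (Subgroup.mem_normalizer_fintype fun o ho => B.act_O s.2.1 ho)
  refine ⟨K, hKN, ?_⟩
  have hQK : Q ≤ K := le_sup_left.trans le_sup_left
  have hKnQ : K ≤ Subgroup.normalizer (Q : Set G) := sup_le (sup_le Subgroup.le_normalizer (Subgroup.zpowers_le.2 hπN))
    (Subgroup.zpowers_le.2 (Subgroup.mem_normalizer_fintype fun q hq => hsQ q hq))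
  have hπK : π ∈ K := Subgroup.mem_sup_left (Subgroup.mem_sup_right (Subgroup.mem_zpowers π))
  have hKz : ∀ a ∈ K, a * z = z * a := fun a ha => by
    have : K ≤ cent z := sup_le (fun a ha => (hTH ha).1) (Subgroup.zpowers_le.2 s.2.1.2)
    exact mem_cent.1 (this ha)
  refine CfsgLib.OrderSix.gl_of_parts (Q.subgroupOf K)
    ⟨fun a ha g => Subgroup.mem_subgroupOf.2 ((Subgroup.mem_normalizer_iff.1 (hKnQ g.2) (a : G)).1
      (Subgroup.mem_subgroupOf.1 ha))⟩ hK48
    (by rw [Nat.card_congr (Subgroup.subgroupOfEquivOfLe hQK).toEquiv, L.card_Q B.xpi B.ox])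
    (z := ⟨z, hQK ⟨L.setting.z_mem, B.z_mem⟩⟩) (Subgroup.mem_subgroupOf.2 ⟨L.setting.z_mem, B.z_mem⟩)
    (fun h => L.z_ne (congrArg Subtype.val h)) (Subtype.ext L.zz) (fun a => Subtype.ext (hKz a a.2))
    (fun q hq hq1 hqz => Subtype.ext ?_) (s := ⟨s, Subgroup.mem_sup_right (Subgroup.mem_zpowers _)⟩)
    (c := ⟨π, hπK⟩) (Subtype.ext hss) (Subtype.ext (by rw [Subgroup.coe_pow, ← L.opi]; exact pow_orderOf_eq_one π))
    (fun h => ?_) (Subgroup.mem_subgroupOf.2 ?_) (fun q hq hfix => ?_)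
  · -- squares
    show (q : G) * q = z
    have hqE : (q : G) ∈ E := (Subgroup.mem_subgroupOf.1 hq).1
    have hsq : (q : G) * q ∈ Subgroup.zpowers z := by
      rw [← L.setting.center]
      exact ⟨⟨(q : G), hqE⟩ ^ 2, Extraspecial.pow_mem_center L.setting.ex _, by simp [pow_two]⟩
    obtain ⟨k, hk⟩ := Subgroup.mem_zpowers_iff.1 hsq
    have hz2 : z ^ k = z ^ (k % 2) := zpow_eq_zpow_emod' (n := 2) k (by rw [pow_two, L.zz])
    rcases Int.emod_two_eq_zero_or_one k with h | h
    · exfalso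
      rw [hz2, h, zpow_zero] at hk
      rcases L.invol_Q B.xpi B.ox (Subgroup.mem_subgroupOf.1 hq) hk.symm with e | e
      · exact hq1 (Subtype.ext e)
      · exact hqz (Subtype.ext e)
    · rw [hz2, h, zpow_one] at hk
      exact hk.symm
  · have hd := Subgroup.orderOf_dvd_natCard Q (Subgroup.mem_subgroupOf.1 h)
    rw [L.opi, L.card_Q B.xpi B.ox] at hd
    norm_num at hd
  · -- `s` inverts `π` modulo `Q`
    show (s : G) * π * (s : G)⁻¹ * π ∈ Q
    set π' := (s : G) * π * (s : G)⁻¹ with hπ'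
    have hπT : π ∈ T := Subgroup.mem_sup_right (Subgroup.mem_zpowers π)
    have hπ'T : π' ∈ T := hsT π hπT
    have hfac : (Nat.card ↥T).factorization 3 = 1 := by
      rw [hT24, show (24 : ℕ) = 3 * 8 by norm_num, Nat.factorization_mul (by norm_num) (by norm_num),
        Finsupp.add_apply, Nat.Prime.factorization_self Nat.prime_three,
        Nat.factorization_eq_zero_of_not_dvd (show ¬ 3 ∣ 8 by norm_num)]
    obtain ⟨r, hr⟩ := exists_conj_mem (G := ↥T) (p := 3) Nat.prime_three (by rw [hT24]; norm_num)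
      (H := Subgroup.zpowers (⟨π, hπT⟩ : ↥T)) (by rw [Nat.card_zpowers, Subgroup.orderOf_mk, L.opi])
      (x := ⟨π', hπ'T⟩) (by rw [Subgroup.orderOf_mk, hπ']; exact ((MulAut.conj (s : G)).orderOf_eq π).trans L.opi)
    obtain ⟨k, hk⟩ := Subgroup.mem_zpowers_iff.1 hr
    have hk' : π ^ k = (r : G) * π' * (r : G)⁻¹ := by simpa using congrArg Subtype.val hk
    have hπ3 : π ^ 3 = 1 := by rw [← L.opi]; exact pow_orderOf_eq_one π
    have hπk : π ^ k = π ^ (k % 3) := zpow_eq_zpow_emod' (n := 3) k hπ3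
    rw [hπk] at hk'
    have hk3 : k % 3 = 0 ∨ k % 3 = 1 ∨ k % 3 = 2 := by omega
    rcases hk3 with h | h | h
    · rw [h, zpow_zero, eq_comm, mul_inv_eq_one, mul_eq_left, hπ', mul_inv_eq_one, mul_eq_left] at hk'
      have := L.opi
      rw [hk', orderOf_one] at this
      omega
    · exfalso
      rw [h, zpow_one] at hk'
      refine B.not_inverting (y := (r : G) * s) (mem_cent.2 ?_) ?_
      · calc (r : G) * s * π = ((r : G) * π' * (r : G)⁻¹) * ((r : G) * s) := by rw [hπ']; group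
          _ = _ := by rw [← hk']
      · calc (r : G) * s * x * ((r : G) * s)⁻¹ = r * ((s : G) * x * (s : G)⁻¹) * (r : G)⁻¹ := by group
          _ = _ := by
            rw [hsinv, ((show Commute (r : G) x from mem_cent.1 (hTH r.2).2).inv_right).eq, mul_inv_cancel_right]
    · -- modulo `Q` the group `T` is abelian
      rw [h] at hk'
      have hr' : ∃ q ∈ Q, ∃ j : ℤ, (r : G) = q * π ^ j := by
        have hmem : (r : G) ∈ ((Q ⊔ Subgroup.zpowers π : Subgroup G) : Set G) := r.2
        rw [Subgroup.coe_mul_of_right_le_normalizer_left Q _ (Subgroup.zpowers_le.2 hπN)] at hmem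
        obtain ⟨q, hq, p, hp, e⟩ := Set.mem_mul.1 hmem
        obtain ⟨j, rfl⟩ := Subgroup.mem_zpowers_iff.1 hp
        exact ⟨q, hq, j, e.symm⟩
      obtain ⟨q, hq, j, hqj⟩ := hr'
      have e : π' = π ^ (-j) * (q⁻¹ * (π ^ (2 : ℤ) * q * π ^ (-2 : ℤ))) * π ^ (2 : ℤ) * π ^ j := by
        have : π' = (r : G)⁻¹ * π ^ (2 : ℤ) * r := by rw [hk']; group
        rw [this, hqj]; group
      have hin : q⁻¹ * (π ^ (2 : ℤ) * q * π ^ (-2 : ℤ)) ∈ Q := by
        have := (Subgroup.mem_normalizer_iff.1 (Subgroup.zpow_mem _ hπN 2) q).1 hq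
        rw [← zpow_neg] at this
        exact Q.mul_mem (Q.inv_mem hq) this
      have e2 : π' * π = π ^ (-j) * (q⁻¹ * (π ^ (2 : ℤ) * q * π ^ (-2 : ℤ))) * (π ^ (-j))⁻¹ := by
        have h3 : π ^ (2 : ℤ) * π = 1 := by
          rw [show (2 : ℤ) = ((2 : ℕ) : ℤ) from rfl, zpow_natCast, ← pow_succ, hπ3]
        rw [e, zpow_neg π j, inv_inv]
        calc (π ^ j)⁻¹ * (q⁻¹ * (π ^ (2 : ℤ) * q * π ^ (-2 : ℤ))) * π ^ (2 : ℤ) * π ^ j * π
            = (π ^ j)⁻¹ * (q⁻¹ * (π ^ (2 : ℤ) * q * π ^ (-2 : ℤ))) * (π ^ (2 : ℤ) * π) * π ^ j := by group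
          _ = _ := by rw [h3, mul_one]
      rw [e2]
      exact (Subgroup.mem_normalizer_iff.1 (Subgroup.zpow_mem _ hπN (-j)) _).1 hin
  · -- fixed points
    have hqQ := Subgroup.mem_subgroupOf.1 hq
    have hfix' : π * (q : G) * π⁻¹ * (q : G)⁻¹ = 1 ∨ π * (q : G) * π⁻¹ * (q : G)⁻¹ = z := hfix.imp
      (fun h => congrArg Subtype.val h) (fun h => congrArg Subtype.val h)
    have hcomm : π * (q : G) * π⁻¹ * (q : G)⁻¹ = 1 := by
      rcases hfix' with h | h
      · exact h
      exfalso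
      have h1 : π * (q : G) * π⁻¹ = z * q := by rw [← h]; group
      have hcz : π * z * π⁻¹ = z := by rw [L.piz, mul_inv_cancel_right]
      have h3 : π ^ 3 = 1 := by rw [← L.opi]; exact pow_orderOf_eq_one π
      have : (q : G) = z * z * z * q := by
        calc (q : G) = π ^ 3 * q * (π ^ 3)⁻¹ := by rw [h3, one_mul, inv_one, mul_one]
          _ = π * (π * (π * (q : G) * π⁻¹) * π⁻¹) * π⁻¹ := by simp only [pow_succ, pow_zero, one_mul]; group
          _ = π * (π * (z * q) * π⁻¹) * π⁻¹ := by rw [h1]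
          _ = π * ((π * z * π⁻¹) * (π * (q : G) * π⁻¹)) * π⁻¹ := by group
          _ = π * (z * (z * q)) * π⁻¹ := by rw [h1, hcz]
          _ = (π * z * π⁻¹) * (π * z * π⁻¹) * (π * (q : G) * π⁻¹) := by group
          _ = _ := by rw [h1, hcz]; group
      rw [L.zz, one_mul] at this
      exact L.z_ne (by simpa using this.symm)
    rcases L.fpf (q : G) hqQ.1 (mul_inv_eq_iff_eq_mul.1 (mul_inv_eq_one.1 hcomm)).symm with e | e
    · exact Or.inl (Subtype.ext e)
    · exact Or.inr (Subtype.ext e)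

/-- The classes of elements of order eleven. -/
theorem two_classes (hna : ¬ ∀ a ∈ O, ∀ b ∈ O, a * b = b * a) :
    ∃ v : G, orderOf v = 11 ∧ ¬ IsConj x v ∧ ∀ w : G, orderOf w = 11 → IsConj w x ∨ IsConj w v := by
  classical
  have L := B.loc
  haveI := Fact.mk (show Nat.Prime 11 by norm_num)
  obtain ⟨v, hv⟩ := exists_prime_orderOf_dvd_card' (G := ↥(cent t)) 11 (by rw [L.ct]; norm_num)
  rw [← Subgroup.orderOf_coe] at hv
  have hnot : ¬ IsConj x (v : G) := by
    intro h
    obtain ⟨c, hc⟩ := isConj_iff.1 h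
    have hi : c⁻¹ * t * c ∈ cent x := mem_cent.2 (by
      have h1 := mem_cent.1 v.2
      rw [← hc] at h1
      calc c⁻¹ * t * c * x = c⁻¹ * (t * (c * x * c⁻¹)) * c := by group
        _ = _ := by rw [← h1]; group)
    set i := c⁻¹ * t * c
    have hio : orderOf i = 2 := by
      rw [← L.ot]; simpa [i] using ((MulAut.conj c⁻¹).orderOf_eq t)
    haveI := Fact.mk Nat.prime_two
    have h8 : Nat.card ↥((E ⊓ cent x).subgroupOf (cent x)) = 8 := by
      rw [Nat.card_congr (Subgroup.subgroupOfEquivOfLe inf_le_right).toEquiv, L.card_Q B.xpi B.ox]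
    have hfac : (Nat.card ↥(cent x)).factorization 2 = 3 := by
      rw [B.core.card_cent, show (31944 : ℕ) = 2 ^ 3 * 3993 by norm_num,
        Nat.factorization_mul (by norm_num) (by norm_num), Finsupp.add_apply, Nat.factorization_pow]
      simp [Nat.Prime.factorization_self Nat.prime_two,
        Nat.factorization_eq_zero_of_not_dvd (show ¬ 2 ∣ 3993 by norm_num)]
    let S : Sylow 2 ↥(cent x) := Sylow.ofCard ((E ⊓ cent x).subgroupOf (cent x)) (by rw [h8, hfac]; norm_num)
    obtain ⟨P, hP⟩ := (IsPGroup.of_card (G := ↥(Subgroup.zpowers (⟨i, hi⟩ : ↥(cent x)))) (n := 1)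
      (by rw [Nat.card_zpowers, Subgroup.orderOf_mk, hio, pow_one])).exists_le_sylow
    obtain ⟨d, hd⟩ := MulAction.exists_smul_eq ↥(cent x) P S
    have h1 : (S : Subgroup ↥(cent x)) = (P : Subgroup ↥(cent x)).map (MulAut.conj d).toMonoidHom := by
      rw [← hd, Sylow.coe_subgroup_smul]; rfl
    have h2 : (d : G) * i * (d : G)⁻¹ ∈ E ⊓ cent x :=
      Subgroup.mem_subgroupOf.1 (h1.ge ⟨⟨i, hi⟩, hP (Subgroup.mem_zpowers _), rfl⟩)
    have h2o : orderOf ((d : G) * i * (d : G)⁻¹) = 2 := ((MulAut.conj (d : G)).orderOf_eq i).trans hio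
    rcases L.invol_Q B.xpi B.ox h2 (by rw [← pow_two, ← h2o, pow_orderOf_eq_one]) with e | e
    · rw [e, orderOf_one] at h2o; omega
    · refine L.hzt (isConj_iff.2 ⟨c * (d : G)⁻¹, ?_⟩)
      rw [← e]; simp only [i]; group
  have hmain : ∀ w : G, orderOf w = 11 → ∀ f : G, f ∈ B.inverted → f ≠ 1 → IsConj w x ∨ IsConj w f := by
    intro w hw f hf hf1
    obtain ⟨c, hc⟩ := B.exists_sylow_conj (k := 1) (by rw [pow_one]; exact hw)
    set g := c * w * c⁻¹
    have hwg : IsConj w g := isConj_iff.2 ⟨c, rfl⟩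
    have hg1 : g ≠ 1 := fun e => by
      have := ((MulAut.conj c).orderOf_eq w).trans hw
      rw [MulAut.conj_apply, show c * w * c⁻¹ = 1 from e, orderOf_one] at this
      omega
    by_cases hgx : g ∈ Subgroup.zpowers x
    · left
      obtain ⟨a, -, ha⟩ : g ∈ {v : G | ∃ h ∈ B.Act, h * x * h⁻¹ = v} := by
        by_contra hno
        have hsub : {v : G | ∃ h ∈ B.Act, h * x * h⁻¹ = v} ⊆ (Subgroup.zpowers x : Set G) \ {1, g} := by
          rintro u ⟨h, hh, rfl⟩
          refine ⟨(Subgroup.mem_normalizer_iff.1 hh.1 x).1 (Subgroup.mem_zpowers x), ?_⟩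
          rintro (e | e)
          · rw [mul_inv_eq_one, mul_eq_left] at e; exact B.xne e
          · exact hno ⟨h, hh, e⟩
        have h1 := Set.ncard_le_ncard hsub (Set.toFinite _)
        have h9 : ((Subgroup.zpowers x : Set G) \ {1, g}).ncard = 9 := by
          rw [Set.ncard_sdiff (by
              intro u hu
              rcases hu with rfl | rfl
              exacts [one_mem (Subgroup.zpowers x), hgx]) (Set.toFinite _),
            Set.ncard_pair (Ne.symm hg1), ← Nat.card_coe_set_eq]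
          show Nat.card ↥(Subgroup.zpowers x) - 2 = 9
          rw [Nat.card_zpowers, B.ox]
        have hact := CfsgLib.JFour.card_orbit_mul B.Act x
        have hle : Nat.card ↥(B.Act ⊓ Subgroup.centralizer ({x} : Set G)) ≤ 264 := by
          rw [← L.card_zx B.xpi B.ox]
          exact Subgroup.card_le_of_le fun a ha => ⟨ha.1.2, ha.2⟩
        rw [B.card_act] at hact
        have := Nat.mul_le_mul (h1.trans h9.le) hle
        omega
      exact hwg.trans (isConj_iff.2 ⟨a, ha⟩).symm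
    · right
      obtain ⟨l, hl, hgl⟩ := B.exists_inverted hc
      have hne : g * l ≠ 1 := fun e => hgx (by rw [eq_inv_of_mul_eq_one_left e]; exact inv_mem hl)
      obtain ⟨a, -, ha⟩ := (B.inverted_orbit hgl hne).1.ge ⟨hf, hf1⟩
      refine (hwg.trans ?_).trans (isConj_iff.2 ⟨a, ha⟩)
      -- `g` and `g * l` are conjugate under `O`
      obtain ⟨b, hb, hbg⟩ : ∃ b ∈ O, b * g ≠ g * b := by
        by_contra h
        push Not at h
        exact hgx (B.mem_zpowers_center hna hc fun a ha => h a ha)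
      have hu := B.core.oddCore.commutator_mem L.zz B.core.fix B.z_mem (O.inv_mem hc) hb
      set u := g⁻¹ * b * g⁻¹⁻¹ * b⁻¹ with hudef
      have hu1 : u ≠ 1 := fun e => hbg (by
        have h1 : g⁻¹ * b * g = b := by rwa [hudef, inv_inv, mul_inv_eq_one] at e
        calc b * g = g * (g⁻¹ * b * g) := by group
          _ = _ := by rw [h1])
      obtain ⟨m, hm⟩ : ∃ m : ℕ, l = u ^ m := by
        have heq : Subgroup.zpowers u = Subgroup.zpowers x := Subgroup.eq_of_le_of_card_ge
          (Subgroup.zpowers_le.2 hu) (by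
            rw [Nat.card_zpowers, Nat.card_zpowers, B.ox]
            exact le_of_eq (orderOf_eq_prime (B.pow_eleven (Subgroup.zpowers_le.2 B.core.mem hu)) hu1).symm)
        have hl' : l ∈ Subgroup.zpowers u := heq.ge hl
        rw [← mem_powers_iff_mem_zpowers] at hl'
        obtain ⟨m, rfl⟩ := hl'
        exact ⟨m, rfl⟩
      have hbu : b * g * b⁻¹ = g * u := by rw [hudef]; group
      have hcu : Commute b u := by
        obtain ⟨i, hi⟩ := Subgroup.mem_zpowers_iff.1 hu
        rw [← hi]; exact (show Commute b x from B.x_central hb).zpow_right i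
      have hpow : ∀ k : ℕ, b ^ k * g * (b ^ k)⁻¹ = g * u ^ k := by
        intro k
        induction k with
        | zero => simp
        | succ k ih =>
          rw [pow_succ' b k]
          calc b * b ^ k * g * (b * b ^ k)⁻¹ = b * (b ^ k * g * (b ^ k)⁻¹) * b⁻¹ := by group
            _ = b * (g * u ^ k) * b⁻¹ := by rw [ih]
            _ = (b * g * b⁻¹) * (b * u ^ k * b⁻¹) := by group
            _ = g * u * u ^ k := by rw [hbu, (hcu.pow_right k).eq, mul_inv_cancel_right]
            _ = _ := by rw [pow_succ', mul_assoc]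
      exact isConj_iff.2 ⟨b ^ m, by rw [hpow, hm]⟩
  obtain ⟨g, hg⟩ : ∃ g ∈ O, g ∉ Subgroup.zpowers x := by
    by_contra h
    push Not at h
    have := Subgroup.card_le_of_le h
    rw [B.core.card, Nat.card_zpowers, B.ox] at this
    omega
  obtain ⟨l, hl, hf⟩ := B.exists_inverted hg.1
  have hf1 : g * l ≠ 1 := fun e => hg.2 (by rw [eq_inv_of_mul_eq_one_left e]; exact inv_mem hl)
  refine ⟨v, hv, hnot, fun w hw => ?_⟩
  rcases hmain v hv _ hf hf1 with h | h
  · exact absurd h.symm hnot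
  rcases hmain w hw _ hf hf1 with h' | h'
  · exact Or.inl h'
  · exact Or.inr (h'.trans h.symm)

end Base

end CfsgLib.JFourPrime
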