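import Cfsg.Agent.Lib.JFourPrime.Large
import Cfsg.Agent.Lib.JFourPrime.AbelianKill
import Cfsg.Agent.Lib.JFourPrime.ElevenStructure

/-!
# The Sylow subgroups of order `11 ^ 3`
-/

set_option autoImplicit false
set_option maxRecDepth 100000
set_option linter.style.haveILetI false
set_option linter.unusedSectionVars false

open Cfsg

namespace CfsgLib.JFourPrime

universe u

variable {G : Type u} [Group G] [Finite G]

theorem large_facts [IsSimpleGroup G] (hG : ¬ IsMulCommutative G) (hJ : IsOfJankoFourType G) : LargeFacts G := by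
  intro pe hpe
  obtain ⟨z, π, t, E, L⟩ := exists_loc hG hJ
  have hp : pe.1.Prime := by
    simp only [bigPairs, List.mem_cons, List.not_mem_nil, or_false] at hpe
    rcases hpe with rfl | rfl | rfl | rfl | rfl <;> norm_num
  haveI := Fact.mk hp
  let U : Sylow pe.1 G := default
  refine ⟨U, ?_, sylow_large hG hJ hpe hp U⟩
  rw [U.card_eq_multiplicity]
  have hfac : (Nat.card G).factorization pe.1 = 1 := by
    refine le_antisymm ?_ ((hp.dvd_iff_one_le_factorization Nat.card_pos.ne').1 ?_)
    · by_contra hlt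
      refine L.not_dvd_sq (p := pe.1) ?_ ((hp.pow_dvd_iff_le_factorization Nat.card_pos.ne').2 (by omega))
      simp only [bigPairs, List.mem_cons, List.not_mem_nil, or_false] at hpe
      rcases hpe with rfl | rfl | rfl | rfl | rfl <;> simp
    · rw [L.card]
      simp only [bigPairs, List.mem_cons, List.not_mem_nil, or_false] at hpe
      rcases hpe with rfl | rfl | rfl | rfl | rfl <;> norm_num
  rw [hfac, pow_one]

theorem nonabelian [IsSimpleGroup G] (hG : ¬ IsMulCommutative G) (hJ : IsOfJankoFourType G) {z π t x : G}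
    {E O : Subgroup G} (B : Base z π t E x O) : ¬ ∀ a ∈ O, ∀ b ∈ O, a * b = b * a := by
  classical
  intro hab
  letI : Fintype G := Fintype.ofFinite G
  letI : Fintype ↥O := Fintype.ofFinite _
  exact AbBase.false_of_large (G := G) ⟨B, hab⟩ (fun h => hG (IsCyclic.isMulCommutative (α := G)))
    (large_facts hG hJ)

theorem sylow_eleven [IsSimpleGroup G] (hG : ¬ IsMulCommutative G) (hJ : IsOfJankoFourType G) (U : Sylow 11 G) :
    IsExtraspecial 11 ↥(U : Subgroup G) ∧ Nat.card ↥(U : Subgroup G) = 11 ^ 3 ∧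
      Monoid.exponent ↥(U : Subgroup G) = 11 ∧
      Nat.card ↥(Subgroup.normalizer ((U : Subgroup G) : Set G)) = 2 ^ 4 * 3 * 5 * 11 ^ 3 ∧
      ∃ K : Subgroup G, K ≤ Subgroup.normalizer ((U : Subgroup G) : Set G) ∧
        Nonempty (↥K ≃* GL (Fin 2) (ZMod 3)) := by
  classical
  haveI := Fact.mk (show Nat.Prime 11 by norm_num)
  obtain ⟨z, π, t, E, L⟩ := exists_loc hG hJ
  obtain ⟨x, O, B⟩ := L.exists_base
  have hna := nonabelian hG hJ B
  obtain ⟨hex, hexp⟩ := B.extraspecial hna
  let S : Sylow 11 G := Sylow.ofCard O (by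
    rw [B.core.card, L.card, show (86775571046077562880 : ℕ) = 11 ^ 3 * 65195770883604480 by norm_num,
      Nat.factorization_mul (by norm_num) (by norm_num), Finsupp.add_apply, Nat.factorization_pow]
    simp [Nat.Prime.factorization_self (show Nat.Prime 11 by norm_num),
      Nat.factorization_eq_zero_of_not_dvd (show ¬ 11 ∣ 65195770883604480 by norm_num)])
  obtain ⟨c, hc⟩ := MulAction.exists_smul_eq G S U
  have hU : (U : Subgroup G) = O.map (MulAut.conj c).toMonoidHom := by
    rw [← hc, Sylow.coe_subgroup_smul]; rfl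
  rw [hU]
  have e : ↥O ≃* ↥(O.map (MulAut.conj c).toMonoidHom) := O.equivMapOfInjective _ (MulAut.conj c).injective
  have hN : Subgroup.normalizer ((O.map (MulAut.conj c).toMonoidHom : Subgroup G) : Set G) =
      (Subgroup.normalizer (O : Set G)).map (MulAut.conj c).toMonoidHom :=
    (Subgroup.map_normalizer_eq_of_bijective _ (MulAut.conj c).bijective).symm
  obtain ⟨K, hK, ⟨eK⟩⟩ := B.exists_gl
  refine ⟨Extraspecial.isExtraspecial_congr e hex, ?_, ?_, ?_, K.map (MulAut.conj c).toMonoidHom, ?_,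
    ⟨(K.equivMapOfInjective _ (MulAut.conj c).injective).symm.trans eK⟩⟩
  · rw [← Nat.card_congr e.toEquiv, B.core.card]; norm_num
  · rw [← Monoid.exponent_eq_of_mulEquiv e, hexp]
  · rw [hN, Subgroup.card_map_of_injective (MulAut.conj c).injective, B.card_normalizer hna]; norm_num
  · rw [hN]; exact Subgroup.map_mono hK

theorem classes_eleven [IsSimpleGroup G] (hG : ¬ IsMulCommutative G) (hJ : IsOfJankoFourType G) :
    ∃ x y : G, orderOf x = 11 ∧ orderOf y = 11 ∧ ¬ IsConj x y ∧
      ∀ w : G, orderOf w = 11 → IsConj w x ∨ IsConj w y := by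
  obtain ⟨z, π, t, E, L⟩ := exists_loc hG hJ
  obtain ⟨x, O, B⟩ := L.exists_base
  obtain ⟨v, hv, hxv, hall⟩ := B.two_classes (nonabelian hG hJ B)
  exact ⟨x, v, B.ox, hv, hxv, hall⟩

end CfsgLib.JFourPrime
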