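import Cfsg.Agent.Lib.JFourPrime.ElevenH

/-!
# The centralizer of an element of order eleven commuting with a conjugate of `z`
-/

set_option autoImplicit false
set_option maxRecDepth 100000
set_option linter.style.haveILetI false
set_option linter.unusedSectionVars false

open Cfsg

namespace CfsgLib.JFourPrime

variable {G : Type*} [Group G] [Finite G] {z π t : G} {E : Subgroup G}

/-- A square root in the powers of an element of odd order. -/
theorem exists_sqrt {m z : G} (hm : Odd (orderOf m)) (hzm : z * m * z⁻¹ = m⁻¹) :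
    ∃ r ∈ Subgroup.zpowers m, r * r = m ∧ z * r * z⁻¹ = r⁻¹ := by
  obtain ⟨k, hk⟩ := hm
  refine ⟨m ^ (k + 1), Subgroup.npow_mem_zpowers m _, ?_, ?_⟩
  · rw [← pow_add, show k + 1 + (k + 1) = 2 * k + 1 + 1 by ring, ← hk, pow_succ, pow_orderOf_eq_one, one_mul]
  · rw [← MulAut.conj_apply, map_pow, MulAut.conj_apply, hzm, inv_pow]

/-- An odd normal part of the centralizer of `x` with the commutators of the involution `u`. -/
structure OddCore (u x : G) (O : Subgroup G) : Prop where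
  le : O ≤ cent x
  mem : x ∈ O
  normal : ∀ g ∈ cent x, ∀ o ∈ O, g * o * g⁻¹ ∈ O
  odd : Odd (Nat.card O)
  com : ∀ g ∈ cent x, u * g * u⁻¹ * g⁻¹ ∈ O

/-- The odd part exists when the involution is isolated. -/
theorem exists_oddCore {u x : G} (hu : orderOf u = 2) (hx11 : orderOf x = 11) (hzX' : u ∈ cent x)
    (hiso : ∀ v, v ∈ cent x → v ∈ cent u → v * v = 1 → v = 1 ∨ v = u) : ∃ O : Subgroup G, OddCore u x O := by
  classical
  set X := cent x with hX
  have hxX : x ∈ X := mem_cent.2 rfl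
  have hzX : u ∈ X := hzX'
  have huu : u * u = 1 := by rw [← pow_two, ← hu, pow_orderOf_eq_one]
  have hu1 : u ≠ 1 := fun e => by rw [e, orderOf_one] at hu; omega
  obtain ⟨N, hN, hNodd, hNcom⟩ := CfsgLib.JFour.exists_fused_or_core (G := ↥X) (z := ⟨u, hzX⟩)
    (by rw [Subgroup.orderOf_mk, hu]) (fun g hg => by
      refine Subtype.ext ?_
      have hg' := congrArg Subtype.val hg
      simp only [Subgroup.coe_mul, InvMemClass.coe_inv] at hg' ⊢
      refine (hiso _ (mul_mem (mul_mem g.2 hzX) (inv_mem g.2)) (mem_cent.2 hg') ?_).resolve_left fun e => hu1 ?_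
      · rw [show (g : G) * u * (g : G)⁻¹ * ((g : G) * u * (g : G)⁻¹) = g * (u * u) * (g : G)⁻¹ by group, huu]
        group
      · rwa [mul_inv_eq_one, mul_eq_left] at e)
  have hxc : (⟨x, hxX⟩ : ↥X) ∈ Subgroup.center ↥X :=
    Subgroup.mem_center_iff.2 fun g => Subtype.ext (mem_cent.1 g.2)
  haveI hxn : (Subgroup.zpowers (⟨x, hxX⟩ : ↥X)).Normal := ⟨fun a ha g => by
    have : a ∈ Subgroup.center ↥X := Subgroup.zpowers_le.2 hxc ha
    rwa [Subgroup.mem_center_iff.1 this g, mul_inv_cancel_right]⟩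
  haveI := hN
  set O' := N ⊔ Subgroup.zpowers (⟨x, hxX⟩ : ↥X) with hO'
  set O := O'.map X.subtype with hOdef
  have hOX : O ≤ X := Subgroup.map_subtype_le _
  have hxO : x ∈ O := ⟨⟨x, hxX⟩, Subgroup.mem_sup_right (Subgroup.mem_zpowers _), rfl⟩
  have hOn : ∀ g ∈ X, ∀ o ∈ O, g * o * g⁻¹ ∈ O := by
    rintro g hg _ ⟨o, ho, rfl⟩
    exact ⟨_, (inferInstance : O'.Normal).conj_mem o ho ⟨g, hg⟩, rfl⟩
  have hodd : ∀ o ∈ O, o * o = 1 → o = 1 := by
    rintro _ ⟨o, ho, rfl⟩ h2
    have h2' : o * o = 1 := Subtype.ext h2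
    rw [SetLike.mem_coe, hO', ← SetLike.mem_coe, Subgroup.normal_mul] at ho
    obtain ⟨n, hn, w, hw, rfl⟩ := ho
    obtain ⟨i, rfl⟩ := Subgroup.mem_zpowers_iff.1 hw
    have hc : Commute n ((⟨x, hxX⟩ : ↥X) ^ i) := by
      have h1 : (⟨x, hxX⟩ : ↥X) ^ i ∈ Subgroup.center ↥X := Subgroup.zpow_mem _ hxc i
      exact Subgroup.mem_center_iff.1 h1 n
    set v := n * (⟨x, hxX⟩ : ↥X) ^ i with hv
    have hu11 : v ^ 11 = n ^ 11 := by
      rw [hv, hc.mul_pow, ← zpow_natCast ((⟨x, hxX⟩ : ↥X) ^ i) 11, ← zpow_mul, mul_comm i, zpow_mul, zpow_natCast,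
        show (⟨x, hxX⟩ : ↥X) ^ 11 = 1 from Subtype.ext (by simpa [hx11] using pow_orderOf_eq_one x),
        one_zpow, mul_one]
    have hu1 : v = n ^ 11 := by
      rw [← hu11, show 11 = 2 * 5 + 1 by norm_num, pow_succ, pow_mul, pow_two, h2', one_pow, one_mul]
    have hd : orderOf v ∣ Nat.card N := hu1 ▸ Subgroup.orderOf_dvd_natCard N (pow_mem hn 11)
    have := Nat.eq_one_of_dvd_coprimes (Nat.coprime_two_left.2 hNodd)
      (orderOf_dvd_of_pow_eq_one (by rw [pow_two, h2'])) hd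
    rw [orderOf_eq_one_iff] at this
    show ((v : ↥X) : G) = 1
    rw [this]; rfl
  have hOodd : Odd (Nat.card O) := by
    rw [← Nat.not_even_iff_odd, even_iff_two_dvd]
    intro h
    haveI := Fact.mk Nat.prime_two
    obtain ⟨o, ho⟩ := exists_prime_orderOf_dvd_card' (G := ↥O) 2 h
    have h2 : (o : G) * o = 1 := by
      rw [← pow_two, ← Subgroup.coe_pow, ← ho, pow_orderOf_eq_one, Subgroup.coe_one]
    have h1 := hodd o o.2 h2
    rw [← Subgroup.orderOf_coe, h1, orderOf_one] at ho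
    omega
  have hord : ∀ o ∈ O, Odd (orderOf o) := fun o ho => hOodd.of_dvd_nat (Subgroup.orderOf_dvd_natCard O ho)
  have hcom : ∀ g ∈ X, u * g * u⁻¹ * g⁻¹ ∈ O := fun g hg =>
    ⟨_, Subgroup.mem_sup_left (hNcom ⟨g, hg⟩), rfl⟩
  exact ⟨O, ⟨hOX, hxO, hOn, hOodd, hcom⟩⟩

namespace OddCore

variable {u x : G} {O : Subgroup G} (C : OddCore u x O)
include C

theorem odd_orderOf {o : G} (ho : o ∈ O) : Odd (orderOf o) :=
  C.odd.of_dvd_nat (Subgroup.orderOf_dvd_natCard O ho)

/-- Every element is an element of the odd part times one commuting with the involution. -/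
theorem split (huu : u * u = 1) {g : G} (hg : g ∈ cent x) : ∃ o ∈ O, o * g ∈ cent u := by
  set n := u * g * u⁻¹ * g⁻¹ with hn
  have hzn : u * n * u⁻¹ = n⁻¹ := by
    rw [hn, inv_eq_of_mul_eq_one_right huu, show u * (u * g * u * g⁻¹) * u = u * u * g * u * g⁻¹ * u by group, huu, one_mul]
    simp only [mul_inv_rev, inv_inv, inv_eq_of_mul_eq_one_right huu, mul_assoc]
  obtain ⟨r, hr, hr2, hzr⟩ := exists_sqrt (C.odd_orderOf (C.com g hg)) hzn
  refine ⟨r, Subgroup.zpowers_le.2 (C.com g hg) hr, mem_cent.2 ?_⟩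
  have hzg : u * g * u⁻¹ = n * g := by rw [hn]; group
  calc r * g * u = r⁻¹ * (r * r) * g * u := by group
    _ = (u * r * u⁻¹) * (u * g * u⁻¹) * u := by rw [hzr, hr2, hzg]; group
    _ = u * (r * g) := by group

/-- The involution inverts the odd part modulo `x`. -/
theorem inv (huu : u * u = 1) (hfix : O ⊓ cent u = Subgroup.zpowers x) {g : G} (hg : g ∈ O) (hzX : u ∈ cent x) :
    g * (u * g * u⁻¹) ∈ Subgroup.zpowers x := by
  set m := g⁻¹ * (u * g * u⁻¹) with hm
  have hmO : m ∈ O := O.mul_mem (O.inv_mem hg) (C.normal u hzX g hg)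
  have hzm : u * m * u⁻¹ = m⁻¹ := by
    rw [hm, inv_eq_of_mul_eq_one_right huu, show u * (g⁻¹ * (u * g * u)) * u = u * g⁻¹ * u * g * (u * u) by group, huu, mul_one]
    simp only [mul_inv_rev, inv_inv, inv_eq_of_mul_eq_one_right huu, mul_assoc]
  obtain ⟨r, hr, hr2, hzr⟩ := exists_sqrt (C.odd_orderOf hmO) hzm
  have hrO : r ∈ O := Subgroup.zpowers_le.2 hmO hr
  set c := g * r with hc
  have hzg : u * g * u⁻¹ = c * r := by
    rw [hc, show g * r * r = g * (r * r) by group, hr2, hm]; group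
  have hcz : c ∈ cent u := mem_cent.2 (by
    calc c * u = (c * r) * r⁻¹ * u := by group
      _ = (u * g * u⁻¹) * (u * r * u⁻¹) * u := by rw [hzg, hzr]
      _ = u * c := by rw [hc]; group)
  have hcx : c ∈ Subgroup.zpowers x := hfix.le ⟨O.mul_mem hg hrO, hcz⟩
  obtain ⟨i, hi⟩ := Subgroup.mem_zpowers_iff.1 hcx
  have hcomm : r⁻¹ * c = c * r⁻¹ := by
    rw [← hi]
    exact ((show Commute r⁻¹ x from mem_cent.1 (C.le (O.inv_mem hrO))).zpow_right i).eq
  rw [hzg, show g = c * r⁻¹ by rw [hc]; group, show c * r⁻¹ * (c * r) = c * (r⁻¹ * c) * r by group, hcomm,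
    show c * (c * r⁻¹) * r = c * c by group]
  exact Subgroup.mul_mem _ hcx hcx

theorem commutator_mem (huu : u * u = 1) (hfix : O ⊓ cent u = Subgroup.zpowers x) (hzX : u ∈ cent x) {a b : G}
    (ha : a ∈ O) (hb : b ∈ O) : a * b * a⁻¹ * b⁻¹ ∈ Subgroup.zpowers x := by
  have hW : ∀ w ∈ Subgroup.zpowers x, ∀ g ∈ O, g * w = w * g := fun w hw g hg => by
    obtain ⟨i, rfl⟩ := Subgroup.mem_zpowers_iff.1 hw
    exact ((show Commute g x from mem_cent.1 (C.le hg)).zpow_right i).eq
  have hA := C.inv huu hfix ha hzX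
  have hB := C.inv huu hfix hb hzX
  have hC := C.inv huu hfix (O.mul_mem ha hb) hzX
  set za := u * a * u⁻¹
  set zb := u * b * u⁻¹
  have hzab : u * (a * b) * u⁻¹ = za * zb := by simp only [za, zb]; group
  rw [hzab] at hC
  have e : a * b * (za * zb) = a * b * (a⁻¹ * (a * za)) * (b⁻¹ * (b * zb)) := by group
  rw [e, show a * b * (a⁻¹ * (a * za)) * (b⁻¹ * (b * zb)) =
    a * b * a⁻¹ * ((a * za) * b⁻¹) * (b * zb) by group, ← hW _ hA _ (O.inv_mem hb),
    show a * b * a⁻¹ * (b⁻¹ * (a * za)) * (b * zb) = a * b * a⁻¹ * b⁻¹ * ((a * za) * (b * zb)) by group,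
    Subgroup.mul_mem_cancel_right _ (Subgroup.mul_mem _ hA hB)] at hC
  exact hC

/-- An element of order prime to eleven is central in the odd part. -/
theorem central (huu : u * u = 1) (hfix : O ⊓ cent u = Subgroup.zpowers x) (hzX : u ∈ cent x) (hx11 : orderOf x = 11)
    {y b : G} {n : ℕ} (hy : y ∈ O) (hn : y ^ n = 1) (hn11 : Nat.Coprime n 11) (hb : b ∈ O) : y * b = b * y := by
  have hc := C.commutator_mem huu hfix hzX hy hb
  obtain ⟨i, hi⟩ := Subgroup.mem_zpowers_iff.1 hc
  set c := x ^ i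
  have hcb : Commute c b := ((show Commute b x from mem_cent.1 (C.le hb)).zpow_right i).symm
  have hyb : y * b * y⁻¹ = c * b := by rw [hi]; group
  have hcy : Commute c y := ((show Commute y x from mem_cent.1 (C.le hy)).zpow_right i).symm
  have hpow : ∀ k : ℕ, y ^ k * b * (y ^ k)⁻¹ = c ^ k * b := by
    intro k
    induction k with
    | zero => simp
    | succ k ih =>
      calc y ^ (k + 1) * b * (y ^ (k + 1))⁻¹ = y * (y ^ k * b * (y ^ k)⁻¹) * y⁻¹ := by rw [pow_succ']; group
        _ = y * c ^ k * b * y⁻¹ := by rw [ih]; group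
        _ = c ^ k * (y * b * y⁻¹) := by rw [(hcy.pow_left k).symm.eq]; group
        _ = _ := by rw [hyb, pow_succ, mul_assoc]
  have h1 := hpow n
  rw [hn, one_mul, inv_one, mul_one, right_eq_mul] at h1
  have h2 : c ^ 11 = 1 := by
    rw [← zpow_natCast, ← zpow_mul, mul_comm, zpow_mul, zpow_natCast, ← hx11, pow_orderOf_eq_one, one_zpow]
  have hc1 : c = 1 := orderOf_eq_one_iff.1
    (Nat.eq_one_of_dvd_coprimes hn11 (orderOf_dvd_of_pow_eq_one h1) (orderOf_dvd_of_pow_eq_one h2))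
  rw [hc1, one_mul, mul_inv_eq_iff_eq_mul] at hyb
  exact hyb

end OddCore

/-- An automorphism of a group of prime order is determined by its exponent, so commutators act trivially. -/
theorem comm_fix_of_zpowers {y a b : G} (ha : a * y * a⁻¹ ∈ Subgroup.zpowers y)
    (hb : b * y * b⁻¹ ∈ Subgroup.zpowers y) : a * (b * y * b⁻¹) * a⁻¹ = b * (a * y * a⁻¹) * b⁻¹ := by
  obtain ⟨i, hi⟩ := Subgroup.mem_zpowers_iff.1 ha
  obtain ⟨j, hj⟩ := Subgroup.mem_zpowers_iff.1 hb
  rw [← hi, ← hj, ← MulAut.conj_apply, ← MulAut.conj_apply, map_zpow, map_zpow, MulAut.conj_apply,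
    MulAut.conj_apply, ← hi, ← hj, ← zpow_mul, ← zpow_mul, mul_comm]

/-- The structure of the centralizer of an element of order eleven commuting with a conjugate of `z`. -/
structure Core (z x : G) (O : Subgroup G) : Prop where
  le : O ≤ cent x
  mem : x ∈ O
  normal : ∀ g ∈ cent x, ∀ o ∈ O, g * o * g⁻¹ ∈ O
  fix : O ⊓ cent z = Subgroup.zpowers x
  inv : ∀ g ∈ O, g * (z * g * z⁻¹) ∈ Subgroup.zpowers x
  card : Nat.card O = 1331
  card_cent : Nat.card (cent x) = 31944
  oddCore : OddCore z x O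

namespace Loc

variable (L : Loc z π t E)
include L

theorem exists_core {x : G} (hx : x ∈ cent π) (hx11 : orderOf x = 11) : ∃ O : Subgroup G, Core z x O := by
  classical
  haveI := Fact.mk (show Nat.Prime 11 by norm_num)
  set X := cent x with hX
  set Q := E ⊓ cent x with hQ
  have hxX : x ∈ X := mem_cent.2 rfl
  have hxz : x * z = z * x := mem_cent.1 (L.x_mem hx)
  have hzX : z ∈ X := mem_cent.2 hxz.symm
  have hzi : ∀ a : G, z * (z * a) = a := fun a => by rw [← mul_assoc, L.zz, one_mul]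
  obtain ⟨O, C⟩ := exists_oddCore L.oz hx11 hzX fun v hvx hvz hv => L.invol_Q hx hx11
    (L.two_mem_Q hx hx11 hvz hvx ⟨1, by rw [pow_one, pow_two, hv]⟩) hv
  have hOX : O ≤ X := C.le
  have hxO : x ∈ O := C.mem
  have hOn : ∀ g ∈ X, ∀ o ∈ O, g * o * g⁻¹ ∈ O := C.normal
  have hOodd := C.odd
  have hodd : ∀ o ∈ O, o * o = 1 → o = 1 := fun o ho h => by
    rw [← orderOf_eq_one_iff]
    exact Nat.eq_one_of_dvd_coprimes (Nat.coprime_two_left.2 (C.odd_orderOf ho))
      (orderOf_dvd_of_pow_eq_one (by rw [pow_two, h])) dvd_rfl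
  have hord : ∀ o ∈ O, Odd (orderOf o) := fun o ho => C.odd_orderOf ho
  have hsplit : ∀ g ∈ X, ∃ o ∈ O, o * g ∈ cent z := fun g hg => C.split L.zz hg
  -- fixed points
  have hfix : O ⊓ cent z = Subgroup.zpowers x := by
    set W := O ⊓ cent z with hW
    have hxW : Subgroup.zpowers x ≤ W := Subgroup.zpowers_le.2 ⟨hxO, L.x_mem hx⟩
    have hWo : Odd (Nat.card W) := hOodd.of_dvd_nat (Subgroup.card_dvd_of_le inf_le_left)
    have hWd : Nat.card W ∣ 264 := L.card_zx hx hx11 ▸ Subgroup.card_dvd_of_le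
      (fun w hw => ⟨hw.2, hOX hw.1⟩)
    have h3 : ¬ 3 ∣ Nat.card W := by
      intro h
      obtain ⟨s, hs⟩ := exists_prime_orderOf_dvd_card' (G := ↥W) 3 (hp := ⟨Nat.prime_three⟩) h
      rw [← Subgroup.orderOf_coe] at hs
      have hQs : Q ≤ cent (s : G) ⊓ cent x := by
        intro q hq
        refine ⟨mem_cent.2 ?_, hq.2⟩
        have h1 : q * s * q⁻¹ * (s : G)⁻¹ ∈ W :=
          W.mul_mem ⟨hOn q hq.2 s s.2.1, mul_mem (mul_mem (L.E_le hq.1) s.2.2) ((cent z).inv_mem (L.E_le hq.1))⟩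
            (W.inv_mem s.2)
        have h2 : q * s * q⁻¹ * (s : G)⁻¹ ∈ E := by
          rw [show q * s * q⁻¹ * (s : G)⁻¹ = q * ((s : G) * q⁻¹ * (s : G)⁻¹) by group]
          exact E.mul_mem hq.1 (L.conjE s.2.2 (E.inv_mem hq.1))
        have h4 := Nat.eq_one_of_dvd_coprimes (Nat.Coprime.pow_left 13 (Nat.coprime_two_left.2 hWo))
          (L.cardE ▸ Subgroup.orderOf_dvd_natCard E h2) (Subgroup.orderOf_dvd_natCard W h1)
        rw [orderOf_eq_one_iff, mul_inv_eq_one, mul_inv_eq_iff_eq_mul] at h4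
        exact h4
      have h := (Subgroup.card_dvd_of_le hQs).trans (L.card_pair_dvd hs hx11 (mem_cent.1 (hOX s.2.1)).symm)
      rw [L.card_Q hx hx11] at h
      norm_num at h
    have h11 : Nat.card W ∣ 11 := by
      have hc : Nat.Coprime (Nat.card W) 24 := by
        rw [show (24 : ℕ) = 2 ^ 3 * 3 by norm_num]
        exact Nat.Coprime.mul_right ((Nat.coprime_two_right.2 hWo).pow_right 3)
          ((Nat.prime_three.coprime_iff_not_dvd.2 h3).symm)
      exact hc.dvd_of_dvd_mul_left (hWd.trans (dvd_of_eq (by norm_num)))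
    exact (Subgroup.eq_of_le_of_card_ge hxW
      (by rw [Nat.card_zpowers, hx11]; exact Nat.le_of_dvd (by norm_num) h11)).symm
  -- the order of the centralizer
  have hcard : Nat.card X = Nat.card O * 24 := by
    set K := cent z ⊓ X with hK
    have hrel : O.relIndex X = O.relIndex K := by
      refine le_antisymm ?_ (Subgroup.relIndex_le_of_le_right inf_le_right
        (by rw [Subgroup.relIndex]; exact Subgroup.index_ne_zero_of_finite))
      rw [Subgroup.relIndex, Subgroup.relIndex, Subgroup.index, Subgroup.index]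
      let f : ↥K ⧸ O.subgroupOf K → ↥X ⧸ O.subgroupOf X :=
        Quotient.map' (Subgroup.inclusion inf_le_right) fun a b hab => by
          rw [QuotientGroup.leftRel_apply, Subgroup.mem_subgroupOf] at hab ⊢
          exact hab
      refine Nat.card_le_card_of_surjective f fun q => ?_
      obtain ⟨g, rfl⟩ := QuotientGroup.mk_surjective q
      obtain ⟨o, ho, hz⟩ := hsplit g g.2
      refine ⟨QuotientGroup.mk ⟨o * g, hz, mul_mem (hOX ho) g.2⟩, QuotientGroup.eq.2 ?_⟩
      rw [Subgroup.mem_subgroupOf]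
      show (o * (g : G))⁻¹ * g ∈ O
      rw [show (o * (g : G))⁻¹ * g = (g : G)⁻¹ * o⁻¹ * (g : G)⁻¹⁻¹ by group]
      exact hOn _ (inv_mem g.2) _ (inv_mem ho)
    have h1 := (O.subgroupOf X).card_mul_index
    rw [Nat.card_congr (Subgroup.subgroupOfEquivOfLe hOX).toEquiv] at h1
    have h2 := (O.subgroupOf K).card_mul_index
    have e : O.subgroupOf K = (O ⊓ K).subgroupOf K := (Subgroup.inf_subgroupOf_right O K).symm
    have hOK : O ⊓ K = Subgroup.zpowers x := by
      rw [← hfix]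
      exact le_antisymm (inf_le_inf_left _ inf_le_left) fun o ho => ⟨ho.1, ho.2, hOX ho.1⟩
    have hKc : Nat.card K = 264 := L.card_zx hx hx11
    rw [hKc, show Nat.card ↥(O.subgroupOf K) = 11 by
      rw [e, Nat.card_congr (Subgroup.subgroupOfEquivOfLe inf_le_right).toEquiv, hOK, Nat.card_zpowers, hx11]] at h2
    rw [← h1]
    congr 1
    show O.relIndex X = 24
    rw [hrel]
    show (O.subgroupOf K).index = 24
    omega
  have hinv : ∀ g ∈ O, g * (z * g * z⁻¹) ∈ Subgroup.zpowers x := fun g hg => C.inv L.zz hfix hg hzX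
  obtain ⟨a, haQ, b, hbQ, hab⟩ := L.exists_noncomm hx hx11
  have hzab : a * b * a⁻¹ * b⁻¹ = z := by
    rcases L.setting.comm_cases haQ.1 hbQ.1 with h | h
    · exact absurd (mul_inv_eq_iff_eq_mul.1 h) hab
    · rw [h]; group
  -- only the prime eleven
  have hprime : ∀ q, q.Prime → q ∣ Nat.card O → q = 11 := by
    intro q hq hqO
    haveI := Fact.mk hq
    by_contra hne
    obtain ⟨y, hy⟩ := exists_prime_orderOf_dvd_card' (G := ↥O) q hqO
    have hy' : orderOf (y : G) = q := by rw [Subgroup.orderOf_coe, hy]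
    have hyx : x ∈ cent (y : G) := mem_cent.2 (mem_cent.1 (hOX y.2)).symm
    have hqG : q ∣ 2 ^ 21 * (3 ^ 3 * (5 * (7 * (11 ^ 3 * (23 * (29 * (31 * (37 * 43)))))))) := by
      rw [show (2 ^ 21 * (3 ^ 3 * (5 * (7 * (11 ^ 3 * (23 * (29 * (31 * (37 * 43)))))))) : ℕ) = Nat.card G by
        rw [L.card]; norm_num]
      exact hy' ▸ orderOf_dvd_natCard _
    have hq2 : q ≠ 2 := by
      rintro rfl
      exact (Nat.not_even_iff_odd.2 hOodd) (even_iff_two_dvd.2 hqO)
    have hq5 : q ≠ 5 := by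
      rintro rfl
      have h := Subgroup.orderOf_dvd_natCard _ hyx
      rw [hx11, L.five _ hy'] at h; norm_num at h
    have hq7 : q ≠ 7 := by
      rintro rfl
      have h := Subgroup.orderOf_dvd_natCard _ hyx
      rw [hx11, L.seven _ hy'] at h; norm_num at h
    by_cases hq3 : q = 3
    · subst hq3
      obtain ⟨c, hc⟩ := isConj_iff.1 (L.three _ hy')
      set u := c * z * c⁻¹ with hu
      have huy : ∀ g ∈ cent (y : G), g * u = u * g := fun g hg => by
        rw [← hc, cent_conj, Subgroup.mem_map_equiv, MulAut.conj_symm_apply] at hg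
        have h1 := mem_cent.1 (L.cpi hg)
        calc g * u = c * ((c⁻¹ * g * c) * z) * c⁻¹ := by rw [hu]; group
          _ = _ := by rw [h1, hu]; group
      have hux : u ∈ X := mem_cent.2 (huy x hyx).symm
      have huy' : (y : G) * u = u * y := huy _ (mem_cent.2 rfl)
      have hu2 : u * u = 1 := by
        rw [hu, show c * z * c⁻¹ * (c * z * c⁻¹) = c * (z * z) * c⁻¹ by group, L.zz]; group
      have hu1 : u ≠ 1 := fun e => L.z_ne (by rw [hu, mul_inv_eq_one, mul_eq_left] at e; exact e)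
      -- `u` is conjugate to `z` by an element of `O`
      obtain ⟨o, ho, hoz⟩ := hsplit u hux
      set h := o * u with hh
      have hhX : h ∈ X := mul_mem (hOX ho) hux
      have hh2 : h * h ∈ Subgroup.zpowers x := hfix.le ⟨by
        rw [hh, show o * u * (o * u) = o * (u * o * u⁻¹) * (u * u) by group, hu2, mul_one]
        exact O.mul_mem ho (hOn u hux o ho), mul_mem hoz hoz⟩
      obtain ⟨i, hi⟩ := Subgroup.mem_zpowers_iff.1 hh2
      have hh11 : h ^ 11 * h ^ 11 = 1 := by
        rw [← (Commute.refl h).mul_pow, ← hi, ← zpow_natCast, ← zpow_mul, mul_comm, zpow_mul, zpow_natCast,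
          ← hx11, pow_orderOf_eq_one, one_zpow]
      have hQh := L.two_mem_Q hx hx11 (pow_mem hoz 11) (pow_mem hhX 11) ⟨1, by rw [pow_one, pow_two, hh11]⟩
      have hx5 : h ^ 10 ∈ O := by
        rw [show 10 = 2 * 5 by norm_num, pow_mul, pow_two]
        exact pow_mem (Subgroup.zpowers_le.2 hxO hh2) 5
      have huh : u = o⁻¹ * h ^ 11 * (h ^ 10)⁻¹ := by
        rw [pow_succ' h 10, hh]; group
      rcases L.invol_Q hx hx11 hQh hh11 with e | e <;> rw [e] at huh
      · refine hu1 (hodd u ?_ hu2)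
        rw [huh, mul_one]
        exact O.mul_mem (O.inv_mem ho) (O.inv_mem hx5)
      set m := o⁻¹ * (z * (h ^ 10)⁻¹ * z⁻¹) with hm
      have hmO : m ∈ O := O.mul_mem (O.inv_mem ho) (hOn z hzX _ (O.inv_mem hx5))
      have hum : u = m * z := by rw [huh, hm]; group
      have hzm : z * m * z⁻¹ = m⁻¹ := by
        rw [hum, show m * z * (m * z) = m * (z * m * z) by group] at hu2
        rw [L.z_inv, eq_comm, inv_eq_iff_mul_eq_one, hu2]
      obtain ⟨r, hr, hr2, hzr⟩ := exists_sqrt (hord m hmO) hzm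
      have hrO : r ∈ O := Subgroup.zpowers_le.2 hmO hr
      have hru : r * z * r⁻¹ = u := by
        calc r * z * r⁻¹ = r * (z * r⁻¹ * z⁻¹) * z := by group
          _ = r * (z * r * z⁻¹)⁻¹ * z := by group
          _ = u := by rw [hzr, inv_inv, hr2, hum]
      have hym : r⁻¹ * y * r ∈ Subgroup.zpowers x := hfix.le
        ⟨O.mul_mem (O.mul_mem (O.inv_mem hrO) y.2) hrO, mem_cent.2 (by
          calc r⁻¹ * y * r * z = r⁻¹ * (y * (r * z * r⁻¹)) * r := by group
            _ = r⁻¹ * ((r * z * r⁻¹) * y) * r := by rw [hru, huy']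
            _ = _ := by group)⟩
      have h3 := Subgroup.orderOf_dvd_natCard _ hym
      rw [show r⁻¹ * (y : G) * r = MulAut.conj r⁻¹ y by simp, MulEquiv.orderOf_eq, hy', Nat.card_zpowers, hx11] at h3
      norm_num at h3
    have hqs : q ∈ [5, 7, 23, 29, 31, 37, 43] := by
      have key : ∀ {r a b : ℕ}, r.Prime → q ≠ r → q ∣ r ^ a * b → q ∣ b := fun {r a b} hr hne h =>
        (Nat.Coprime.pow_right a ((Nat.coprime_primes hq hr).2 hne)).dvd_of_dvd_mul_left h
      have h := key (r := 11) (a := 3) (by norm_num) hne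
        (by
          have h1 := key (r := 3) (a := 3) Nat.prime_three hq3 (key (r := 2) (a := 21) Nat.prime_two hq2 hqG)
          have h2 := key (r := 5) (a := 1) (by norm_num) hq5 (by rw [pow_one]; exact h1)
          exact key (r := 7) (a := 1) (by norm_num) hq7 (by rw [pow_one]; exact h2))
      have one : ∀ {r b : ℕ}, r.Prime → q ∣ r * b → q = r ∨ q ∣ b := fun {r b} hr h =>
        (hq.dvd_mul.1 h).imp_left fun h' => (Nat.prime_dvd_prime_iff_eq hq hr).1 h'
      rcases one (by norm_num) h with rfl | h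
      · simp
      rcases one (by norm_num) h with rfl | h
      · simp
      rcases one (by norm_num) h with rfl | h
      · simp
      rcases one (by norm_num) h with rfl | h
      · simp
      · simp [(Nat.prime_dvd_prime_iff_eq hq (by norm_num)).1 h]
    have hq11 : Nat.Coprime q 11 := (Nat.coprime_primes hq (by norm_num)).2 hne
    have hyc : ∀ g ∈ O, (y : G) * g = g * y :=
      fun g hg => C.central L.zz hfix hzX hx11 y.2 (by rw [← hy', pow_orderOf_eq_one]) hq11 hg
    have hQy : ∀ g ∈ Q, g * (y : G) * g⁻¹ ∈ Subgroup.zpowers (y : G) := by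
      intro g hg
      have hgy : orderOf (g * (y : G) * g⁻¹) = q := ((MulAut.conj g).orderOf_eq _).trans hy'
      have hmem := hOn g hg.2 y y.2
      obtain ⟨c, hc⟩ := exists_conj_mem (G := ↥O) hq (fun h => L.not_dvd_sq hqs (h.trans O.card_subgroup_dvd_card))
        (H := Subgroup.zpowers y) (by rw [Nat.card_zpowers, hy]) (x := ⟨_, hmem⟩)
        (by rw [Subgroup.orderOf_mk, hgy])
      obtain ⟨k, hk⟩ := Subgroup.mem_zpowers_iff.1 hc
      have hk' : (y : G) ^ k = c * (g * y * g⁻¹) * (c : G)⁻¹ := by simpa using congrArg Subtype.val hk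
      refine Subgroup.mem_zpowers_iff.2 ⟨k, ?_⟩
      have hck : Commute ((y : G) ^ k) (c : G) := (show Commute (y : G) c from hyc c c.2).zpow_left k
      calc (y : G) ^ k = (c : G)⁻¹ * ((y : G) ^ k * c) := by rw [hck.eq]; group
        _ = _ := by rw [hk']; group
    have hzy : (y : G) ∈ cent z := by
      have h1 := comm_fix_of_zpowers (hQy a haQ) (hQy b hbQ)
      rw [mem_cent, ← hzab]
      have h2 : (b * a)⁻¹ * (a * b) * y * ((b * a)⁻¹ * (a * b))⁻¹ = y := by
        rw [show (b * a)⁻¹ * (a * b) * (y : G) * ((b * a)⁻¹ * (a * b))⁻¹ =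
          (b * a)⁻¹ * (a * (b * y * b⁻¹) * a⁻¹) * (b * a) by group, h1]
        group
      rw [show (b * a)⁻¹ * (a * b) = a⁻¹ * b⁻¹ * a * b by group] at h2
      have h3 := hzab
      have ha' : a⁻¹ * b⁻¹ * a * b = z := by
        calc a⁻¹ * b⁻¹ * a * b = (b * a)⁻¹ * (a * b * a⁻¹ * b⁻¹) * (b * a) := by group
          _ = _ := by
            rw [h3, show (b * a)⁻¹ * z * (b * a) = (b * a)⁻¹ * (z * (b * a)) by group,
              ← mem_cent.1 (mul_mem (L.E_le hbQ.1) (L.E_le haQ.1))]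
            group
      rw [ha'] at h2
      rw [hzab]
      exact (mul_inv_eq_iff_eq_mul.1 h2).symm
    have h := Subgroup.orderOf_dvd_natCard _ (hfix.le ⟨y.2, hzy⟩)
    rw [hy', Nat.card_zpowers, hx11] at h
    exact hne ((Nat.prime_dvd_prime_iff_eq hq (by norm_num)).1 h)
  -- the order of `O`
  have hO3 : Nat.card O ∣ 11 ^ 3 := by
    have hG : Nat.card O ∣ 11 ^ 3 * 65195770883604480 := by
      rw [show (11 ^ 3 * 65195770883604480 : ℕ) = Nat.card G by rw [L.card]; norm_num]
      exact O.card_subgroup_dvd_card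
    refine Nat.Coprime.dvd_of_dvd_mul_right (Nat.coprime_of_dvd fun q hq h1 h2 => ?_) hG
    rw [hprime q hq h1] at h2
    norm_num at h2
  obtain ⟨k, hk, hkO⟩ := (Nat.dvd_prime_pow (show Nat.Prime 11 by norm_num)).1 hO3
  suffices hk3 : k = 3 by
    subst hk3
    exact ⟨O, hOX, hxO, hOn, hfix, hinv, by rw [hkO]; norm_num, by rw [hcard, hkO]; norm_num, C⟩
  -- a Sylow subgroup through `x`
  have h121 : 11 ^ 2 ∣ Nat.card X := by
    obtain ⟨S, hS⟩ := (IsPGroup.of_card (G := ↥(Subgroup.zpowers x)) (n := 1)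
      (by rw [Nat.card_zpowers, hx11, pow_one])).exists_le_sylow
    have hxS : x ∈ (S : Subgroup G) := hS (Subgroup.mem_zpowers x)
    have hSc : Nat.card (S : Subgroup G) = 11 ^ 3 := by
      rw [S.card_eq_multiplicity, L.card]
      congr 1
      rw [show (86775571046077562880 : ℕ) = 11 ^ 3 * 65195770883604480 by norm_num,
        Nat.factorization_mul (by norm_num) (by norm_num), Finsupp.add_apply, Nat.factorization_pow]
      simp [Nat.Prime.factorization_self (show Nat.Prime 11 by norm_num),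
        Nat.factorization_eq_zero_of_not_dvd (show ¬ 11 ∣ 65195770883604480 by norm_num)]
    haveI : Nontrivial ↥(S : Subgroup G) := Finite.one_lt_card_iff_nontrivial.1 (by rw [hSc]; norm_num)
    haveI := S.isPGroup'.center_nontrivial
    obtain ⟨w, hw⟩ := exists_prime_orderOf_dvd_card' (G := ↥(Subgroup.center ↥(S : Subgroup G))) 11
      (by
        obtain ⟨j, hj⟩ := IsPGroup.iff_card.1 ((S.isPGroup').to_subgroup (Subgroup.center ↥(S : Subgroup G)))
        have : 1 < Nat.card (Subgroup.center ↥(S : Subgroup G)) := Finite.one_lt_card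
        rw [hj] at this ⊢
        exact dvd_pow_self 11 (by rintro rfl; simp at this))
    have hwx : ∀ g ∈ (S : Subgroup G), ((w : ↥(S : Subgroup G)) : G) * g = g * (w : ↥(S : Subgroup G)) :=
      fun g hg => (congrArg Subtype.val (Subgroup.mem_center_iff.1 w.2 ⟨g, hg⟩)).symm
    by_cases hwX : ((w : ↥(S : Subgroup G)) : G) ∈ Subgroup.zpowers x
    · have hxall : (S : Subgroup G) ≤ X := by
        have hne : Subgroup.zpowers ((w : ↥(S : Subgroup G)) : G) = Subgroup.zpowers x :=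
          Subgroup.eq_of_le_of_card_ge (Subgroup.zpowers_le.2 hwX)
            (by rw [Nat.card_zpowers, Nat.card_zpowers, hx11, Subgroup.orderOf_coe, Subgroup.orderOf_coe, hw])
        obtain ⟨i, hi⟩ := Subgroup.mem_zpowers_iff.1 (hne.ge (Subgroup.mem_zpowers x))
        intro g hg
        rw [hX, mem_cent, ← hi]
        exact ((show Commute g _ from (hwx g hg).symm).zpow_right i).eq
      have := Subgroup.card_dvd_of_le hxall
      rw [hSc] at this
      exact dvd_trans (by norm_num) this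
    · set W := Subgroup.zpowers ((w : ↥(S : Subgroup G)) : G)
      have hWS : W ≤ (S : Subgroup G) := Subgroup.zpowers_le.2 (w : ↥(S : Subgroup G)).2
      have hWX : W ≤ X := Subgroup.zpowers_le.2 (mem_cent.2 (hwx x hxS))
      have hsup : W ⊔ Subgroup.zpowers x ≤ (S : Subgroup G) ⊓ X :=
        sup_le (le_inf hWS hWX) (Subgroup.zpowers_le.2 ⟨hxS, hxX⟩)
      obtain ⟨j, hj, hjc⟩ := (Nat.dvd_prime_pow (show Nat.Prime 11 by norm_num)).1
        (hSc ▸ Subgroup.card_dvd_of_le (hsup.trans inf_le_left))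
      have h2 : 2 ≤ j := by
        by_contra hlt
        have heq : Subgroup.zpowers x = W ⊔ Subgroup.zpowers x :=
          Subgroup.eq_of_le_of_card_ge le_sup_right (by
            rw [hjc, Nat.card_zpowers, hx11]
            interval_cases j <;> norm_num)
        exact hwX (heq.ge (Subgroup.mem_sup_left (Subgroup.mem_zpowers _)))
      have := Subgroup.card_dvd_of_le (hsup.trans inf_le_right)
      rw [hjc] at this
      exact dvd_trans (pow_dvd_pow 11 h2) this
  rw [hcard, hkO] at h121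
  have hk2 : 2 ≤ k := by
    by_contra hlt
    interval_cases k <;> norm_num at h121
  by_contra hk3
  have hk2' : k = 2 := by omega
  subst hk2'
  -- a quotient of order eleven
  let xO : ↥O := ⟨x, hxO⟩
  haveI : (Subgroup.zpowers xO).Normal := ⟨fun a ha g => by
    obtain ⟨i, rfl⟩ := Subgroup.mem_zpowers_iff.1 ha
    rw [(Commute.zpow_right (show Commute g xO from Subtype.ext (mem_cent.1 (hOX g.2))) i).eq,
      mul_inv_cancel_right]
    exact Subgroup.zpow_mem_zpowers xO i⟩
  have hidx : (Subgroup.zpowers xO).index = 11 := by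
    have h := (Subgroup.zpowers xO).card_mul_index
    rw [Nat.card_zpowers, Subgroup.orderOf_mk, hx11, hkO] at h
    omega
  haveI : IsCyclic (↥O ⧸ Subgroup.zpowers xO) :=
    isCyclic_of_prime_card (p := 11) (by rw [← Subgroup.index_eq_card, hidx])
  -- conjugation by elements of `Q` on the quotient
  have hzx : ∀ q, ∀ hq : q ∈ Q, ∀ g : ↥O, g ∈ Subgroup.zpowers xO → (⟨q * g * q⁻¹, hOn q hq.2 g g.2⟩ : ↥O) ∈
      Subgroup.zpowers xO := by
    intro q hq g hg
    obtain ⟨i, rfl⟩ := Subgroup.mem_zpowers_iff.1 hg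
    refine Subgroup.mem_zpowers_iff.2 ⟨i, Subtype.ext ?_⟩
    simp only [Subgroup.coe_zpow, xO]
    rw [((show Commute q x from mem_cent.1 hq.2).zpow_right i).eq, mul_inv_cancel_right]
  let φ : ∀ q : G, q ∈ Q → (↥O ⧸ Subgroup.zpowers xO) →* (↥O ⧸ Subgroup.zpowers xO) := fun q hq =>
    QuotientGroup.map _ _
      { toFun := fun g => ⟨q * g * q⁻¹, hOn q hq.2 g g.2⟩
        map_one' := Subtype.ext (by simp)
        map_mul' := fun g h => Subtype.ext (by simp [mul_assoc]) }
      (fun g hg => hzx q hq g hg)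
  obtain ⟨g, hg⟩ : ∃ g : ↥O, g ∉ Subgroup.zpowers xO := by
    by_contra hall
    push Not at hall
    rw [show Subgroup.zpowers xO = ⊤ from eq_top_iff.2 fun g _ => hall g, Subgroup.index_top] at hidx
    omega
  obtain ⟨i, hi⟩ := MonoidHom.map_cyclic (φ a haQ)
  obtain ⟨j, hj⟩ := MonoidHom.map_cyclic (φ b hbQ)
  have hcomm : (φ a haQ) ((φ b hbQ) g) = (φ b hbQ) ((φ a haQ) g) := by
    rw [hi, hi, hj, hj, ← zpow_mul, ← zpow_mul, mul_comm]
  change (QuotientGroup.mk ⟨a * (b * (g : G) * b⁻¹) * a⁻¹, hOn a haQ.2 _ (hOn b hbQ.2 g g.2)⟩ : ↥O ⧸ Subgroup.zpowers xO) =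
    QuotientGroup.mk ⟨b * (a * (g : G) * a⁻¹) * b⁻¹, hOn b hbQ.2 _ (hOn a haQ.2 g g.2)⟩ at hcomm
  rw [QuotientGroup.eq] at hcomm
  obtain ⟨l, hl⟩ := Subgroup.mem_zpowers_iff.1 hcomm
  have hl' : x ^ l = (a * (b * (g : G) * b⁻¹) * a⁻¹)⁻¹ * (b * (a * g * a⁻¹) * b⁻¹) := by
    simpa [xO] using congrArg Subtype.val hl
  have hba : b * a ∈ X := mul_mem hbQ.2 haQ.2
  have hl2 : (z * (g : G) * z⁻¹)⁻¹ * g = x ^ l := by
    have e1 : a * (b * (g : G) * b⁻¹) * a⁻¹ = (b * a) * (z * g * z⁻¹) * (b * a)⁻¹ := by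
      have hz' : (b * a) * z = a * b := by
        rw [mem_cent.1 (mul_mem (L.E_le hbQ.1) (L.E_le haQ.1)), ← hzab]; group
      rw [show (b * a) * (z * (g : G) * z⁻¹) * (b * a)⁻¹ = (b * a * z) * g * (b * a * z)⁻¹ by group, hz']
      group
    rw [e1, show b * (a * (g : G) * a⁻¹) * b⁻¹ = (b * a) * g * (b * a)⁻¹ by group,
      show ((b * a) * (z * (g : G) * z⁻¹) * (b * a)⁻¹)⁻¹ * ((b * a) * g * (b * a)⁻¹) =
        (b * a) * ((z * (g : G) * z⁻¹)⁻¹ * g) * (b * a)⁻¹ by group] at hl'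
    calc _ = (b * a)⁻¹ * x ^ l * (b * a) := by rw [hl']; group
      _ = x ^ l := by
        rw [mul_assoc, ← ((show Commute (b * a) x from mem_cent.1 hba).zpow_right l).eq]; group
  have hg2 : (g : G) * g ∈ Subgroup.zpowers x := by
    have h1 := hinv g g.2
    rw [show z * (g : G) * z⁻¹ = (g : G) * (x ^ l)⁻¹ by rw [← hl2]; group, ← mul_assoc] at h1
    exact (Subgroup.mul_mem_cancel_right _ (Subgroup.inv_mem _ (Subgroup.zpow_mem_zpowers x l))).1 h1
  refine hg ?_
  obtain ⟨m, hm⟩ := hord g g.2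
  have hgg : (g : G) = ((g : G) * g) ^ (m + 1) := by
    rw [← pow_two, ← pow_mul, show 2 * (m + 1) = 2 * m + 1 + 1 by ring, ← hm, pow_succ, pow_orderOf_eq_one,
      one_mul]
  obtain ⟨n, hn⟩ := Subgroup.mem_zpowers_iff.1 (Subgroup.pow_mem _ hg2 (m + 1))
  exact Subgroup.mem_zpowers_iff.2 ⟨n, Subtype.ext (by simp only [xO, Subgroup.coe_zpow]; rw [hn, ← hgg])⟩

end Loc

end CfsgLib.JFourPrime
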