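import Cfsg.Agent.Lib.JFourPrime.NoEleven

/-!
# The action on the inverted elements and centralizers of elements of order eleven
-/

set_option autoImplicit false
set_option maxRecDepth 100000
set_option linter.style.haveILetI false
set_option linter.unusedSectionVars false

open Cfsg

namespace CfsgLib.JFourPrime

variable {G : Type*} [Group G] [Finite G] {z π t : G} {E : Subgroup G}

/-- An element of order eleven in `O` is moved to the power of a conjugate. -/
theorem conj_zpowers_mem {a x : G} (h : a * x * a⁻¹ ∈ Subgroup.zpowers x) :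
    ∀ v ∈ Subgroup.zpowers x, a * v * a⁻¹ ∈ Subgroup.zpowers x := by
  intro v hv
  obtain ⟨i, rfl⟩ := Subgroup.mem_zpowers_iff.1 hv
  rw [← MulAut.conj_apply, map_zpow, MulAut.conj_apply]
  exact Subgroup.zpow_mem _ h i

namespace Base

variable {x : G} {O : Subgroup G} (B : Base z π t E x O)
include B

theorem xne : x ≠ 1 := fun h => by
  have := B.ox
  rw [h, orderOf_one] at this
  omega

theorem one_inverted : (1 : G) ∈ B.inverted := ⟨O.one_mem, by rw [inv_one, mul_one, mul_inv_cancel]⟩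

theorem inverted_not_mem {f : G} (hf : f ∈ B.inverted) (hf1 : f ≠ 1) : f ∉ Subgroup.zpowers x := fun h =>
  hf1 (B.inverted_unique (f := 1) B.one_inverted h (by rwa [one_mul]))

/-- The inverted elements have order eleven. -/
theorem inverted_order {f : G} (hf : f ∈ B.inverted) (hf1 : f ≠ 1) : orderOf f = 11 := by
  obtain ⟨i, hi, hfi⟩ := B.inverted_invol hf hf1
  have hd : orderOf f ∣ 11 ^ 3 := orderOf_dvd_of_pow_eq_one (by
    rw [show (11 : ℕ) ^ 3 = 1331 by norm_num]; exact (B.mem_O_iff (B.core.le hf.1)).1 hf.1)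
  obtain ⟨k, -, hk⟩ := (Nat.dvd_prime_pow (show Nat.Prime 11 by norm_num)).1 hd
  have hfc : f ∈ cent i := mem_cent.2 hfi
  have hdvd := Subgroup.orderOf_dvd_natCard _ hfc
  have hk2 : k < 2 := by
    by_contra hlt
    have h121 : 11 ^ 2 ∣ Nat.card ↥(cent i) := (pow_dvd_pow 11 (by omega)).trans (hk ▸ hdvd)
    rcases B.loc.invol i hi with h | h
    · rw [← card_cent_of_isConj h, B.loc.cz] at h121; norm_num at h121
    · rw [← card_cent_of_isConj h, B.loc.ct] at h121; norm_num at h121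
  interval_cases k
  · exact absurd (orderOf_eq_one_iff.1 hk) hf1
  · exact hk

/-- An element of order three normalizing `⟨x⟩` centralizes `x`. -/
theorem three_fix {s : G} (hs : orderOf s = 3) (hsN : s * x * s⁻¹ ∈ Subgroup.zpowers x) : x * s = s * x := by
  obtain ⟨k, hk⟩ := Subgroup.mem_zpowers_iff.1 hsN
  replace hk := hk.symm
  have h3 : s ^ 3 = 1 := by rw [← hs, pow_orderOf_eq_one]
  have hs1 : ∀ m : ℤ, s * x ^ m * s⁻¹ = x ^ (k * m) := fun m => by
    rw [← MulAut.conj_apply, map_zpow, MulAut.conj_apply, hk, ← zpow_mul]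
  have hk3 : x = x ^ (k * k * k) := by
    calc x = s ^ 3 * x * (s ^ 3)⁻¹ := by rw [h3, one_mul, inv_one, mul_one]
      _ = s * (s * (s * x * s⁻¹) * s⁻¹) * s⁻¹ := by simp only [pow_succ, pow_zero, one_mul]; group
      _ = _ := by rw [hk, hs1, hs1, mul_assoc]
  have hmod : (k * k * k) % 11 = 1 := by
    have h4 : x ^ (k * k * k - 1) = 1 := by rw [zpow_sub, zpow_one, ← hk3, mul_inv_cancel]
    have h5 := orderOf_dvd_iff_zpow_eq_one.2 h4
    rw [B.ox] at h5
    omega
  have hk1 : k % 11 = 1 := by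
    have := Int.emod_nonneg k (show (11 : ℤ) ≠ 0 by norm_num)
    have := Int.emod_lt_of_pos k (show (0 : ℤ) < 11 by norm_num)
    rw [Int.mul_emod, Int.mul_emod k k] at hmod
    interval_cases hh : k % 11
    all_goals first | rfl | omega
  have hxk : x ^ k = x := by
    rw [zpow_eq_zpow_emod' (n := 11) k (by rw [← B.ox, pow_orderOf_eq_one])]
    simp [hk1]
  rw [hxk, mul_inv_eq_iff_eq_mul] at hk
  exact hk.symm

/-- Only the powers of `x` commute with `z`, `x` and an inverted element. -/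
theorem fix_x_f {f a : G} (hf : f ∈ B.inverted) (hf1 : f ≠ 1) (ha : a ∈ cent x) (haz : a ∈ cent z)
    (haf : a ∈ cent f) : a ∈ Subgroup.zpowers x := by
  classical
  set K := cent z ⊓ cent x ⊓ cent f with hK
  have hxK : x ∈ K := ⟨⟨B.x_mem, mem_cent.2 rfl⟩, mem_cent.2 (mem_cent.1 (B.core.le hf.1)).symm⟩
  have h264 : Nat.card K ∣ 2 ^ 3 * 3 * 11 := by
    have h := Subgroup.card_dvd_of_le (H := K) (K := cent z ⊓ cent x) inf_le_left
    rw [B.loc.card_zx B.xpi B.ox] at h
    exact h.trans (by norm_num)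
  have h2 : ¬ 2 ∣ Nat.card K := fun h => by
    haveI := Fact.mk Nat.prime_two
    obtain ⟨i, hi⟩ := exists_prime_orderOf_dvd_card' (G := ↥K) 2 h
    rw [← Subgroup.orderOf_coe] at hi
    have hii : (i : G) * i = 1 := by rw [← pow_two, ← hi, pow_orderOf_eq_one]
    have hQ := B.loc.two_mem_Q B.xpi B.ox i.2.1.1 i.2.1.2 ⟨1, by rw [pow_one, pow_two, hii]⟩
    rcases B.loc.invol_Q B.xpi B.ox hQ hii with e | e
    · rw [e, orderOf_one] at hi; omega
    · have hzf : z * f = f * z := e ▸ mem_cent.1 i.2.2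
      have h := hf.2
      rw [hzf, mul_inv_cancel_right] at h
      exact hf1 (B.not_two f hf.1 (by nth_rw 2 [h]; exact mul_inv_cancel f))
  have h3 : ¬ 3 ∣ Nat.card K := fun h => by
    obtain ⟨s, hs⟩ := exists_prime_orderOf_dvd_card' (G := ↥K) 3 (hp := ⟨Nat.prime_three⟩) h
    rw [← Subgroup.orderOf_coe] at hs
    have hle : Subgroup.zpowers f ⊔ Subgroup.zpowers x ≤ cent (s : G) ⊓ cent x :=
      sup_le (Subgroup.zpowers_le.2 ⟨mem_cent.2 (mem_cent.1 s.2.2).symm, B.core.le hf.1⟩)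
        (Subgroup.zpowers_le.2 ⟨mem_cent.2 (mem_cent.1 s.2.1.2).symm, mem_cent.2 rfl⟩)
    have hdvd := (Subgroup.card_dvd_of_le hle).trans (B.loc.card_pair_dvd hs B.ox (mem_cent.1 s.2.1.2).symm)
    have hO : Nat.card ↥(Subgroup.zpowers f ⊔ Subgroup.zpowers x) ∣ 11 ^ 3 := by
      refine (Subgroup.card_dvd_of_le (sup_le (Subgroup.zpowers_le.2 hf.1) (Subgroup.zpowers_le.2 B.core.mem))).trans ?_
      rw [B.core.card]; norm_num
    have heq : Subgroup.zpowers x = Subgroup.zpowers f ⊔ Subgroup.zpowers x :=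
      Subgroup.eq_of_le_of_card_ge le_sup_right (by
        rw [Nat.card_zpowers, B.ox]
        exact Nat.le_of_dvd (by norm_num) ((Nat.dvd_gcd hdvd hO).trans (dvd_of_eq (by norm_num))))
    exact B.inverted_not_mem hf hf1 (heq.ge (Subgroup.mem_sup_left (Subgroup.mem_zpowers f)))
  have h11 : Nat.card K ∣ 11 := by
    refine (Nat.Coprime.dvd_of_dvd_mul_left ?_ h264)
    exact ((Nat.coprime_comm.1 (Nat.prime_two.coprime_iff_not_dvd.2 h2)).pow_right 3).mul_right
      (Nat.coprime_comm.1 (Nat.prime_three.coprime_iff_not_dvd.2 h3))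
  have heq : Subgroup.zpowers x = K := Subgroup.eq_of_le_of_card_ge (Subgroup.zpowers_le.2 hxK)
    (by rw [Nat.card_zpowers, B.ox]; exact Nat.le_of_dvd (by norm_num) h11)
  exact heq.ge ⟨⟨haz, ha⟩, haf⟩

theorem act_inverted {a f : G} (ha : a ∈ B.Act) (hf : f ∈ B.inverted) : a * f * a⁻¹ ∈ B.inverted := by
  refine ⟨B.act_O ha hf.1, ?_⟩
  have haz : Commute a z := mem_cent.1 ha.2
  calc z * (a * f * a⁻¹) * z⁻¹ = (z * a) * f * (z * a)⁻¹ := by group
    _ = a * (z * f * z⁻¹) * a⁻¹ := by rw [← haz.eq]; group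
    _ = _ := by rw [hf.2]; group

/-- The stabilizer of an inverted element in `Act`. -/
theorem card_stab {f : G} (hf : f ∈ B.inverted) (hf1 : f ≠ 1) : Nat.card ↥(B.Act ⊓ cent f) = 22 := by
  classical
  set S := B.Act ⊓ cent f with hS
  have hxS : x ∈ S := ⟨⟨Subgroup.le_normalizer (Subgroup.mem_zpowers x), B.x_mem⟩,
    mem_cent.2 (mem_cent.1 (B.core.le hf.1)).symm⟩
  have hfix : S ⊓ cent x = Subgroup.zpowers x := le_antisymm
    (fun a ha => B.fix_x_f hf hf1 ha.2 ha.1.1.2 ha.1.2) (Subgroup.zpowers_le.2 ⟨hxS, mem_cent.2 rfl⟩)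
  have horb := CfsgLib.JFour.card_orbit_mul S x
  rw [show S ⊓ Subgroup.centralizer ({x} : Set G) = _ from hfix, Nat.card_zpowers, B.ox] at horb
  set o := Set.ncard {v : G | ∃ h ∈ S, h * x * h⁻¹ = v}
  have ho : o ≤ 10 := by
    have hsub : {v : G | ∃ h ∈ S, h * x * h⁻¹ = v} ⊆ (Subgroup.zpowers x : Set G) \ {1} := by
      rintro _ ⟨h, hh, rfl⟩
      refine ⟨(Subgroup.mem_normalizer_iff.1 hh.1.1 x).1 (Subgroup.mem_zpowers x), fun e => B.xne ?_⟩
      rw [Set.mem_singleton_iff, mul_inv_eq_one, mul_eq_left] at e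
      exact e
    refine (Set.ncard_le_ncard hsub (Set.toFinite _)).trans (le_of_eq ?_)
    rw [Set.ncard_sdiff (Set.singleton_subset_iff.2 (one_mem (Subgroup.zpowers x))) (Set.toFinite _),
      Set.ncard_singleton, ← Nat.card_coe_set_eq]
    show Nat.card ↥(Subgroup.zpowers x) - 1 = 10
    rw [Nat.card_zpowers, B.ox]
  have h3 : ¬ 3 ∣ Nat.card S := fun h => by
    obtain ⟨s, hs⟩ := exists_prime_orderOf_dvd_card' (G := ↥S) 3 (hp := ⟨Nat.prime_three⟩) h
    rw [← Subgroup.orderOf_coe] at hs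
    have hsx := B.three_fix hs ((Subgroup.mem_normalizer_iff.1 s.2.1.1 x).1 (Subgroup.mem_zpowers x))
    have h' : (s : G) ∈ Subgroup.zpowers x := hfix.le ⟨s.2, mem_cent.2 hsx.symm⟩
    have := Subgroup.orderOf_dvd_natCard _ h'
    rw [Nat.card_zpowers, B.ox, hs] at this
    norm_num at this
  have h5 : ¬ 5 ∣ Nat.card S := fun h => by
    obtain ⟨s, hs⟩ := exists_prime_orderOf_dvd_card' (G := ↥S) 5 (hp := ⟨by norm_num⟩) h
    rw [← Subgroup.orderOf_coe] at hs
    have h5 := Subgroup.orderOf_dvd_natCard (cent (s : G)) (x := f) (mem_cent.2 (mem_cent.1 s.2.2).symm)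
    rw [B.loc.five _ hs, B.inverted_order hf hf1] at h5
    norm_num at h5
  have hSd : Nat.card S ∣ 2640 := B.card_act ▸ Subgroup.card_dvd_of_le inf_le_left
  have hobt := CfsgLib.JFour.card_orbit_mul B.Act f
  rw [B.card_act] at hobt
  change _ * Nat.card S = _ at hobt
  have hsub : {v : G | ∃ h ∈ B.Act, h * f * h⁻¹ = v} ⊆ B.inverted \ {1} := by
    rintro _ ⟨h, hh, rfl⟩
    refine ⟨B.act_inverted hh hf, fun e => hf1 ?_⟩
    rw [Set.mem_singleton_iff, mul_inv_eq_one, mul_eq_left] at e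
    exact e
  have ho2 : Set.ncard {v : G | ∃ h ∈ B.Act, h * f * h⁻¹ = v} ≤ 120 := by
    refine (Set.ncard_le_ncard hsub (Set.toFinite _)).trans ?_
    rw [Set.ncard_sdiff (Set.singleton_subset_iff.2 B.one_inverted) (Set.toFinite _), Set.ncard_singleton]
    have := B.ncard_inverted
    omega
  have h22 : 22 ≤ Nat.card S := by
    by_contra h
    push Not at h
    have := Nat.mul_le_mul ho2 (Nat.lt_succ_iff.1 h)
    omega
  have ho10 : o ∣ 10 := by
    let f0 : ↥S →* MulAut ↥(Subgroup.zpowers x) :=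
      (Subgroup.normalizerMonoidHom (Subgroup.zpowers x)).comp (Subgroup.inclusion fun a ha => ha.1.1)
    have hker : f0.ker = (cent x).subgroupOf S := by
      rw [← MonoidHom.comap_ker, Subgroup.normalizerMonoidHom_ker]
      ext a
      simp [Subgroup.mem_subgroupOf, Subgroup.zpowers_eq_closure, Subgroup.centralizer_closure]
    have hN := f0.ker.card_mul_index
    rw [Subgroup.index_ker, hker, ← Subgroup.inf_subgroupOf_right,
      Nat.card_congr (Subgroup.subgroupOfEquivOfLe inf_le_right).toEquiv, inf_comm, hfix, Nat.card_zpowers, B.ox,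
      ← horb] at hN
    have hd := f0.range.card_subgroup_dvd_card
    rw [IsCyclic.card_mulAut, Nat.card_zpowers, B.ox, Nat.totient_prime (by norm_num)] at hd
    rwa [show Nat.card ↥f0.range = o by omega] at hd
  interval_cases o <;> rw [← horb] at h22 h3 h5 hSd hobt ⊢ <;> omega

/-- The inverted elements other than `1` form one orbit. -/
theorem inverted_orbit {f : G} (hf : f ∈ B.inverted) (hf1 : f ≠ 1) :
    {v : G | ∃ h ∈ B.Act, h * f * h⁻¹ = v} = B.inverted \ {1} ∧ B.inverted.ncard = 121 := by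
  have hsub : {v : G | ∃ h ∈ B.Act, h * f * h⁻¹ = v} ⊆ B.inverted \ {1} := by
    rintro _ ⟨h, hh, rfl⟩
    refine ⟨B.act_inverted hh hf, fun e => hf1 ?_⟩
    rw [Set.mem_singleton_iff, mul_inv_eq_one, mul_eq_left] at e
    exact e
  have horb := CfsgLib.JFour.card_orbit_mul B.Act f
  rw [B.card_act, show Nat.card ↥(B.Act ⊓ Subgroup.centralizer ({f} : Set G)) = 22 from B.card_stab hf hf1] at horb
  have h1 := Set.ncard_le_ncard hsub (Set.toFinite _)
  have h2 : (B.inverted \ {1}).ncard = B.inverted.ncard - 1 := by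
    rw [Set.ncard_sdiff (Set.singleton_subset_iff.2 B.one_inverted) (Set.toFinite _), Set.ncard_singleton]
  have h3 := B.ncard_inverted
  exact ⟨Set.eq_of_subset_of_ncard_le hsub (by omega) (Set.toFinite _), by omega⟩

/-- An element of order eleven commuting with a conjugate of `z` is conjugate into `⟨x⟩`. -/
theorem conj_x_of_z {v i : G} (hv : orderOf v = 11) (hi : IsConj i z) (hvi : v * i = i * v) :
    ∃ c : G, c * v * c⁻¹ ∈ Subgroup.zpowers x := by
  obtain ⟨c, hc'⟩ := isConj_iff.1 hi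
  have hv' : c * v * c⁻¹ ∈ cent z := mem_cent.2 (by
    rw [← hc']
    calc c * v * c⁻¹ * (c * i * c⁻¹) = c * (v * i) * c⁻¹ := by group
      _ = _ := by rw [hvi]; group)
  obtain ⟨d, hd⟩ := exists_conj_mem (G := ↥(cent z)) (p := 11) (by norm_num) (by rw [B.loc.cz]; norm_num)
    (H := Subgroup.zpowers (⟨x, B.x_mem⟩ : ↥(cent z))) (by rw [Nat.card_zpowers, Subgroup.orderOf_mk, B.ox])
    (x := ⟨_, hv'⟩) (by rw [Subgroup.orderOf_mk]; exact ((MulAut.conj c).orderOf_eq v).trans hv)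
  obtain ⟨j, hj⟩ := Subgroup.mem_zpowers_iff.1 hd
  refine ⟨(d : G) * c, Subgroup.mem_zpowers_iff.2 ⟨j, ?_⟩⟩
  rw [show ((d : G) * c) * v * ((d : G) * c)⁻¹ = d * (c * v * c⁻¹) * (d : G)⁻¹ by group]
  simpa using congrArg Subtype.val hj

/-- Two elements of order eleven commuting with involutions of the second class: one is conjugate to a
power of the other. -/
theorem conj_of_t {v w i j : G} (hv : orderOf v = 11) (hw : orderOf w = 11) (hi : IsConj i t) (hj : IsConj j t)
    (hvi : v * i = i * v) (hwj : w * j = j * w) : ∃ c : G, c * v * c⁻¹ ∈ Subgroup.zpowers w := by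
  obtain ⟨a, ha⟩ := isConj_iff.1 hi
  obtain ⟨b, hb⟩ := isConj_iff.1 hj
  have hcm : ∀ {a u k : G}, a * k * a⁻¹ = t → u * k = k * u → a * u * a⁻¹ ∈ cent t := fun {a u k} h hk => mem_cent.2 (by
    rw [← h]
    calc a * u * a⁻¹ * (a * k * a⁻¹) = a * (u * k) * a⁻¹ := by group
      _ = _ := by rw [hk]; group)
  obtain ⟨d, hd⟩ := exists_conj_mem (G := ↥(cent t)) (p := 11) (by norm_num) (by rw [B.loc.ct]; norm_num)
    (H := Subgroup.zpowers (⟨_, hcm hb hwj⟩ : ↥(cent t)))
    (by rw [Nat.card_zpowers, Subgroup.orderOf_mk]; exact (((MulAut.conj b).orderOf_eq w).trans hw).symm.dvd)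
    (x := ⟨_, hcm ha hvi⟩) (by rw [Subgroup.orderOf_mk]; exact ((MulAut.conj a).orderOf_eq v).trans hv)
  obtain ⟨k, hk⟩ := Subgroup.mem_zpowers_iff.1 hd
  refine ⟨b⁻¹ * d * a, Subgroup.mem_zpowers_iff.2 ⟨k, ?_⟩⟩
  have hk' : (b * w * b⁻¹) ^ k = (d : G) * (a * v * a⁻¹) * (d : G)⁻¹ := by simpa using congrArg Subtype.val hk
  rw [← MulAut.conj_apply, ← map_zpow, MulAut.conj_apply] at hk'
  calc w ^ k = b⁻¹ * (b * w ^ k * b⁻¹) * b := by group
    _ = _ := by rw [hk']; group

/-- The centralizer of an element of order eleven which is not conjugate into `⟨x⟩`. -/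
theorem card_cent_dvd {v : G} (hv : orderOf v = 11) (hnx : ∀ c : G, c * v * c⁻¹ ∉ Subgroup.zpowers x) :
    Nat.card ↥(cent v) ∣ 2 * 11 ^ 3 ∧ (2 ∣ Nat.card ↥(cent v) → ∃ i, IsConj i t ∧ v * i = i * v) := by
  classical
  have L := B.loc
  set C := cent v with hC
  have hz : ∀ i, orderOf i = 2 → v * i = i * v → IsConj i t := fun i hi hvi =>
    (L.invol i hi).resolve_left fun h => by
      obtain ⟨c, hc⟩ := B.conj_x_of_z hv h hvi
      exact hnx c hc
  have hinv2 : 2 ∣ Nat.card C → ∃ i, IsConj i t ∧ v * i = i * v := fun h => by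
    obtain ⟨i, hi⟩ := exists_prime_orderOf_dvd_card' (G := ↥C) 2 (hp := ⟨Nat.prime_two⟩) h
    rw [← Subgroup.orderOf_coe] at hi
    exact ⟨i, hz i hi (mem_cent.1 i.2).symm, (mem_cent.1 i.2).symm⟩
  have h3 : ¬ 3 ∣ Nat.card C := fun h => by
    obtain ⟨s, hs⟩ := exists_prime_orderOf_dvd_card' (G := ↥C) 3 (hp := ⟨Nat.prime_three⟩) h
    rw [← Subgroup.orderOf_coe] at hs
    obtain ⟨c, hc⟩ := isConj_iff.1 (L.three _ hs)
    have hvc : c⁻¹ * v * c ∈ cent z := L.cpi (mem_cent.2 (by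
      have h1 : v * (s : G) = s * v := (mem_cent.1 s.2).symm
      rw [← hc] at h1
      calc c⁻¹ * v * c * π = c⁻¹ * (v * (c * π * c⁻¹)) * c := by group
        _ = _ := by rw [h1]; group))
    have hci : v * (c * z * c⁻¹) = (c * z * c⁻¹) * v := by
      calc v * (c * z * c⁻¹) = c * ((c⁻¹ * v * c) * z) * c⁻¹ := by group
        _ = _ := by rw [mem_cent.1 hvc]; group
    obtain ⟨d, hd⟩ := B.conj_x_of_z hv (isConj_iff.2 ⟨c⁻¹, by group⟩) hci
    exact hnx d hd
  have h57 : ∀ p ∈ [5, 7, 23, 29, 31, 37, 43], ¬ p ∣ Nat.card C := fun p hp h => by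
    have hpp : p.Prime := by fin_cases hp <;> norm_num
    obtain ⟨y, hy⟩ := exists_prime_orderOf_dvd_card' (G := ↥C) p (hp := ⟨hpp⟩) h
    rw [← Subgroup.orderOf_coe] at hy
    have hd := Subgroup.orderOf_dvd_natCard (cent (y : G)) (x := v) (mem_cent.2 (mem_cent.1 y.2).symm)
    rw [hv] at hd
    by_cases hb : p ∈ big
    · exact B.no_eleven hb hy hv y.2
    simp only [big, List.mem_cons, List.not_mem_nil, or_false] at hp hb
    rcases hp with rfl | rfl | rfl | rfl | rfl | rfl | rfl <;> simp at hb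
    · rw [L.five _ hy] at hd; norm_num at hd
    · rw [L.seven _ hy] at hd; norm_num at hd
  -- the two part
  have h4 : ¬ 2 ^ 2 ∣ Nat.card C := fun h => by
    haveI := Fact.mk Nat.prime_two
    obtain ⟨T, hT⟩ := Sylow.exists_subgroup_card_pow_prime (G := ↥C) 2 (n := 2) h
    have hTp : IsPGroup 2 ↥T := IsPGroup.of_card hT
    haveI : Nontrivial ↥T := Finite.one_lt_card_iff_nontrivial.1 (by rw [hT]; norm_num)
    haveI := hTp.center_nontrivial
    obtain ⟨i, hi⟩ := exists_prime_orderOf_dvd_card' (G := ↥(Subgroup.center ↥T)) 2 (by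
      obtain ⟨j, hj⟩ := IsPGroup.iff_card.1 (hTp.to_subgroup (Subgroup.center ↥T))
      have : 1 < Nat.card (Subgroup.center ↥T) := Finite.one_lt_card
      rw [hj] at this ⊢
      exact dvd_pow_self 2 (by rintro rfl; simp at this))
    set i' : G := (((i : ↥T) : ↥C) : G)
    have hio : orderOf i' = 2 := by
      rw [Subgroup.orderOf_coe, Subgroup.orderOf_coe, Subgroup.orderOf_coe, hi]
    have hiv : v * i' = i' * v := (mem_cent.1 ((i : ↥T) : ↥C).2).symm
    obtain ⟨c, hc⟩ := isConj_iff.1 (hz i' hio hiv)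
    have hle : ((T.map C.subtype).map (MulAut.conj c).toMonoidHom) ≤ cent t ⊓ cent (c * v * c⁻¹) := by
      rintro _ ⟨_, ⟨g, hg, rfl⟩, rfl⟩
      refine ⟨?_, by rw [cent_conj]; exact ⟨_, g.2, rfl⟩⟩
      rw [← hc, SetLike.mem_coe, cent_conj]
      exact ⟨_, mem_cent.2 (congrArg (fun u : ↥T => (((u : ↥C)) : G)) (Subgroup.mem_center_iff.1 i.2 ⟨g, hg⟩)), rfl⟩
    have hvt : c * v * c⁻¹ ∈ cent t := by
      rw [← hc, cent_conj]
      exact ⟨v, mem_cent.2 hiv, rfl⟩
    have hd := Subgroup.card_dvd_of_le hle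
    rw [Subgroup.card_map_of_injective (MulAut.conj c).injective, Subgroup.card_map_of_injective C.subtype_injective,
      hT, L.card_tv hvt (((MulAut.conj c).orderOf_eq v).trans hv)] at hd
    norm_num at hd
  refine ⟨?_, hinv2⟩
  obtain ⟨a, ha, hac⟩ : ∃ a ≤ 1, Nat.card C ∣ 2 ^ a * 11 ^ 3 := by
    have hg : Nat.card C ∣ 2 ^ 21 * 11 ^ 3 := by
      have h := C.card_subgroup_dvd_card
      rw [L.card, show (86775571046077562880 : ℕ) =
        (3 ^ 3 * (5 * (7 * (23 * (29 * (31 * (37 * 43))))))) * (2 ^ 21 * 11 ^ 3) by norm_num] at h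
      refine Nat.Coprime.dvd_of_dvd_mul_left ?_ h
      have hc : ∀ p, p.Prime → ¬ p ∣ Nat.card C → Nat.Coprime (Nat.card C) p := fun p hp h =>
        Nat.coprime_comm.1 (hp.coprime_iff_not_dvd.2 h)
      have hc' : ∀ p ∈ [5, 7, 23, 29, 31, 37, 43], Nat.Coprime (Nat.card C) p := fun p hp =>
        hc p (by fin_cases hp <;> norm_num) (h57 p hp)
      exact ((hc 3 Nat.prime_three h3).pow_right 3).mul_right ((hc' 5 (by simp)).mul_right ((hc' 7 (by simp)).mul_right
        ((hc' 23 (by simp)).mul_right ((hc' 29 (by simp)).mul_right ((hc' 31 (by simp)).mul_right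
          ((hc' 37 (by simp)).mul_right (hc' 43 (by simp))))))))
    obtain ⟨u, w, hu, hw, huw⟩ := Nat.dvd_mul.1 hg
    obtain ⟨k, -, rfl⟩ := (Nat.dvd_prime_pow Nat.prime_two).1 hu
    refine ⟨k, ?_, huw ▸ Nat.mul_dvd_mul_left _ hw⟩
    by_contra hk
    exact h4 ((pow_dvd_pow 2 (by omega)).trans (huw ▸ Dvd.intro w rfl))
  exact hac.trans (Nat.mul_dvd_mul_right (pow_dvd_pow 2 ha) _)

end Base

end CfsgLib.JFourPrime
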