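import Cfsg.Agent.Lib.JFourPrime.Defs

/-!
# An element of order eleven in the centralizers of `z` and `π`
-/

set_option autoImplicit false
set_option maxRecDepth 100000
set_option linter.style.haveILetI false
set_option linter.unusedSectionVars false

open Cfsg

namespace CfsgLib.JFourPrime

variable {G : Type*} [Group G] [Finite G] {z π t : G} {E : Subgroup G}

namespace Loc

variable (L : Loc z π t E)
include L

theorem zz : z * z = 1 := L.setting.zz

theorem z_ne : z ≠ 1 := L.setting.ne_one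

theorem z_inv : z⁻¹ = z := L.setting.inv_z

theorem E_le : E ≤ cent z := L.setting.le_centralizer_z

theorem conjE {h e : G} (hh : h ∈ cent z) (he : e ∈ E) : h * e * h⁻¹ ∈ E :=
  (Subgroup.mem_normalizer_iff.1 (L.setting.cz hh) e).1 he

theorem pi_mem : π ∈ cent z := mem_cent.2 L.piz

theorem two_pow_of_mem_E {e : G} (he : e ∈ E) : ∃ k, e ^ 2 ^ k = 1 :=
  ⟨13, by rw [← orderOf_dvd_iff_pow_eq_one, ← L.cardE]; exact Subgroup.orderOf_dvd_natCard E he⟩

theorem not_dvd_sq {p : ℕ} (hp : p ∈ [5, 7, 23, 29, 31, 37, 43]) : ¬ p ^ 2 ∣ Nat.card G := by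
  rw [L.card]
  fin_cases hp <;> norm_num

theorem exists_eleven : ∃ x ∈ cent π, orderOf x = 11 := by
  haveI := Fact.mk (show Nat.Prime 11 by norm_num)
  obtain ⟨x, hx⟩ := exists_prime_orderOf_dvd_card' (G := ↥(cent π)) 11 (by rw [L.card_cpi]; norm_num)
  exact ⟨x, x.2, by rw [Subgroup.orderOf_coe, hx]⟩

/-- The centralizer of commuting elements of orders three and eleven. -/
theorem card_pair_dvd {s x : G} (hs : orderOf s = 3) (hx : orderOf x = 11) (hc : x * s = s * x) :
    Nat.card ↥(cent s ⊓ cent x) ∣ 66 := by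
  obtain ⟨c, rfl⟩ := isConj_iff.1 (L.three s hs)
  have e1 : orderOf (c⁻¹ * x * c) = 11 := by
    rw [← hx]; simpa using ((MulAut.conj c⁻¹).orderOf_eq x)
  have e2 : c * (c⁻¹ * x * c) * c⁻¹ = x := by group
  have hm : c⁻¹ * x * c ∈ cent π := by
    rw [mem_cent]
    calc c⁻¹ * x * c * π = c⁻¹ * (x * (c * π * c⁻¹)) * c := by group
      _ = _ := by rw [hc]; group
  have h := L.pi_small _ hm e1
  have h2 : cent (c * π * c⁻¹) ⊓ cent x = (cent π ⊓ cent (c⁻¹ * x * c)).map (MulAut.conj c).toMonoidHom := by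
    rw [Subgroup.map_inf _ _ _ (MulAut.conj c).injective, ← cent_conj, ← cent_conj, e2]
  rw [h2, Subgroup.card_map_of_injective (MulAut.conj c).injective]
  exact h

section
variable {x : G} (hx : x ∈ cent π) (hx11 : orderOf x = 11)
include hx hx11

omit hx11 in
theorem x_mem : x ∈ cent z := L.cpi hx

theorem card_Q : Nat.card ↥(E ⊓ cent x) = 8 := by
  have h := CfsgLib.JFourLocal.card_inf_modEq (U := E) (p := 11) (by norm_num)
    (fun u hu => L.conjE (L.x_mem hx) hu) hx11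
  rw [L.cardE] at h
  obtain ⟨k, hk, hkc⟩ := (Nat.dvd_prime_pow Nat.prime_two).1
    (show Nat.card ↥(E ⊓ cent x) ∣ 2 ^ 13 from L.cardE ▸ Subgroup.card_dvd_of_le inf_le_left)
  rw [hkc] at h ⊢
  have hk13 : k ≠ 13 := by
    rintro rfl
    have heq : E ⊓ cent x = E := Subgroup.eq_of_le_of_card_ge inf_le_left (by rw [hkc, L.cardE])
    have h1 : x ∈ Subgroup.centralizer (E : Set G) := Subgroup.mem_centralizer_iff.2 fun e he =>
      mem_cent.1 (Subgroup.mem_inf.1 (heq.ge he)).2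
    rw [L.setting.cQ] at h1
    rcases L.setting.mem_zpowers h1 with rfl | rfl
    · rw [orderOf_one] at hx11; norm_num at hx11
    · rw [L.oz] at hx11; norm_num at hx11
  interval_cases k <;> simp [Nat.ModEq] at h hk13 ⊢

theorem exists_noncomm : ∃ a ∈ E ⊓ cent x, ∃ b ∈ E ⊓ cent x, a * b ≠ b * a := by
  classical
  by_contra hab
  push Not at hab
  set Q := E ⊓ cent x with hQ
  obtain ⟨c, hc, hc1, hcz⟩ : ∃ c ∈ Q, c ≠ 1 ∧ c ≠ z := by
    by_contra hno
    push Not at hno
    have hle : Q ≤ Subgroup.zpowers z := fun q hq => by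
      by_cases h1 : q = 1
      · rw [h1]; exact one_mem _
      · rw [hno q hq h1]; exact Subgroup.mem_zpowers z
    have := Subgroup.card_le_of_le hle
    rw [L.card_Q hx hx11, Nat.card_zpowers, L.oz] at this
    omega
  set M := E ⊓ cent c with hM
  have hQM : Q ≤ M := fun q hq => ⟨hq.1, mem_cent.2 (hab q hq c hc)⟩
  obtain ⟨u, huE, hu⟩ := L.setting.exists_move hc.1 hc1 hcz
  have huM : u ∉ M := fun h => by
    have h2 := mem_cent.1 h.2
    rw [h2, mul_inv_cancel_right, right_eq_mul] at hu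
    exact L.z_ne hu
  have hidx : (M.subgroupOf E).index = 2 := by
    rw [Subgroup.index_eq_two_iff]
    refine ⟨⟨u, huE⟩, fun b => ?_⟩
    have key : ∀ {e : G}, e ∈ E → (e ∈ M ↔ e * c * e⁻¹ = c) := fun {e} he => by
      rw [hM, Subgroup.mem_inf, mem_cent, mul_inv_eq_iff_eq_mul]
      exact ⟨fun h => h.2, fun h => ⟨he, h⟩⟩
    show Xor' ((b : G) * u ∈ M) ((b : G) ∈ M)
    rw [key (mul_mem b.2 huE), key b.2,
      show (b : G) * u * c * ((b : G) * u)⁻¹ = b * (u * c * u⁻¹) * (b : G)⁻¹ by group, hu]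
    have hbz : (b : G) * z = z * b := L.setting.z_comm b.2
    have e1 : (b : G) * (z * c) * (b : G)⁻¹ = z * ((b : G) * c * (b : G)⁻¹) := by
      rw [← mul_assoc, hbz]; group
    rw [e1]
    rcases L.setting.comm_cases b.2 hc.1 with h | h <;> rw [h]
    · refine Or.inr ⟨rfl, fun h2 => L.z_ne ?_⟩
      rwa [mul_eq_right] at h2
    · refine Or.inl ⟨by rw [← mul_assoc, L.zz, one_mul], fun h2 => L.z_ne ?_⟩
      rwa [mul_eq_right] at h2
  have hMc : Nat.card M = 2 ^ 12 := by
    have h := (M.subgroupOf E).card_mul_index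
    rw [hidx, Nat.card_congr (Subgroup.subgroupOfEquivOfLe (show M ≤ E from inf_le_left)).toEquiv, L.cardE] at h
    omega
  have hxM : ∀ m ∈ M, x * m * x⁻¹ ∈ M := fun m hm => by
    have hxc : x * c = c * x := (mem_cent.1 hc.2).symm
    refine ⟨L.conjE (L.x_mem hx) hm.1, mem_cent.2 ?_⟩
    have hmc : Commute m c := mem_cent.1 hm.2
    exact (((show Commute x c from hxc).mul_left hmc).mul_left (show Commute x c from hxc).inv_left).eq
  have h := CfsgLib.JFourLocal.card_inf_modEq (U := M) (p := 11) (by norm_num) hxM hx11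
  have heq : M ⊓ cent x = Q := le_antisymm (fun m hm => ⟨hm.1.1, hm.2⟩) fun q hq => ⟨hQM hq, hq.2⟩
  rw [hMc, show M ⊓ Subgroup.centralizer ({x} : Set G) = Q from heq, L.card_Q hx hx11] at h
  simp [Nat.ModEq] at h

theorem invol_Q {q : G} (hq : q ∈ E ⊓ cent x) (hq2 : q * q = 1) : q = 1 ∨ q = z := by
  classical
  set Q := E ⊓ cent x with hQ
  by_contra hno
  push Not at hno
  obtain ⟨hq1, hqz⟩ := hno
  have hπx : π * x = x * π := (mem_cent.1 hx).symm
  have hzQ : z ∈ Q := ⟨L.setting.z_mem, mem_cent.2 (mem_cent.1 (L.x_mem hx)).symm⟩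
  have hcj : ∀ {a : G}, a ∈ Q → π * a * π⁻¹ ∈ Q := fun {a} ha =>
    ⟨L.conjE L.pi_mem ha.1, mem_cent.2 (((show Commute π x from hπx).mul_left
      (show Commute a x from mem_cent.1 ha.2)).mul_left (show Commute π x from hπx).inv_left).eq⟩
  have hzc : ∀ {a : G}, a ∈ Q → a * z = z * a := fun {a} ha => L.setting.z_comm ha.1
  set f := MulAut.conj π with hf
  have hfz : f z = z := by rw [hf, MulAut.conj_apply, L.piz, mul_inv_cancel_right]
  have hf3 : ∀ a, f (f (f a)) = a := fun a => by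
    have h3 : π ^ 3 = 1 := by rw [← L.opi, pow_orderOf_eq_one]
    simp only [hf, MulAut.conj_apply]
    rw [show π * (π * (π * a * π⁻¹) * π⁻¹) * π⁻¹ = π ^ 3 * a * (π ^ 3)⁻¹ by
      simp only [pow_succ, pow_zero, one_mul]; group, h3, one_mul, inv_one, mul_one]
  have hfix : ∀ {a : G}, a ∈ Q → f a = a → a = 1 ∨ a = z := fun {a} ha h =>
    L.fpf a ha.1 (by rw [hf, MulAut.conj_apply, mul_inv_eq_iff_eq_mul] at h; exact h.symm)
  have hmove : ∀ {a : G}, a ∈ Q → a ≠ 1 → a ≠ z → f a ≠ a ∧ f a ≠ z * a ∧ f a ≠ 1 ∧ f a ≠ z := by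
    intro a ha h1 h2
    refine ⟨fun h => (hfix ha h).elim h1 h2, fun h => ?_, fun h => h1 (f.injective (h.trans (map_one f).symm)),
      fun h => h2 (f.injective (h.trans hfz.symm))⟩
    have h' : f (f a) = a := by rw [h, map_mul, hfz, h, ← mul_assoc, L.zz, one_mul]
    have h3 := hf3 a
    rw [h'] at h3
    exact (hfix ha h3).elim h1 h2
  have hzz : ∀ a : G, z * (z * a) = a := fun a => by rw [← mul_assoc, L.zz, one_mul]
  set j := f q
  set k := f j
  have hj : j ∈ Q := hcj hq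
  have hk : k ∈ Q := hcj hj
  obtain ⟨a1, a2, a3, a4⟩ := hmove hq hq1 hqz
  obtain ⟨b1, b2, b3, b4⟩ := hmove hj a3 a4
  have hfk : f k = q := hf3 q
  obtain ⟨c1, c2, -, -⟩ := hmove hk b3 b4
  rw [hfk] at c1 c2
  let T : Finset G := {1, z, q, z * q, j, z * j, k, z * k}
  have hT : T.card = 8 := by
    have zq1 : z * q ≠ 1 := fun e => hqz (by have := congrArg (z * ·) e; simpa [hzz] using this)
    have zj1 : z * j ≠ 1 := fun e => a4 (by have := congrArg (z * ·) e; simpa [hzz] using this)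
    have zk1 : z * k ≠ 1 := fun e => b4 (by have := congrArg (z * ·) e; simpa [hzz] using this)
    have zqz : z * q ≠ z := fun e => hq1 (mul_eq_left.1 e)
    have zjz : z * j ≠ z := fun e => a3 (mul_eq_left.1 e)
    have zkz : z * k ≠ z := fun e => b3 (mul_eq_left.1 e)
    have s1 : q ≠ z * q := fun e => L.z_ne (by rwa [right_eq_mul] at e)
    have s2 : j ≠ z * j := fun e => L.z_ne (by rwa [right_eq_mul] at e)
    have s3 : k ≠ z * k := fun e => L.z_ne (by rwa [right_eq_mul] at e)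
    have d1 : z * q ≠ j := fun e => a2 e.symm
    have d2 : z * j ≠ k := fun e => b2 e.symm
    have d3 : q ≠ z * j := fun e => a2 ((hzz j).symm.trans (congrArg (z * ·) e.symm))
    have d4 : j ≠ z * k := fun e => b2 ((hzz k).symm.trans (congrArg (z * ·) e.symm))
    have d5 : z * q ≠ k := fun e => c2 (by rw [← e, hzz])
    have d6 : z * q ≠ z * j := fun e => a1 (mul_left_cancel e).symm
    have d7 : z * q ≠ z * k := fun e => c1 (mul_left_cancel e)
    have d8 : z * j ≠ z * k := fun e => b1 (mul_left_cancel e).symm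
    simp only [T]
    rw [Finset.card_insert_of_notMem, Finset.card_insert_of_notMem, Finset.card_insert_of_notMem,
      Finset.card_insert_of_notMem, Finset.card_insert_of_notMem, Finset.card_insert_of_notMem,
      Finset.card_insert_of_notMem, Finset.card_singleton] <;>
      simp only [Finset.mem_insert, Finset.mem_singleton, not_or]
    all_goals repeat' constructor
    all_goals first
      | assumption | exact Ne.symm ‹_› | exact L.z_ne | exact L.z_ne.symm
      | exact Ne.symm (by assumption)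
  have hsub : ∀ a ∈ T, a ∈ Q ∧ a * a = 1 := by
    have hjj : j * j = 1 := by rw [← map_mul, hq2, map_one]
    have hkk : k * k = 1 := by rw [← map_mul, hjj, map_one]
    have hz2 : ∀ {a : G}, a ∈ Q → a * a = 1 → z * a ∈ Q ∧ z * a * (z * a) = 1 := fun {a} ha h =>
      ⟨Q.mul_mem hzQ ha, by rw [show z * a * (z * a) = z * (a * z) * a by group, hzc ha, hzz, h]⟩
    intro a ha
    simp only [T, Finset.mem_insert, Finset.mem_singleton] at ha
    rcases ha with rfl | rfl | rfl | rfl | rfl | rfl | rfl | rfl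
    exacts [⟨Q.one_mem, one_mul 1⟩, ⟨hzQ, L.zz⟩, ⟨hq, hq2⟩, hz2 hq hq2, ⟨hj, hjj⟩, hz2 hj hjj, ⟨hk, hkk⟩, hz2 hk hkk]
  letI : Fintype ↥Q := Fintype.ofFinite _
  have hall : ∀ a ∈ Q, a * a = 1 := by
    intro a ha
    have hTQ : T = (Q : Set G).toFinset := Finset.eq_of_subset_of_card_le
      (fun b hb => Set.mem_toFinset.2 (hsub b hb).1) (by
        rw [Set.toFinset_card, ← Nat.card_eq_fintype_card, hT]; exact (L.card_Q hx hx11).le)
    exact (hsub a (hTQ ▸ Set.mem_toFinset.2 ha)).2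
  obtain ⟨a, ha, b, hb, hab⟩ := L.exists_noncomm hx hx11
  refine hab ?_
  calc a * b = a * (a * b * (a * b)) * b := by rw [hall _ (Q.mul_mem ha hb), mul_one]
    _ = a * a * (b * a) * (b * b) := by group
    _ = b * a := by rw [hall a ha, hall b hb, one_mul, mul_one]

theorem two_mem_Q {y : G} (hyz : y ∈ cent z) (hyx : y ∈ cent x) (hy : ∃ k, y ^ 2 ^ k = 1) : y ∈ E ⊓ cent x :=
  ⟨L.two_eleven_z x y (L.x_mem hx) hyz hx11 (mem_cent.1 hyx).symm hy, hyx⟩

theorem card_zx : Nat.card ↥(cent z ⊓ cent x) = 264 := by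
  classical
  set K := cent z ⊓ cent x with hK
  have h8 : 8 ∣ Nat.card K := L.card_Q hx hx11 ▸ Subgroup.card_dvd_of_le (inf_le_inf_right _ L.E_le)
  have h3 : 3 ∣ Nat.card K := by
    rw [← L.opi]
    exact Subgroup.orderOf_dvd_natCard K ⟨L.pi_mem, mem_cent.2 (mem_cent.1 hx).symm⟩
  have h11 : 11 ∣ Nat.card K := by
    rw [← hx11]
    exact Subgroup.orderOf_dvd_natCard K ⟨L.x_mem hx, mem_cent.2 rfl⟩
  obtain ⟨m, hm⟩ := Nat.Coprime.mul_dvd_of_dvd_of_dvd (show Nat.Coprime 24 11 by decide)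
    (Nat.Coprime.mul_dvd_of_dvd_of_dvd (show Nat.Coprime 8 3 by decide) h8 h3) h11
  have hmd : m ∣ 2 ^ 18 * 3 ^ 2 * 5 * 7 := by
    have h : 8 * 3 * 11 * m ∣ 8 * 3 * 11 * (2 ^ 18 * 3 ^ 2 * 5 * 7) := by
      rw [← hm, show (8 * 3 * 11 * (2 ^ 18 * 3 ^ 2 * 5 * 7) : ℕ) = 21799895040 by norm_num, ← L.cz]
      exact Subgroup.card_dvd_of_le inf_le_left
    exact Nat.dvd_of_mul_dvd_mul_left (by norm_num) h
  suffices hm1 : m = 1 by rw [hm, hm1]
  by_contra hne
  obtain ⟨q, hq, hqm⟩ := Nat.exists_prime_and_dvd hne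
  haveI := Fact.mk hq
  have hqK : q ∣ Nat.card K := hm ▸ Dvd.dvd.mul_left hqm _
  have hq' : q = 2 ∨ q = 3 ∨ q = 5 ∨ q = 7 := by
    have h := hqm.trans hmd
    rcases hq.dvd_mul.1 h with h | h
    · rcases hq.dvd_mul.1 h with h | h
      · rcases hq.dvd_mul.1 h with h | h
        · exact Or.inl ((Nat.prime_dvd_prime_iff_eq hq Nat.prime_two).1 (hq.dvd_of_dvd_pow h))
        · exact Or.inr (Or.inl ((Nat.prime_dvd_prime_iff_eq hq Nat.prime_three).1 (hq.dvd_of_dvd_pow h)))
      · exact Or.inr (Or.inr (Or.inl ((Nat.prime_dvd_prime_iff_eq hq (by norm_num)).1 h)))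
    · exact Or.inr (Or.inr (Or.inr ((Nat.prime_dvd_prime_iff_eq hq (by norm_num)).1 h)))
  rcases hq' with rfl | rfl | hq57
  · have h16 : 2 ^ 4 ∣ Nat.card K := by
      rw [hm, show (2 ^ 4 : ℕ) = 8 * 2 by norm_num]
      exact Nat.mul_dvd_mul (by norm_num) hqm
    obtain ⟨S, hS⟩ := Sylow.exists_subgroup_card_pow_prime (G := ↥K) 2 (n := 4) h16
    have hle : S.map K.subtype ≤ E ⊓ cent x := by
      rintro _ ⟨y, hy, rfl⟩
      refine L.two_mem_Q hx hx11 y.2.1 y.2.2 ⟨4, ?_⟩
      rw [← orderOf_dvd_iff_pow_eq_one, ← hS, Subgroup.coe_subtype, Subgroup.orderOf_coe]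
      exact Subgroup.orderOf_dvd_natCard S hy
    have h := Subgroup.card_le_of_le hle
    rw [Subgroup.card_map_of_injective K.subtype_injective, hS, L.card_Q hx hx11] at h
    omega
  · have h9 : 3 ^ 2 ∣ Nat.card K := by
      rw [hm, show (3 ^ 2 : ℕ) = 3 * 3 by norm_num]
      exact Nat.mul_dvd_mul (by norm_num) hqm
    obtain ⟨T, hT⟩ := Sylow.exists_subgroup_card_pow_prime (G := ↥K) 3 (n := 2) h9
    obtain ⟨s, hs⟩ := exists_prime_orderOf_dvd_card' (G := ↥T) 3 (by rw [hT]; norm_num)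
    rw [← Subgroup.orderOf_coe, ← Subgroup.orderOf_coe] at hs
    have hle : T.map K.subtype ≤ cent ((s : ↥K) : G) ⊓ cent x := by
      rintro _ ⟨y, hy, rfl⟩
      refine ⟨mem_cent.2 ?_, y.2.2⟩
      exact congrArg Subtype.val (congrArg Subtype.val
        ((IsPGroup.commutative_of_card_eq_prime_sq hT) ⟨y, hy⟩ s))
    have h := (Subgroup.card_dvd_of_le hle).trans
      (L.card_pair_dvd hs hx11 (mem_cent.1 (s : ↥K).2.2).symm)
    rw [Subgroup.card_map_of_injective K.subtype_injective, hT] at h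
    norm_num at h
  · obtain ⟨y, hy⟩ := exists_prime_orderOf_dvd_card' (G := ↥K) q hqK
    rw [← Subgroup.orderOf_coe] at hy
    have h := Subgroup.orderOf_dvd_natCard (cent (y : G)) (x := x) (mem_cent.2 (mem_cent.1 y.2.2).symm)
    rw [hx11] at h
    rcases hq57 with rfl | rfl
    · rw [L.five _ hy] at h; norm_num at h
    · rw [L.seven _ hy] at h; norm_num at h

end

end Loc

end CfsgLib.JFourPrime
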