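import Cfsg.Agent.Lib.JFourPrime.ElevenCore

/-!
# The normalizer of the group of order eleven in the centralizer of `z`
-/

set_option autoImplicit false
set_option maxRecDepth 100000
set_option linter.style.haveILetI false
set_option linter.unusedSectionVars false

open Cfsg

namespace CfsgLib.JFourPrime

variable {G : Type*} [Group G] [Finite G] {z π t : G} {E : Subgroup G}

/-- A fixed element `x`, its part `O`, and the involution `z`. -/
structure Base (z π t : G) (E : Subgroup G) (x : G) (O : Subgroup G) : Prop where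
  loc : Loc z π t E
  xpi : x ∈ cent π
  ox : orderOf x = 11
  core : Core z x O

theorem Loc.exists_base (L : Loc z π t E) : ∃ (x : G) (O : Subgroup G), Base z π t E x O := by
  obtain ⟨x, hx, hx11⟩ := L.exists_eleven
  obtain ⟨O, hO⟩ := L.exists_core hx hx11
  exact ⟨x, O, ⟨L, hx, hx11, hO⟩⟩

namespace Base

variable {x : G} {O : Subgroup G} (B : Base z π t E x O)
include B

/-- The normalizer in `C(z)` of the group generated by `x`. -/
abbrev Act (_B : Base z π t E x O) : Subgroup G := Subgroup.normalizer (Subgroup.zpowers x : Set G) ⊓ cent z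

theorem x_central {g : G} (hg : g ∈ O) : g * x = x * g := mem_cent.1 (B.core.le hg)

theorem x_mem : x ∈ cent z := B.loc.x_mem B.xpi

theorem z_mem : z ∈ cent x := mem_cent.2 (mem_cent.1 B.x_mem).symm

theorem not_two : ∀ g ∈ O, g * g = 1 → g = 1 := fun g hg h => by
  rw [← orderOf_eq_one_iff]
  exact Nat.eq_one_of_dvd_coprimes (show Nat.Coprime 2 1331 by norm_num)
    (orderOf_dvd_of_pow_eq_one (by rw [pow_two, h])) (B.core.card ▸ Subgroup.orderOf_dvd_natCard O hg)

theorem mem_O_iff {g : G} (hg : g ∈ cent x) : g ∈ O ↔ g ^ 1331 = 1 := by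
  refine ⟨fun h => by rw [← orderOf_dvd_iff_pow_eq_one, ← B.core.card]; exact Subgroup.orderOf_dvd_natCard O h,
    fun h => ?_⟩
  haveI : (O.subgroupOf (cent x)).Normal :=
    ⟨fun o ho c => B.core.normal c c.2 _ (Subgroup.mem_subgroupOf.1 ho)⟩
  have hidx : (O.subgroupOf (cent x)).index = 24 := by
    have h1 := (O.subgroupOf (cent x)).card_mul_index
    rw [Nat.card_congr (Subgroup.subgroupOfEquivOfLe B.core.le).toEquiv, B.core.card, B.core.card_cent] at h1
    omega
  have h1 := (O.subgroupOf (cent x)).pow_index_mem ⟨g, hg⟩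
  rw [hidx, Subgroup.mem_subgroupOf] at h1
  obtain ⟨m, hm⟩ := exists_pow_eq_self_of_coprime
    (Nat.Coprime.of_dvd_right (orderOf_dvd_of_pow_eq_one h) (show Nat.Coprime 24 1331 by norm_num))
  rw [← hm]
  exact pow_mem h1 m

theorem conj_x {a : G} (ha : a ∈ B.Act) : ∃ k : ℤ, a * x * a⁻¹ = x ^ k := by
  obtain ⟨k, hk⟩ := Subgroup.mem_zpowers_iff.1
    ((Subgroup.mem_normalizer_iff.1 ha.1 x).1 (Subgroup.mem_zpowers x))
  exact ⟨k, hk.symm⟩

theorem act_O {a : G} (ha : a ∈ B.Act) {g : G} (hg : g ∈ O) : a * g * a⁻¹ ∈ O := by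
  obtain ⟨k, hk⟩ := B.conj_x (inv_mem ha)
  rw [inv_inv] at hk
  have hx' : Commute g (a⁻¹ * x * a) := by
    rw [hk]; exact (show Commute g x from B.x_central hg).zpow_right k
  have hc : a * g * a⁻¹ ∈ cent x := mem_cent.2 (by
    calc a * g * a⁻¹ * x = a * (g * (a⁻¹ * x * a)) * a⁻¹ := by group
      _ = a * ((a⁻¹ * x * a) * g) * a⁻¹ := by rw [hx'.eq]
      _ = _ := by group)
  rw [B.mem_O_iff hc, ← MulAut.conj_apply, ← map_pow, (B.mem_O_iff (B.core.le hg)).1 hg, map_one]

/-- The inverted elements of `O`. -/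
def inverted (_B : Base z π t E x O) : Set G := {g | g ∈ O ∧ z * g * z⁻¹ = g⁻¹}

/-- Each coset of `⟨x⟩` in `O` has exactly one inverted element. -/
theorem exists_inverted {g : G} (hg : g ∈ O) : ∃ w ∈ Subgroup.zpowers x, g * w ∈ B.inverted := by
  obtain ⟨i, hi⟩ := Subgroup.mem_zpowers_iff.1 (B.core.inv g hg)
  have hx11 : x ^ (11 : ℤ) = 1 := by
    rw [show (11 : ℤ) = ((11 : ℕ) : ℤ) from rfl, zpow_natCast, ← B.ox, pow_orderOf_eq_one]
  refine ⟨x ^ (5 * i), Subgroup.zpow_mem_zpowers x _, O.mul_mem hg (Subgroup.zpow_mem _ B.core.mem _), ?_⟩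
  have hzx : Commute z x := mem_cent.1 B.z_mem
  have hgx : Commute g x := B.x_central hg
  have hzg : z * g * z⁻¹ = g⁻¹ * x ^ i := by rw [hi]; group
  rw [show z * (g * x ^ (5 * i)) * z⁻¹ = (z * g * z⁻¹) * (z * x ^ (5 * i) * z⁻¹) by group, hzg,
    (hzx.zpow_right _).eq, mul_inv_cancel_right, mul_assoc, ← zpow_add, mul_inv_rev,
    (hgx.inv_left.zpow_right _).eq, ← zpow_neg]
  congr 1
  rw [show i + 5 * i = (11 : ℤ) * i + -(5 * i) by ring, zpow_add, zpow_mul, hx11, one_zpow, one_mul]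

theorem inverted_unique {f w : G} (hf : f ∈ B.inverted) (hw : w ∈ Subgroup.zpowers x)
    (hfw : f * w ∈ B.inverted) : w = 1 := by
  have hwO : w ∈ O := Subgroup.zpowers_le.2 B.core.mem hw
  obtain ⟨i, rfl⟩ := Subgroup.mem_zpowers_iff.1 hw
  have hzx : Commute z x := mem_cent.1 B.z_mem
  have hfx : Commute f x := B.x_central hf.1
  have h := hfw.2
  rw [show z * (f * x ^ i) * z⁻¹ = (z * f * z⁻¹) * (z * x ^ i * z⁻¹) by group, hf.2,
    (hzx.zpow_right _).eq, mul_inv_cancel_right, (hfx.zpow_right i).eq, mul_inv_rev] at h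
  have h2 : x ^ i = (x ^ i)⁻¹ := mul_left_cancel h
  exact B.not_two _ hwO (by nth_rw 2 [h2]; exact mul_inv_cancel _)

theorem ncard_inverted : B.inverted.ncard ≤ 121 := by
  classical
  let f : ↥B.inverted × ↥(Subgroup.zpowers x) → ↥O := fun p =>
    ⟨(p.1 : G) * p.2, O.mul_mem p.1.2.1 (Subgroup.zpowers_le.2 B.core.mem p.2.2)⟩
  have hf : Function.Injective f := by
    rintro ⟨⟨a, ha⟩, ⟨w, hw⟩⟩ ⟨⟨b, hb⟩, ⟨v, hv⟩⟩ h
    have h' : a * w = b * v := congrArg Subtype.val h
    have hwv : w * v⁻¹ ∈ Subgroup.zpowers x := mul_mem hw (inv_mem hv)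
    have e : a * (w * v⁻¹) = b := by rw [← mul_assoc, h', mul_inv_cancel_right]
    have h1 := B.inverted_unique ha hwv (by rw [e]; exact hb)
    rw [h1, mul_one] at e
    have e2 : w = v := mul_inv_eq_one.1 h1
    simp [e, e2]
  have h := Nat.card_le_card_of_injective f hf
  rw [Nat.card_prod, Nat.card_coe_set_eq, Nat.card_zpowers, B.ox, B.core.card] at h
  omega

theorem card_act : Nat.card ↥B.Act = 2640 := by
  classical
  haveI := Fact.mk (show Nat.Prime 11 by norm_num)
  set H := cent z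
  set X0 := (Subgroup.zpowers x).subgroupOf H with hX0
  have hX0c : Nat.card X0 = 11 := by
    rw [Nat.card_congr (Subgroup.subgroupOfEquivOfLe (Subgroup.zpowers_le.2 B.x_mem)).toEquiv, Nat.card_zpowers, B.ox]
  have hfac : (Nat.card ↥H).factorization 11 = 1 := by
    rw [B.loc.cz, show (21799895040 : ℕ) = 11 * 1981808640 by norm_num,
      Nat.factorization_mul (by norm_num) (by norm_num), Finsupp.add_apply,
      Nat.Prime.factorization_self (show Nat.Prime 11 by norm_num),
      Nat.factorization_eq_zero_of_not_dvd (show ¬ 11 ∣ 1981808640 by norm_num)]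
  let P : Sylow 11 ↥H := Sylow.ofCard X0 (by rw [hX0c, hfac, pow_one])
  have hmap : (Subgroup.normalizer (X0 : Set ↥H)).map H.subtype = B.Act := by
    ext g
    constructor
    · rintro ⟨a, ha, rfl⟩
      refine ⟨Subgroup.mem_normalizer_iff.2 fun v => ?_, a.2⟩
      constructor
      · intro hv
        exact (Subgroup.mem_normalizer_iff.1 ha ⟨v, (Subgroup.zpowers_le.2 B.x_mem) hv⟩).1 hv
      · intro hv
        have hvH : v ∈ H := by
          have := H.mul_mem (H.mul_mem (H.inv_mem a.2) ((Subgroup.zpowers_le.2 B.x_mem) hv)) a.2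
          simpa [mul_assoc] using this
        exact (Subgroup.mem_normalizer_iff.1 ha ⟨v, hvH⟩).2 hv
    · intro hg
      refine ⟨⟨g, hg.2⟩, Subgroup.mem_normalizer_iff.2 fun v => ?_, rfl⟩
      exact Subgroup.mem_normalizer_iff.1 hg.1 (v : G)
  have hN : Nat.card ↥B.Act = Nat.card ↥(Subgroup.normalizer (X0 : Set ↥H)) := by
    rw [← hmap, Subgroup.card_map_of_injective H.subtype_injective]
  have hn := card_sylow_modEq_one 11 ↥H
  rw [P.card_eq_index_normalizer] at hn
  have hmul := (Subgroup.normalizer (X0 : Set ↥H)).card_mul_index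
  change Nat.card ↥(Subgroup.normalizer (X0 : Set ↥H)) *
    (Subgroup.normalizer ((P : Subgroup ↥H) : Set ↥H)).index = Nat.card ↥H at hmul
  rw [← hN, B.loc.cz] at hmul
  set n := (Subgroup.normalizer ((P : Subgroup ↥H) : Set ↥H)).index
  -- the index of the centralizer is at most ten
  set K := B.Act ⊓ cent x with hK
  have hKc : Nat.card K = 264 := by
    rw [← B.loc.card_zx B.xpi B.ox]
    refine congrArg (fun S : Subgroup G => Nat.card S) (le_antisymm (fun a ha => ⟨ha.1.2, ha.2⟩) fun a ha =>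
      ⟨⟨Subgroup.mem_normalizer_iff.2 fun v => ?_, ha.1⟩, ha.2⟩)
    have hc : ∀ {b : G}, b ∈ cent x → ∀ {v : G}, v ∈ Subgroup.zpowers x → b * v * b⁻¹ = v := fun {b} hb {v} hv => by
      obtain ⟨i, rfl⟩ := Subgroup.mem_zpowers_iff.1 hv
      rw [((show Commute b x from mem_cent.1 hb).zpow_right i).eq, mul_inv_cancel_right]
    constructor
    · intro hv; rwa [hc ha.2 hv]
    · intro hv
      have h2 := hc (inv_mem ha.2) hv
      rw [show a⁻¹ * (a * v * a⁻¹) * a⁻¹⁻¹ = v by group] at h2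
      rw [h2]; exact hv
  have horb := CfsgLib.JFour.card_orbit_mul B.Act x
  rw [show B.Act ⊓ Subgroup.centralizer ({x} : Set G) = K from rfl, hKc] at horb
  set o := Set.ncard {v : G | ∃ h ∈ B.Act, h * x * h⁻¹ = v}
  have ho : o ≤ 10 := by
    have hsub : {v : G | ∃ h ∈ B.Act, h * x * h⁻¹ = v} ⊆ (Subgroup.zpowers x : Set G) \ {1} := by
      rintro _ ⟨h, hh, rfl⟩
      refine ⟨(Subgroup.mem_normalizer_iff.1 hh.1 x).1 (Subgroup.mem_zpowers x), fun e => ?_⟩
      rw [Set.mem_singleton_iff, mul_inv_eq_one, mul_eq_left] at e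
      have := B.ox
      rw [e, orderOf_one] at this
      omega
    refine (Set.ncard_le_ncard hsub (Set.toFinite _)).trans (le_of_eq ?_)
    rw [Set.ncard_sdiff (Set.singleton_subset_iff.2 (one_mem (Subgroup.zpowers x))) (Set.toFinite _),
      Set.ncard_singleton, ← Nat.card_coe_set_eq]
    show Nat.card ↥(Subgroup.zpowers x) - 1 = 10
    rw [Nat.card_zpowers, B.ox]
  rw [← horb] at hmul ⊢
  have hn' : n % 11 = 1 := hn
  interval_cases o <;> omega

/-- Every coset element inverted by `z` commutes with an involution. -/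
theorem inverted_invol {f : G} (hf : f ∈ B.inverted) (hf1 : f ≠ 1) : ∃ i, orderOf i = 2 ∧ f * i = i * f := by
  classical
  haveI := Fact.mk Nat.prime_two
  have hfX : f ∉ Subgroup.zpowers x := fun h => hf1 (by
    have h1 := B.inverted_unique (f := 1) ⟨O.one_mem, by rw [inv_one, mul_one, mul_inv_cancel]⟩ h (by rwa [one_mul])
    exact h1)
  have hf11 : f ^ 1331 = 1 := (B.mem_O_iff (B.core.le hf.1)).1 hf.1
  set S := B.Act ⊓ cent f with hS
  have horb := CfsgLib.JFour.card_orbit_mul B.Act f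
  rw [B.card_act] at horb
  change _ * Nat.card S = _ at horb
  have hsub : {v : G | ∃ h ∈ B.Act, h * f * h⁻¹ = v} ⊆ B.inverted \ {1} := by
    rintro _ ⟨h, hh, rfl⟩
    refine ⟨⟨B.act_O hh hf.1, ?_⟩, fun e => hf1 ?_⟩
    · have hhz : Commute h z := mem_cent.1 hh.2
      calc z * (h * f * h⁻¹) * z⁻¹ = (z * h) * f * (z * h)⁻¹ := by group
        _ = h * (z * f * z⁻¹) * h⁻¹ := by rw [← hhz.eq]; group
        _ = _ := by rw [hf.2]; group
    · rw [Set.mem_singleton_iff, mul_inv_eq_one, mul_eq_left] at e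
      exact e
  have ho : Set.ncard {v : G | ∃ h ∈ B.Act, h * f * h⁻¹ = v} ≤ 120 := by
    refine (Set.ncard_le_ncard hsub (Set.toFinite _)).trans ?_
    have h1 : (1 : G) ∈ B.inverted := ⟨O.one_mem, by rw [inv_one, mul_one, mul_inv_cancel]⟩
    rw [Set.ncard_sdiff (Set.singleton_subset_iff.2 h1) (Set.toFinite _), Set.ncard_singleton]
    have := B.ncard_inverted
    omega
  have hS22 : 22 ≤ Nat.card S := by
    by_contra h
    push Not at h
    have := Nat.mul_le_mul ho (Nat.lt_succ_iff.1 h)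
    omega
  have hSd : Nat.card S ∣ 2640 := B.card_act ▸ Subgroup.card_dvd_of_le inf_le_left
  by_contra hno
  push Not at hno
  have h2 : ¬ 2 ∣ Nat.card S := fun h => by
    obtain ⟨i, hi⟩ := exists_prime_orderOf_dvd_card' (G := ↥S) 2 h
    rw [← Subgroup.orderOf_coe] at hi
    exact hno i hi (mem_cent.1 i.2.2).symm
  have h35 : 3 ∣ Nat.card S ∨ 5 ∣ Nat.card S := by
    by_contra hh
    push Not at hh
    have hco : Nat.Coprime (Nat.card S) 240 := by
      rw [show (240 : ℕ) = 2 ^ 4 * (3 * 5) by norm_num]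
      exact Nat.Coprime.mul_right ((Nat.coprime_comm.1 (Nat.prime_two.coprime_iff_not_dvd.2 h2)).pow_right 4)
        (Nat.Coprime.mul_right (Nat.coprime_comm.1 (Nat.prime_three.coprime_iff_not_dvd.2 hh.1))
          (Nat.coprime_comm.1 ((show Nat.Prime 5 by norm_num).coprime_iff_not_dvd.2 hh.2)))
    have := Nat.le_of_dvd (by norm_num) (hco.dvd_of_dvd_mul_left (hSd.trans (dvd_of_eq (by norm_num : 2640 = 240 * 11))))
    omega
  have hof : orderOf f ∣ 11 ^ 3 := orderOf_dvd_of_pow_eq_one (by rw [show (11 : ℕ) ^ 3 = 1331 by norm_num, hf11])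
  have hof1 : 11 ∣ orderOf f := by
    obtain ⟨k, -, hk⟩ := (Nat.dvd_prime_pow (show Nat.Prime 11 by norm_num)).1 hof
    rw [hk]
    refine dvd_pow_self 11 fun h => hf1 ?_
    rw [h, pow_zero, orderOf_eq_one_iff] at hk
    exact hk
  rcases h35 with h | h
  · obtain ⟨s, hs⟩ := exists_prime_orderOf_dvd_card' (G := ↥S) 3 (hp := ⟨Nat.prime_three⟩) h
    rw [← Subgroup.orderOf_coe] at hs
    -- `s` centralizes `x`, the index being prime to three
    have hsx : x * (s : G) = s * x := by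
      obtain ⟨k, hk⟩ := B.conj_x s.2.1
      have h3 : (s : G) ^ 3 = 1 := by rw [← hs, pow_orderOf_eq_one]
      have hs1 : ∀ m : ℤ, (s : G) * x ^ m * (s : G)⁻¹ = x ^ (k * m) := fun m => by
        rw [← MulAut.conj_apply, map_zpow, MulAut.conj_apply, hk, ← zpow_mul]
      have hk3 : x = x ^ (k * k * k) := by
        calc x = (s : G) ^ 3 * x * ((s : G) ^ 3)⁻¹ := by rw [h3, one_mul, inv_one, mul_one]
          _ = (s : G) * ((s : G) * ((s : G) * x * (s : G)⁻¹) * (s : G)⁻¹) * (s : G)⁻¹ := by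
            simp only [pow_succ, pow_zero, one_mul]; group
          _ = _ := by rw [hk, hs1, hs1, mul_assoc]
      have hmod : (k * k * k) % 11 = 1 := by
        have h4 : x ^ (k * k * k - 1) = 1 := by rw [zpow_sub, zpow_one, ← hk3, mul_inv_cancel]
        have h5 := orderOf_dvd_iff_zpow_eq_one.2 h4
        rw [B.ox] at h5
        omega
      have hk1 : k % 11 = 1 := by
        have := Int.emod_nonneg k (show (11 : ℤ) ≠ 0 by norm_num)
        have := Int.emod_lt_of_pos k (show (0 : ℤ) < 11 by norm_num)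
        rw [Int.mul_emod, Int.mul_emod k k] at hmod
        interval_cases hh : k % 11
        all_goals first | rfl | omega
      have hxk : x ^ k = x := by
        rw [zpow_eq_zpow_emod' (n := 11) k (by rw [← B.ox, pow_orderOf_eq_one])]
        simp [hk1]
      rw [hxk, mul_inv_eq_iff_eq_mul] at hk
      exact hk.symm
    have hle : Subgroup.zpowers f ⊔ Subgroup.zpowers x ≤ cent (s : G) ⊓ cent x :=
      sup_le (Subgroup.zpowers_le.2 ⟨mem_cent.2 (mem_cent.1 s.2.2).symm, B.core.le hf.1⟩)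
        (Subgroup.zpowers_le.2 ⟨mem_cent.2 hsx, mem_cent.2 rfl⟩)
    have hdvd := (Subgroup.card_dvd_of_le hle).trans (B.loc.card_pair_dvd hs B.ox hsx)
    have hO : Nat.card ↥(Subgroup.zpowers f ⊔ Subgroup.zpowers x) ∣ 11 ^ 3 := by
      refine (Subgroup.card_dvd_of_le (sup_le (Subgroup.zpowers_le.2 hf.1) (Subgroup.zpowers_le.2 B.core.mem))).trans ?_
      rw [B.core.card]; norm_num
    have h11 : Nat.card ↥(Subgroup.zpowers f ⊔ Subgroup.zpowers x) ∣ Nat.gcd 66 (11 ^ 3) := Nat.dvd_gcd hdvd hO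
    have heq : Subgroup.zpowers x = Subgroup.zpowers f ⊔ Subgroup.zpowers x :=
      Subgroup.eq_of_le_of_card_ge le_sup_right (by
        rw [Nat.card_zpowers, B.ox]
        exact Nat.le_of_dvd (by norm_num) (h11.trans (dvd_of_eq (by norm_num))))
    exact hfX (heq.ge (Subgroup.mem_sup_left (Subgroup.mem_zpowers f)))
  · obtain ⟨s, hs⟩ := exists_prime_orderOf_dvd_card' (G := ↥S) 5 (hp := ⟨by norm_num⟩) h
    rw [← Subgroup.orderOf_coe] at hs
    have h5 := hof1.trans (Subgroup.orderOf_dvd_natCard (cent (s : G)) (x := f) (mem_cent.2 (mem_cent.1 s.2.2).symm))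
    rw [B.loc.five _ hs] at h5
    norm_num at h5

end Base

end CfsgLib.JFourPrime
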