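import Cfsg.Agent.Lib.JFour.PairStab
import Cfsg.Agent.Lib.Golay.Classes.FreeCentralizer
import Cfsg.Agent.S5394

/-!
# The automorphism group of the group on 22 points has no element of order 22
-/

set_option autoImplicit false
set_option maxRecDepth 100000
set_option linter.style.haveILetI false

open Cfsg

namespace CfsgLib.JFourPrime

open CfsgLib.Golay

/-- The group on 24 points has no commuting elements of orders two and eleven. -/
theorem m24_two_eleven {i x : Equiv.Perm GolayPt} (hi : i ∈ Cfsg.M24) (hx : x ∈ Cfsg.M24)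
    (hi2 : orderOf i = 2) (hx11 : orderOf x = 11) (hc : x * i = i * x) : False := by
  classical
  rcases Cfsg.Agent.S5394.result.1 i hi hi2 with ho | h0
  · set o := Finset.univ.filter fun p => i p = p with hodef
    have hmem : ∀ p, p ∈ o ↔ i p = p := fun p => by simp [hodef]
    have hxo : ∀ p, x p ∈ o ↔ p ∈ o := by
      intro p
      have h1 : i (x p) = x (i p) := congrArg (fun σ : Equiv.Perm GolayPt => σ p) hc.symm
      rw [hmem, hmem, h1, EmbeddingLike.apply_eq_iff_eq]
    have hcard : o.card = 8 := ho.2
    let r : Equiv.Perm {p // p ∈ o} := x.subtypePerm hxo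
    have hr : r ^ 11 = 1 := by
      ext p
      rw [Equiv.Perm.subtypePerm_pow]
      simp [← hx11, pow_orderOf_eq_one]
    have hd : orderOf r ∣ Nat.factorial 8 := by
      rw [← hcard, ← Fintype.card_coe o, ← Fintype.card_perm]
      exact orderOf_dvd_card
    have hr1 : r = 1 := orderOf_eq_one_iff.1 (Nat.eq_one_of_dvd_coprimes (k := orderOf r)
      (show Nat.Coprime (Nat.factorial 8) 11 by decide) hd (orderOf_dvd_of_pow_eq_one hr))
    have hxF : x ∈ Cfsg.M24 ⊓ fixingSubgroup (Equiv.Perm GolayPt) (o : Set GolayPt) := by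
      refine ⟨hx, mem_fixingSubgroup_iff _ |>.2 fun p hp => ?_⟩
      exact congrArg Subtype.val (congrArg (fun σ : Equiv.Perm {q // q ∈ o} => σ ⟨p, Finset.mem_coe.1 hp⟩) hr1)
    have h2 := Subgroup.orderOf_dvd_natCard _ hxF
    rw [hx11, (CfsgLib.Golay.octad_pointwise ho).1] at h2
    norm_num at h2
  · have hs := (CfsgLib.Golay.Classes.free_centralizer hi hi2 h0).1
    set C := Cfsg.M24 ⊓ Subgroup.centralizer ({i} : Set (Equiv.Perm GolayPt))
    have hC : Nat.card C = 7680 := by
      rw [← hs]
      exact Nat.card_congr (Equiv.subtypeEquivRight fun c => by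
        rw [Subgroup.mem_inf, Subgroup.mem_centralizer_singleton_iff])
    have h2 := Subgroup.orderOf_dvd_natCard C (x := x) ⟨hx, Subgroup.mem_centralizer_singleton_iff.2 hc⟩
    rw [hx11, hC] at h2
    norm_num at h2

/-- The automorphism group of the group on 22 points has no commuting elements of orders two and eleven. -/
theorem aut22_two_eleven {i x : MulAut ↥Cfsg.Spor.M22} (hi2 : orderOf i = 2) (hx11 : orderOf x = 11)
    (hc : x * i = i * x) : False := by
  obtain ⟨e⟩ := CfsgLib.JFour.pairStab_base
  let f : MulAut ↥Cfsg.Spor.M22 →* Equiv.Perm GolayPt :=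
    (Cfsg.M24.subtype.comp (CfsgLib.JFour.pairStab (pt 23) (pt 0)).subtype).comp e.symm.toMonoidHom
  have hf : Function.Injective f :=
    (Subtype.val_injective.comp Subtype.val_injective).comp e.symm.injective
  exact m24_two_eleven (i := f i) (x := f x) (e.symm i).1.2 (e.symm x).1.2
    (by rw [orderOf_injective f hf, hi2]) (by rw [orderOf_injective f hf, hx11])
    (by rw [← map_mul, hc, map_mul])

/-- A two-element of the automorphism group commuting with an element of order eleven is trivial. -/
theorem aut22_two_part {i x : MulAut ↥Cfsg.Spor.M22} {k : ℕ} (hik : i ^ 2 ^ k = 1) (hx11 : orderOf x = 11)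
    (hc : x * i = i * x) : i = 1 := by
  induction k generalizing i with
  | zero => simpa using hik
  | succ k ih =>
    have h2 : i ^ 2 = 1 := ih (i := i ^ 2) (by rw [← pow_mul, ← pow_succ', hik])
      (((show Commute x i from hc).pow_right 2).eq)
    by_contra hne
    haveI := Fact.mk Nat.prime_two
    exact aut22_two_eleven (orderOf_eq_prime h2 hne) hx11 hc

end CfsgLib.JFourPrime
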