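import Cfsg.Agent.Lib.JFourPrime.ElevenLocal

/-!
# No element of order eleven commutes with an element of large prime order
-/

set_option autoImplicit false
set_option maxRecDepth 100000
set_option linter.style.haveILetI false
set_option linter.unusedSectionVars false

open Cfsg

namespace CfsgLib.JFourPrime

variable {G : Type*} [Group G] [Finite G] {z π t : G} {E : Subgroup G}

/-- The large primes. -/
def big : List ℕ := [23, 29, 31, 37, 43]

theorem big_prime {p : ℕ} (hp : p ∈ big) : p.Prime := by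
  simp only [big, List.mem_cons, List.not_mem_nil, or_false] at hp
  rcases hp with rfl | rfl | rfl | rfl | rfl <;> norm_num

namespace Loc

variable (L : Loc z π t E)
include L

theorem two_t {v : G} (hv : v ∈ cent t) (hv11 : orderOf v = 11) {y : G} (hy : y ∈ cent t) (hyv : y ∈ cent v)
    (h2 : ∃ k, y ^ 2 ^ k = 1) : y = 1 ∨ y = t := by
  classical
  obtain ⟨V, hVsq, hVc, hVt, ⟨z', hz', hzz'⟩, hVn, hkey⟩ := L.two_eleven_t
  have hyV : y ∈ V := hkey v y hv hy hv11 (mem_cent.1 hyv).symm h2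
  have htV : t ∈ V := hkey v t hv (mem_cent.2 rfl) hv11 (mem_cent.1 hv)
    ⟨1, by rw [pow_one, ← L.ot, pow_orderOf_eq_one]⟩
  have h := CfsgLib.JFourLocal.card_inf_modEq (U := V) (p := 11) (by norm_num) (fun u hu => hVn v hv u hu) hv11
  rw [hVc] at h
  obtain ⟨k, hk, hkc⟩ := (Nat.dvd_prime_pow Nat.prime_two).1
    (show Nat.card ↥(V ⊓ cent v) ∣ 2 ^ 11 from hVc ▸ Subgroup.card_dvd_of_le inf_le_left)
  change 2 ^ 11 % 11 = Nat.card ↥(V ⊓ cent v) % 11 at h
  rw [hkc] at h
  have hk11 : k ≠ 11 := by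
    rintro rfl
    have heq : V ⊓ cent v = V := Subgroup.eq_of_le_of_card_ge inf_le_left (by rw [hkc, hVc])
    obtain ⟨c, hc⟩ := isConj_iff.1 hzz'
    -- move `z'` to `z`
    set v' := c⁻¹ * v * c with hv'
    have hv'z : v' ∈ cent z := mem_cent.2 (by
      calc v' * z = c⁻¹ * (v * (c * z * c⁻¹)) * c := by rw [hv']; group
        _ = c⁻¹ * ((c * z * c⁻¹) * v) * c := by
          rw [hc, (mem_cent.1 (Subgroup.mem_inf.1 (heq.ge hz')).2)]
        _ = _ := by rw [hv']; group)
    have hv'o : orderOf v' = 11 := by rw [hv', ← hv11]; simpa using (MulAut.conj c⁻¹).orderOf_eq v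
    have hle : V.map (MulAut.conj c⁻¹).toMonoidHom ≤ cent z ⊓ cent v' := by
      rintro _ ⟨u, hu, rfl⟩
      refine ⟨mem_cent.2 ?_, mem_cent.2 ?_⟩
      · have huz' : u * z' = z' * u := by
          have e1 := hVsq u hu; have e2 := hVsq z' hz'; have e3 := hVsq _ (V.mul_mem hu hz')
          calc u * z' = u * (u * z' * (u * z')) * z' := by rw [e3, mul_one]
            _ = (u * u) * (z' * u) * (z' * z') := by group
            _ = _ := by rw [e1, e2, one_mul, mul_one]
        rw [← hc] at huz'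
        show c⁻¹ * u * c⁻¹⁻¹ * z = z * (c⁻¹ * u * c⁻¹⁻¹)
        calc c⁻¹ * u * c⁻¹⁻¹ * z = c⁻¹ * (u * (c * z * c⁻¹)) * c := by group
          _ = _ := by rw [huz']; group
      · have huv := mem_cent.1 (Subgroup.mem_inf.1 (heq.ge hu)).2
        show c⁻¹ * u * c⁻¹⁻¹ * v' = v' * (c⁻¹ * u * c⁻¹⁻¹)
        calc c⁻¹ * u * c⁻¹⁻¹ * v' = c⁻¹ * (u * v) * c := by rw [hv']; group
          _ = _ := by rw [huv, hv']; group
    have h2048 : 2 ^ 11 ∣ Nat.card ↥(cent z ⊓ cent v') := by
      rw [← hVc, ← Subgroup.card_map_of_injective (K := V) (f := (MulAut.conj c⁻¹).toMonoidHom)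
        (MulAut.conj c⁻¹).injective]
      exact Subgroup.card_dvd_of_le hle
    obtain ⟨x, hx, hx11⟩ := L.exists_eleven
    obtain ⟨d, hd⟩ := exists_conj_mem (G := ↥(cent z)) (p := 11) (by norm_num)
      (by rw [L.cz]; norm_num) (H := Subgroup.zpowers (⟨x, L.x_mem hx⟩ : ↥(cent z)))
      (by rw [Nat.card_zpowers, Subgroup.orderOf_mk, hx11]) (x := ⟨v', hv'z⟩) (by rw [Subgroup.orderOf_mk, hv'o])
    obtain ⟨i, hi⟩ := Subgroup.mem_zpowers_iff.1 hd
    have hi' : x ^ i = (d : G) * v' * (d : G)⁻¹ := by simpa using congrArg Subtype.val hi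
    have hgen : Subgroup.zpowers ((d : G) * v' * (d : G)⁻¹) = Subgroup.zpowers x := Subgroup.eq_of_le_of_card_ge
      (Subgroup.zpowers_le.2 (hi' ▸ Subgroup.zpow_mem_zpowers x i)) (by
        rw [Nat.card_zpowers, Nat.card_zpowers, hx11, ← MulAut.conj_apply, MulEquiv.orderOf_eq, hv'o])
    have hcx : cent ((d : G) * v' * (d : G)⁻¹) = cent x := by
      unfold cent
      rw [← Subgroup.centralizer_closure, ← Subgroup.zpowers_eq_closure, hgen, Subgroup.zpowers_eq_closure,
        Subgroup.centralizer_closure]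
    have hmap : (cent z ⊓ cent v').map (MulAut.conj (d : G)).toMonoidHom = cent z ⊓ cent x := by
      rw [Subgroup.map_inf _ _ _ (MulAut.conj (d : G)).injective, ← cent_conj, ← cent_conj, hcx,
        mem_cent.1 d.2, mul_inv_cancel_right]
    rw [← Subgroup.card_map_of_injective (K := cent z ⊓ cent v') (f := (MulAut.conj (d : G)).toMonoidHom)
      (MulAut.conj (d : G)).injective, hmap, L.card_zx hx hx11] at h2048
    norm_num at h2048
  have hk1 : k = 1 := by interval_cases k <;> simp at h hk11 ⊢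
  subst hk1
  have ht1 : t ≠ 1 := fun e => by have := L.ot; rw [e, orderOf_one] at this; omega
  by_contra hne
  push Not at hne
  let T : Finset G := {1, t, y}
  have hT : T.card = 3 := by
    simp only [T]
    rw [Finset.card_insert_of_notMem, Finset.card_insert_of_notMem, Finset.card_singleton] <;>
      simp [ht1.symm, hne.1.symm, hne.2.symm]
  have hle : T.card ≤ Nat.card ↥(V ⊓ cent v) := by
    rw [show Nat.card ↥(V ⊓ cent v) = ((V ⊓ cent v : Subgroup G) : Set G).ncard from Nat.card_coe_set_eq _,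
      ← Set.ncard_coe_finset]
    refine Set.ncard_le_ncard ?_ (Set.toFinite _)
    intro a ha
    simp only [T, Finset.coe_insert, Finset.coe_singleton, Set.mem_insert_iff, Set.mem_singleton_iff] at ha
    rcases ha with rfl | rfl | rfl
    exacts [(V ⊓ cent v).one_mem, ⟨htV, mem_cent.2 (mem_cent.1 hv).symm⟩, ⟨hyV, hyv⟩]
  rw [hkc, hT] at hle
  omega

/-- The centralizer of `t` and an element of order eleven. -/
theorem card_tv {v : G} (hv : v ∈ cent t) (hv11 : orderOf v = 11) : Nat.card ↥(cent t ⊓ cent v) = 22 := by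
  classical
  haveI := Fact.mk Nat.prime_two
  set W := cent t ⊓ cent v with hW
  have ht : t ∈ W := ⟨mem_cent.2 rfl, mem_cent.2 (mem_cent.1 hv).symm⟩
  have h2 : 2 ∣ Nat.card W := L.ot ▸ Subgroup.orderOf_dvd_natCard W ht
  have h11 : 11 ∣ Nat.card W := hv11 ▸ Subgroup.orderOf_dvd_natCard W ⟨hv, mem_cent.2 rfl⟩
  obtain ⟨m, hm⟩ := Nat.Coprime.mul_dvd_of_dvd_of_dvd (show Nat.Coprime 2 11 by decide) h2 h11
  have hmd : m ∣ 2 ^ 18 * 3 ^ 2 * 5 * 7 := by
    have h : 2 * 11 * m ∣ 2 * 11 * (2 ^ 18 * 3 ^ 2 * 5 * 7) := by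
      rw [← hm, show (2 * 11 * (2 ^ 18 * 3 ^ 2 * 5 * 7) : ℕ) = 1816657920 by norm_num, ← L.ct]
      exact Subgroup.card_dvd_of_le inf_le_left
    exact Nat.dvd_of_mul_dvd_mul_left (by norm_num) h
  suffices hm1 : m = 1 by rw [hm, hm1]
  by_contra hne
  obtain ⟨q, hq, hqm⟩ := Nat.exists_prime_and_dvd hne
  haveI := Fact.mk hq
  have hq' : q = 2 ∨ q = 3 ∨ q = 5 ∨ q = 7 := by
    have h := hqm.trans hmd
    rcases hq.dvd_mul.1 h with h | h
    · rcases hq.dvd_mul.1 h with h | h
      · rcases hq.dvd_mul.1 h with h | h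
        · exact Or.inl ((Nat.prime_dvd_prime_iff_eq hq Nat.prime_two).1 (hq.dvd_of_dvd_pow h))
        · exact Or.inr (Or.inl ((Nat.prime_dvd_prime_iff_eq hq Nat.prime_three).1 (hq.dvd_of_dvd_pow h)))
      · exact Or.inr (Or.inr (Or.inl ((Nat.prime_dvd_prime_iff_eq hq (by norm_num)).1 h)))
    · exact Or.inr (Or.inr (Or.inr ((Nat.prime_dvd_prime_iff_eq hq (by norm_num)).1 h)))
  rcases hq' with rfl | rfl | hq57
  · have h4 : 2 ^ 2 ∣ Nat.card W := by
      rw [hm, show (2 ^ 2 : ℕ) = 2 * 2 by norm_num]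
      exact Nat.mul_dvd_mul (by norm_num) hqm
    obtain ⟨S, hS⟩ := Sylow.exists_subgroup_card_pow_prime (G := ↥W) 2 (n := 2) h4
    have hle : S.map W.subtype ≤ Subgroup.zpowers t := by
      rintro _ ⟨y, hy, rfl⟩
      have h4 : ((y : ↥W) : G) ^ 2 ^ 2 = 1 := by
        rw [← orderOf_dvd_iff_pow_eq_one, ← hS, Subgroup.orderOf_coe]
        exact Subgroup.orderOf_dvd_natCard S hy
      rcases L.two_t hv hv11 y.2.1 y.2.2 ⟨2, h4⟩ with e | e <;> rw [Subgroup.coe_subtype, e]
      exacts [one_mem _, Subgroup.mem_zpowers t]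
    have h := Subgroup.card_le_of_le hle
    rw [Subgroup.card_map_of_injective W.subtype_injective, hS, Nat.card_zpowers, L.ot] at h
    omega
  · obtain ⟨s, hs⟩ := exists_prime_orderOf_dvd_card' (G := ↥W) 3 (hm ▸ Dvd.dvd.mul_left hqm _)
    rw [← Subgroup.orderOf_coe] at hs
    obtain ⟨c, hc⟩ := isConj_iff.1 (L.three _ hs)
    set u := c * z * c⁻¹ with hu
    have hucen : ∀ g ∈ cent (s : G), u ∈ cent g := fun g hg => by
      rw [← hc, cent_conj, Subgroup.mem_map_equiv, MulAut.conj_symm_apply] at hg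
      refine mem_cent.2 ?_
      have h1 := mem_cent.1 (L.cpi hg)
      calc u * g = c * (z * (c⁻¹ * g * c)) * c⁻¹ := by rw [hu]; group
        _ = _ := by rw [← h1, hu]; group
    have hu2 : u ^ 2 ^ 1 = 1 := by
      rw [pow_one, pow_two, hu, show c * z * c⁻¹ * (c * z * c⁻¹) = c * (z * z) * c⁻¹ by group, L.zz]; group
    rcases L.two_t hv hv11 (hucen t (mem_cent.2 (mem_cent.1 s.2.1).symm))
      (hucen v (mem_cent.2 (mem_cent.1 s.2.2).symm)) ⟨1, hu2⟩ with e | e
    · exact L.z_ne (by rw [hu, mul_inv_eq_one, mul_eq_left] at e; exact e)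
    · exact L.hzt (isConj_iff.2 ⟨c, e⟩)
  · obtain ⟨y, hy⟩ := exists_prime_orderOf_dvd_card' (G := ↥W) q (hm ▸ Dvd.dvd.mul_left hqm _)
    rw [← Subgroup.orderOf_coe] at hy
    have h := Subgroup.orderOf_dvd_natCard (cent (y : G)) (x := v) (mem_cent.2 (mem_cent.1 y.2.2).symm)
    rw [hv11] at h
    rcases hq57 with rfl | rfl
    · rw [L.five _ hy] at h; norm_num at h
    · rw [L.seven _ hy] at h; norm_num at h

end Loc

namespace Base

variable {x : G} {O : Subgroup G} (B : Base z π t E x O)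
include B

theorem not_comm_x {v y : G} {p : ℕ} (hp : p ∈ big) (hy : orderOf y = p) (hv : IsConj x v)
    (hc : y ∈ cent v) : False := by
  have h := Subgroup.orderOf_dvd_natCard _ hc
  rw [hy, card_cent_of_isConj hv, B.core.card_cent] at h
  simp only [big, List.mem_cons, List.not_mem_nil, or_false] at hp
  rcases hp with rfl | rfl | rfl | rfl | rfl <;> norm_num at h

theorem cent_eq_of_mem {v : G} (hv : v ∈ Subgroup.zpowers x) (hv1 : v ≠ 1) : cent v = cent x := by
  haveI := Fact.mk (show Nat.Prime 11 by norm_num)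
  have hgen : Subgroup.zpowers v = Subgroup.zpowers x := Subgroup.eq_of_le_of_card_ge (Subgroup.zpowers_le.2 hv) (by
    rw [Nat.card_zpowers, Nat.card_zpowers, B.ox]
    have hd : orderOf v ∣ 11 := B.ox ▸ (Nat.card_zpowers x ▸ Subgroup.orderOf_dvd_natCard _ hv)
    rcases (Nat.dvd_prime (show Nat.Prime 11 by norm_num)).1 hd with e | e
    · exact absurd (orderOf_eq_one_iff.1 e) hv1
    · omega)
  unfold cent
  rw [← Subgroup.centralizer_closure, ← Subgroup.zpowers_eq_closure, hgen, Subgroup.zpowers_eq_closure,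
    Subgroup.centralizer_closure]

theorem exists_sylow_conj {v : G} {k : ℕ} (hv : orderOf v = 11 ^ k) : ∃ c : G, c * v * c⁻¹ ∈ O := by
  haveI := Fact.mk (show Nat.Prime 11 by norm_num)
  let S : Sylow 11 G := Sylow.ofCard O (by
    rw [B.core.card, B.loc.card, show (86775571046077562880 : ℕ) = 11 ^ 3 * 65195770883604480 by norm_num,
      Nat.factorization_mul (by norm_num) (by norm_num), Finsupp.add_apply, Nat.factorization_pow]
    simp [Nat.Prime.factorization_self (show Nat.Prime 11 by norm_num),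
      Nat.factorization_eq_zero_of_not_dvd (show ¬ 11 ∣ 65195770883604480 by norm_num)])
  obtain ⟨P, hP⟩ := (IsPGroup.of_card (G := ↥(Subgroup.zpowers v)) (n := k)
    (by rw [Nat.card_zpowers, hv])).exists_le_sylow
  obtain ⟨c, hc⟩ := MulAction.exists_smul_eq G P S
  have h1 : (S : Subgroup G) = (P : Subgroup G).map (MulAut.conj c).toMonoidHom := by
    rw [← hc, Sylow.coe_subgroup_smul]; rfl
  exact ⟨c, show c * v * c⁻¹ ∈ (S : Subgroup G) from h1.ge ⟨v, hP (Subgroup.mem_zpowers v), rfl⟩⟩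

/-- The case of an involution in the centralizer. -/
theorem not_comm_invol {v y i : G} {p : ℕ} (hp : p ∈ big) (hy : orderOf y = p) (hv : orderOf v = 11)
    (hi : orderOf i = 2) (hvi : v * i = i * v) (hc : y ∈ cent v) : False := by
  classical
  have L := B.loc
  have hpp := big_prime hp
  have hm : ∀ {c a : G}, a ∈ cent v → c * a * c⁻¹ ∈ cent (c * v * c⁻¹) := fun {c a} ha => by
    rw [cent_conj]; exact ⟨a, ha, rfl⟩
  rcases L.invol i hi with hz | ht
  · obtain ⟨c, hc'⟩ := isConj_iff.1 hz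
    have hv' : c * v * c⁻¹ ∈ cent z := mem_cent.2 (by
      rw [← hc']
      calc c * v * c⁻¹ * (c * i * c⁻¹) = c * (v * i) * c⁻¹ := by group
        _ = _ := by rw [hvi]; group)
    have hvo : orderOf (c * v * c⁻¹) = 11 := ((MulAut.conj c).orderOf_eq v).trans hv
    obtain ⟨d, hd⟩ := exists_conj_mem (G := ↥(cent z)) (p := 11) (by norm_num) (by rw [L.cz]; norm_num)
      (H := Subgroup.zpowers (⟨x, B.x_mem⟩ : ↥(cent z))) (by rw [Nat.card_zpowers, Subgroup.orderOf_mk, B.ox])
      (x := ⟨_, hv'⟩) (by rw [Subgroup.orderOf_mk, hvo])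
    obtain ⟨j, hj⟩ := Subgroup.mem_zpowers_iff.1 hd
    have hj' : x ^ j = ((d : G) * c) * v * ((d : G) * c)⁻¹ := by
      rw [show ((d : G) * c) * v * ((d : G) * c)⁻¹ = d * (c * v * c⁻¹) * (d : G)⁻¹ by group]
      simpa using congrArg Subtype.val hj
    have he : cent (((d : G) * c) * v * ((d : G) * c)⁻¹) = cent x := by
      rw [← hj']
      refine B.cent_eq_of_mem (Subgroup.zpow_mem_zpowers x j) fun e => ?_
      rw [e, eq_comm, mul_inv_eq_one, mul_eq_left] at hj'
      rw [hj', orderOf_one] at hv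
      omega
    exact B.not_comm_x hp (y := ((d : G) * c) * y * ((d : G) * c)⁻¹)
      (((MulAut.conj ((d : G) * c)).orderOf_eq y).trans hy) (v := x) (IsConj.refl x) (he ▸ hm hc)
  obtain ⟨c, hc'⟩ := isConj_iff.1 ht
  set v' := c * v * c⁻¹ with hv'def
  set y' := c * y * c⁻¹
  have hv' : v' ∈ cent t := mem_cent.2 (by
    rw [← hc']
    calc c * v * c⁻¹ * (c * i * c⁻¹) = c * (v * i) * c⁻¹ := by group
      _ = _ := by rw [hvi, hv'def]; group)
  have hvo : orderOf v' = 11 := ((MulAut.conj c).orderOf_eq v).trans hv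
  have hyo : orderOf y' = p := ((MulAut.conj c).orderOf_eq y).trans hy
  have hy'v : y' ∈ cent v' := hm hc
  have htt : t * t = 1 := by rw [← pow_two, ← L.ot, pow_orderOf_eq_one]
  have htv : t ∈ cent v' := mem_cent.2 (mem_cent.1 hv').symm
  obtain ⟨N, C⟩ := exists_oddCore L.ot hvo htv fun w hwv hwt hw =>
    L.two_t hv' hvo hwt hwv ⟨1, by rw [pow_one, pow_two, hw]⟩
  have hW : Nat.card ↥(cent t ⊓ cent v') = 22 := L.card_tv hv' hvo
  have hVW : Subgroup.zpowers v' ≤ cent t ⊓ cent v' := Subgroup.zpowers_le.2 ⟨hv', mem_cent.2 rfl⟩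
  have hfix : N ⊓ cent t = Subgroup.zpowers v' := by
    refine (Subgroup.eq_of_le_of_card_ge (Subgroup.zpowers_le.2 (show v' ∈ N ⊓ cent t from ⟨C.mem, hv'⟩)) ?_).symm
    rw [Nat.card_zpowers, hvo]
    refine Nat.le_of_dvd (by norm_num) (Nat.Coprime.dvd_of_dvd_mul_left
      (Nat.coprime_two_right.2 (C.odd.of_dvd_nat (Subgroup.card_dvd_of_le inf_le_left))) ?_)
    rw [show 2 * 11 = 22 by norm_num, ← hW]
    exact Subgroup.card_dvd_of_le fun a ha => ⟨ha.2, C.le ha.1⟩
  have hsq : ∀ g ∈ cent v', g * g ∈ N := by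
    intro g hg
    obtain ⟨o, ho, hog⟩ := C.split htt hg
    set h := o * g
    have hh : h ∈ cent t ⊓ cent v' := ⟨hog, mul_mem (C.le ho) hg⟩
    haveI : ((Subgroup.zpowers v').subgroupOf (cent t ⊓ cent v')).Normal := ⟨fun a ha b => by
      obtain ⟨j, hj⟩ := Subgroup.mem_zpowers_iff.1 (Subgroup.mem_subgroupOf.1 ha)
      rw [Subgroup.mem_subgroupOf]
      show (b : G) * a * (b : G)⁻¹ ∈ Subgroup.zpowers v'
      rw [← hj, ((show Commute (b : G) v' from mem_cent.1 b.2.2).zpow_right j).eq, mul_inv_cancel_right]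
      exact Subgroup.zpow_mem_zpowers v' j⟩
    have hidx : ((Subgroup.zpowers v').subgroupOf (cent t ⊓ cent v')).index = 2 := by
      have h1 := ((Subgroup.zpowers v').subgroupOf (cent t ⊓ cent v')).card_mul_index
      rw [Nat.card_congr (Subgroup.subgroupOfEquivOfLe hVW).toEquiv, Nat.card_zpowers, hvo, hW] at h1
      omega
    have h2 := ((Subgroup.zpowers v').subgroupOf (cent t ⊓ cent v')).pow_index_mem ⟨h, hh⟩
    rw [hidx, Subgroup.mem_subgroupOf] at h2
    have h3 : h * h ∈ N := Subgroup.zpowers_le.2 C.mem (by simpa [pow_two] using h2)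
    have e : g * g = o⁻¹ * (h * o⁻¹ * h⁻¹) * (h * h) := by simp only [h]; group
    rw [e]
    exact N.mul_mem (N.mul_mem (N.inv_mem ho) (C.normal h hh.2 _ (N.inv_mem ho))) h3
  have hoddmem : ∀ g ∈ cent v', Odd (orderOf g) → g ∈ N := fun g hg hgo => by
    obtain ⟨k, hk⟩ := hgo
    have e : g = (g * g) ^ (k + 1) := by
      rw [← pow_two, ← pow_mul, show 2 * (k + 1) = 2 * k + 1 + 1 by ring, ← hk, pow_succ, pow_orderOf_eq_one,
        one_mul]
    rw [e]
    exact N.pow_mem (hsq g hg) _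
  obtain ⟨d, hd⟩ := B.exists_sylow_conj (k := 1) (by rw [pow_one]; exact hvo)
  set u := d⁻¹ * x * d with hu
  have huv : u ∈ cent v' := mem_cent.2 (by
    calc u * v' = d⁻¹ * (x * (d * v' * d⁻¹)) * d := by rw [hu]; group
      _ = d⁻¹ * ((d * v' * d⁻¹) * x) * d := by rw [B.x_central hd]
      _ = _ := by rw [hu]; group)
  have huo : orderOf u = 11 := by rw [hu, ← B.ox]; simpa using (MulAut.conj d⁻¹).orderOf_eq x
  have hp2 : p ≠ 2 := by rintro rfl; simp [big] at hp
  have huy := C.central htt hfix htv hvo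
    (hoddmem y' hy'v (by rw [hyo]; exact hpp.odd_of_ne_two hp2)) (n := p) (by rw [← hyo, pow_orderOf_eq_one])
    ((Nat.coprime_primes hpp (by norm_num)).2 (by rintro rfl; simp [big] at hp))
    (hoddmem u huv (by rw [huo]; decide))
  exact B.not_comm_x hp hyo (v := u) (isConj_iff.2 ⟨d⁻¹, by rw [hu, inv_inv]⟩) (mem_cent.2 huy)

/-- No element of order eleven commutes with an element of large prime order. -/
theorem no_eleven {v y : G} {p : ℕ} (hp : p ∈ big) (hy : orderOf y = p) (hv : orderOf v = 11)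
    (hc : y ∈ cent v) : False := by
  classical
  have L := B.loc
  have hpp := big_prime hp
  haveI := Fact.mk (show Nat.Prime 11 by norm_num)
  -- move `v` into `O`
  obtain ⟨c0, hvO⟩ := B.exists_sylow_conj (k := 1) (by rw [pow_one]; exact hv)
  suffices key : ∀ v y : G, v ∈ O → orderOf v = 11 → orderOf y = p → y ∈ cent v → False from
    key _ (c0 * y * c0⁻¹) hvO (((MulAut.conj c0).orderOf_eq v).trans hv) (((MulAut.conj c0).orderOf_eq y).trans hy)
      (by rw [cent_conj]; exact ⟨y, hc, rfl⟩)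
  intro v y hvO hv hy hc
  have hzX : z ∈ cent x := B.z_mem
  by_cases hvx : v ∈ Subgroup.zpowers x
  · have h1 : v ≠ 1 := fun e => by rw [e, orderOf_one] at hv; omega
    exact B.not_comm_x hp hy (v := x) (IsConj.refl x) (B.cent_eq_of_mem hvx h1 ▸ hc)
  obtain ⟨w, hw, hf⟩ := B.exists_inverted hvO
  have hf1 : v * w ≠ 1 := fun e => hvx (by rw [mul_eq_one_iff_eq_inv] at e; rw [e]; exact inv_mem hw)
  obtain ⟨i, hi, hfi⟩ := B.inverted_invol hf hf1
  by_cases hcentral : ∀ b ∈ O, b * v = v * b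
  swap
  · push Not at hcentral
    obtain ⟨b, hb, hbv⟩ := hcentral
    have hcm := B.core.oddCore.commutator_mem L.zz B.core.fix hzX hb hvO
    obtain ⟨j, hj⟩ := Subgroup.mem_zpowers_iff.1 hcm
    set e := x ^ j
    have hbe : b * v * b⁻¹ = e * v := by rw [hj]; group
    have he1 : e ≠ 1 := fun h => hbv (by rw [h, one_mul, mul_inv_eq_iff_eq_mul] at hbe; exact hbe)
    have hgen : Subgroup.zpowers e = Subgroup.zpowers x := Subgroup.eq_of_le_of_card_ge
      (Subgroup.zpowers_le.2 (Subgroup.zpow_mem_zpowers x j)) (by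
        rw [Nat.card_zpowers, Nat.card_zpowers, B.ox, orderOf_eq_prime (p := 11) (by
          rw [← zpow_natCast, ← zpow_mul, mul_comm, zpow_mul, zpow_natCast, ← B.ox, pow_orderOf_eq_one, one_zpow]) he1])
    obtain ⟨k, hk⟩ := (isOfFinOrder_of_finite e).mem_powers_iff_mem_zpowers.2 (hgen.ge hw)
    have heb : Commute e b := ((show Commute b x from B.x_central hb).zpow_right j).symm
    have hpow : ∀ k : ℕ, b ^ k * v * (b ^ k)⁻¹ = e ^ k * v := by
      intro k
      induction k with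
      | zero => simp
      | succ k ih =>
        calc b ^ (k + 1) * v * (b ^ (k + 1))⁻¹ = b * (b ^ k * v * (b ^ k)⁻¹) * b⁻¹ := by rw [pow_succ']; group
          _ = b * e ^ k * v * b⁻¹ := by rw [ih]; group
          _ = e ^ k * (b * v * b⁻¹) := by rw [(heb.pow_left k).symm.eq]; group
          _ = _ := by rw [hbe, pow_succ, mul_assoc]
    have hbk : b ^ k * v * (b ^ k)⁻¹ = v * w := by
      rw [hpow, ← show e ^ k = w from hk]
      exact (((show Commute v x from B.x_central hvO).zpow_right j).pow_right k).symm.eq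
    refine B.not_comm_invol hp (y := b ^ k * y * (b ^ k)⁻¹) (((MulAut.conj (b ^ k)).orderOf_eq y).trans hy)
      (v := v * w) (hbk ▸ ((MulAut.conj (b ^ k)).orderOf_eq v).trans hv) hi hfi ?_
    rw [← hbk, cent_conj]
    exact ⟨y, hc, rfl⟩
  -- now `v` is central in `O`
  by_cases heven : 2 ∣ Nat.card (cent v)
  · obtain ⟨i, hi⟩ := exists_prime_orderOf_dvd_card' (G := ↥(cent v)) 2 (hp := ⟨Nat.prime_two⟩) heven
    exact B.not_comm_invol hp hy hv (i := i) (by rw [Subgroup.orderOf_coe, hi]) (mem_cent.1 i.2).symm hc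
  have hab : ∀ a ∈ O, ∀ b ∈ O, a * b = b * a := by
    have hxc : (⟨x, B.core.mem⟩ : ↥O) ∈ Subgroup.center ↥O :=
      Subgroup.mem_center_iff.2 fun g => Subtype.ext (B.x_central g.2)
    have hvc : (⟨v, hvO⟩ : ↥O) ∈ Subgroup.center ↥O :=
      Subgroup.mem_center_iff.2 fun g => Subtype.ext (hcentral g g.2)
    have hd : Nat.card (Subgroup.center ↥O) ∣ 11 ^ 3 := by
      rw [show (11 : ℕ) ^ 3 = Nat.card O by rw [B.core.card]; norm_num]
      exact Subgroup.card_subgroup_dvd_card _
    obtain ⟨k, hk, hkc⟩ := (Nat.dvd_prime_pow (show Nat.Prime 11 by norm_num)).1 hd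
    have hk2 : 2 ≤ k := by
      by_contra hlt
      have heq : Subgroup.zpowers (⟨x, B.core.mem⟩ : ↥O) = Subgroup.center ↥O :=
        Subgroup.eq_of_le_of_card_ge (Subgroup.zpowers_le.2 hxc) (by
          rw [hkc, Nat.card_zpowers, Subgroup.orderOf_mk, B.ox]; interval_cases k <;> norm_num)
      obtain ⟨j, hj⟩ := Subgroup.mem_zpowers_iff.1 (heq.ge hvc)
      exact hvx (Subgroup.mem_zpowers_iff.2 ⟨j, by simpa using congrArg Subtype.val hj⟩)
    have hq : IsCyclic (↥O ⧸ Subgroup.center ↥O) := by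
      have h1 := (Subgroup.center ↥O).card_mul_index
      rw [hkc, B.core.card, Subgroup.index_eq_card] at h1
      interval_cases k
      · exact isCyclic_of_prime_card (p := 11) (by omega)
      · haveI : Subsingleton (↥O ⧸ Subgroup.center ↥O) := (Nat.card_eq_one_iff_unique.1 (by omega)).1
        infer_instance
    intro a ha b hb
    exact congrArg Subtype.val (@commutative_of_cyclic_center_quotient _ _ _ _ hq (QuotientGroup.mk' (Subgroup.center ↥O))
      (by rw [QuotientGroup.ker_mk']) ⟨a, ha⟩ ⟨b, hb⟩)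
  -- transfer
  set C := cent v with hC
  have hOC : O ≤ C := fun a ha => mem_cent.2 (hab a ha v hvO)
  have hfac : (Nat.card ↥C).factorization 11 = 3 := by
    refine le_antisymm ?_ ((Nat.Prime.pow_dvd_iff_le_factorization (show Nat.Prime 11 by norm_num) Nat.card_pos.ne').1
      (show 11 ^ 3 ∣ Nat.card ↥C by rw [show (11 : ℕ) ^ 3 = Nat.card O by rw [B.core.card]; norm_num]; exact Subgroup.card_dvd_of_le hOC))
    by_contra hlt
    have h : 11 ^ 4 ∣ Nat.card G := dvd_trans
      ((Nat.Prime.pow_dvd_iff_le_factorization (show Nat.Prime 11 by norm_num) Nat.card_pos.ne').2 (by omega))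
      C.card_subgroup_dvd_card
    rw [L.card] at h
    norm_num at h
  have hOc : Nat.card ↥(O.subgroupOf C) = 11 ^ 3 := by
    rw [Nat.card_congr (Subgroup.subgroupOfEquivOfLe hOC).toEquiv, B.core.card]; norm_num
  let P : Sylow 11 ↥C := Sylow.ofCard (O.subgroupOf C) (by rw [hOc, hfac])
  have hN : Subgroup.normalizer ((P : Subgroup ↥C) : Set ↥C) ≤ Subgroup.centralizer ((P : Subgroup ↥C) : Set ↥C) := by
    show Subgroup.normalizer (O.subgroupOf C : Set ↥C) ≤ Subgroup.centralizer (O.subgroupOf C : Set ↥C)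
    set N' := Subgroup.normalizer (O.subgroupOf C : Set ↥C)
    have hON : O.subgroupOf C ≤ N' := Subgroup.le_normalizer
    have hpr : ∀ q, q.Prime → q ∣ Nat.card N' → q = 11 := by
      intro q hq hqN
      haveI := Fact.mk hq
      obtain ⟨g, hg⟩ := exists_prime_orderOf_dvd_card' (G := ↥N') q hqN
      have hgG : orderOf ((g : ↥C) : G) = q := by rw [Subgroup.orderOf_coe, Subgroup.orderOf_coe, hg]
      have hgv : v ∈ cent ((g : ↥C) : G) := mem_cent.2 (mem_cent.1 (g : ↥C).2).symm
      have hqC : q ∣ Nat.card ↥C := hqN.trans (Subgroup.card_subgroup_dvd_card _)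
      by_contra hne
      have hq2 : q ≠ 2 := fun e => heven (e ▸ hqC)
      have hq3 : q ≠ 3 := by
        rintro rfl
        obtain ⟨d, hd⟩ := isConj_iff.1 (L.three _ hgG)
        refine heven ?_
        rw [← L.oz, ← (MulAut.conj d).orderOf_eq z]
        refine Subgroup.orderOf_dvd_natCard C (mem_cent.2 ?_)
        rw [← hd, cent_conj, Subgroup.mem_map_equiv, MulAut.conj_symm_apply] at hgv
        have h1 := mem_cent.1 (L.cpi hgv)
        rw [MulAut.conj_apply]
        calc d * z * d⁻¹ * v = d * (z * (d⁻¹ * v * d)) * d⁻¹ := by group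
          _ = _ := by rw [← h1]; group
      have hq5 : q ≠ 5 := by
        rintro rfl
        have h := Subgroup.orderOf_dvd_natCard _ hgv
        rw [hv, L.five _ hgG] at h; norm_num at h
      have hq7 : q ≠ 7 := by
        rintro rfl
        have h := Subgroup.orderOf_dvd_natCard _ hgv
        rw [hv, L.seven _ hgG] at h; norm_num at h
      have hqb : q ∈ big := by
        have hd : q ∣ 2 ^ 21 * 3 ^ 3 * 5 * 7 * 11 ^ 3 * 23 * 29 * 31 * 37 * 43 := by
          rw [show (2 ^ 21 * 3 ^ 3 * 5 * 7 * 11 ^ 3 * 23 * 29 * 31 * 37 * 43 : ℕ) = Nat.card G by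
            rw [L.card]; norm_num]
          exact hgG ▸ orderOf_dvd_natCard _
        have one : ∀ {r n : ℕ}, r.Prime → q ∣ r ^ n → q = r := fun {r n} hr h =>
          (Nat.prime_dvd_prime_iff_eq hq hr).1 (hq.dvd_of_dvd_pow h)
        simp only [big, List.mem_cons, List.not_mem_nil, or_false]
        rcases hq.dvd_mul.1 hd with hd | hd
        rotate_left; · exact Or.inr (Or.inr (Or.inr (Or.inr ((Nat.prime_dvd_prime_iff_eq hq (by norm_num)).1 hd))))
        rcases hq.dvd_mul.1 hd with hd | hd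
        rotate_left; · exact Or.inr (Or.inr (Or.inr (Or.inl ((Nat.prime_dvd_prime_iff_eq hq (by norm_num)).1 hd))))
        rcases hq.dvd_mul.1 hd with hd | hd
        rotate_left; · exact Or.inr (Or.inr (Or.inl ((Nat.prime_dvd_prime_iff_eq hq (by norm_num)).1 hd)))
        rcases hq.dvd_mul.1 hd with hd | hd
        rotate_left; · exact Or.inr (Or.inl ((Nat.prime_dvd_prime_iff_eq hq (by norm_num)).1 hd))
        rcases hq.dvd_mul.1 hd with hd | hd
        rotate_left; · exact Or.inl ((Nat.prime_dvd_prime_iff_eq hq (by norm_num)).1 hd)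
        rcases hq.dvd_mul.1 hd with hd | hd
        rotate_left; · exact absurd (one (by norm_num) hd) hne
        rcases hq.dvd_mul.1 hd with hd | hd
        rotate_left; · exact absurd ((Nat.prime_dvd_prime_iff_eq hq (by norm_num)).1 hd) hq7
        rcases hq.dvd_mul.1 hd with hd | hd
        rotate_left; · exact absurd ((Nat.prime_dvd_prime_iff_eq hq (by norm_num)).1 hd) hq5
        rcases hq.dvd_mul.1 hd with hd | hd
        · exact absurd (one Nat.prime_two hd) hq2
        · exact absurd (one Nat.prime_three hd) hq3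
      have hmod := CfsgLib.JFourLocal.card_inf_modEq (U := O) hq (fun u hu =>
        (Subgroup.mem_normalizer_iff.1 g.2 ⟨u, hOC hu⟩).1 hu) hgG
      rw [B.core.card] at hmod
      obtain ⟨k, hk, hkc⟩ := (Nat.dvd_prime_pow (show Nat.Prime 11 by norm_num)).1
        (show Nat.card ↥(O ⊓ cent ((g : ↥C) : G)) ∣ 11 ^ 3 by
          rw [show (11 : ℕ) ^ 3 = Nat.card O by rw [B.core.card]; norm_num]
          exact Subgroup.card_dvd_of_le inf_le_left)
      change 1331 % q = Nat.card ↥(O ⊓ cent ((g : ↥C) : G)) % q at hmod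
      rw [hkc] at hmod
      have hk3 : k = 3 := by
        simp only [big, List.mem_cons, List.not_mem_nil, or_false] at hqb
        rcases hqb with rfl | rfl | rfl | rfl | rfl <;> interval_cases k <;> simp at hmod ⊢
      have heq : O ⊓ cent ((g : ↥C) : G) = O := Subgroup.eq_of_le_of_card_ge inf_le_left
        (by rw [hkc, hk3, B.core.card]; norm_num)
      exact B.not_comm_x hqb hgG (v := x) (IsConj.refl x)
        (mem_cent.2 (mem_cent.1 (Subgroup.mem_inf.1 (heq.ge B.core.mem)).2).symm)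
    have hNd : Nat.card N' ∣ 11 ^ 3 := by
      have hG : Nat.card N' ∣ 11 ^ 3 * 65195770883604480 := by
        rw [show (11 ^ 3 * 65195770883604480 : ℕ) = Nat.card G by rw [L.card]; norm_num]
        exact (Subgroup.card_subgroup_dvd_card _).trans C.card_subgroup_dvd_card
      refine Nat.Coprime.dvd_of_dvd_mul_right (Nat.coprime_of_dvd fun q hq h1 h2 => ?_) hG
      rw [hpr q hq h1] at h2
      norm_num at h2
    have heq : O.subgroupOf C = N' := Subgroup.eq_of_le_of_card_ge hON
      (by rw [hOc]; exact Nat.le_of_dvd (by norm_num) hNd)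
    rw [← heq]
    intro a ha
    rw [Subgroup.mem_centralizer_iff]
    intro b hb
    exact Subtype.ext (hab b hb a ha)
  have hcompl := MonoidHom.ker_transferSylow_isComplement' P hN
  set R := (MonoidHom.transferSylow P hN).ker
  haveI : R.Normal := MonoidHom.normal_ker _
  have hyR : (⟨y, hc⟩ : ↥C) ∈ R := by
    rw [MonoidHom.mem_ker, ← orderOf_eq_one_iff]
    refine Nat.eq_one_of_dvd_coprimes (((Nat.coprime_primes hpp (show Nat.Prime 11 by norm_num)).2
      (by rintro rfl; simp [big] at hp)).symm.pow_left 3) ?_ (dvd_trans (orderOf_map_dvd _ _) (by rw [Subgroup.orderOf_mk, hy]))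
    exact (orderOf_dvd_natCard _).trans (dvd_of_eq hOc)
  have hRidx : R.index = 11 ^ 3 := by rw [hcompl.symm.index_eq_card]; exact hOc
  haveI := Fact.mk hpp
  have hpG : ¬ p ^ 2 ∣ Nat.card G := L.not_dvd_sq (by
    simp only [big, List.mem_cons, List.not_mem_nil, or_false] at hp
    rcases hp with rfl | rfl | rfl | rfl | rfl <;> simp)
  let Q : Sylow p ↥R := Sylow.ofCard (Subgroup.zpowers ⟨_, hyR⟩) (by
    rw [Nat.card_zpowers, Subgroup.orderOf_mk, Subgroup.orderOf_mk, hy]
    have hd : p ∣ Nat.card R := by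
      have := Subgroup.orderOf_dvd_natCard R hyR
      rwa [Subgroup.orderOf_mk, hy] at this
    rw [show (Nat.card ↥R).factorization p = 1 from le_antisymm (by
      by_contra hlt
      exact hpG (dvd_trans ((hpp.pow_dvd_iff_le_factorization Nat.card_pos.ne').2 (by omega))
        ((Subgroup.card_subgroup_dvd_card R).trans C.card_subgroup_dvd_card)))
      ((hpp.dvd_iff_one_le_factorization Nat.card_pos.ne').1 hd), pow_one])
  have hsup := Sylow.normalizer_sup_eq_top Q
  have hQmap : (Q : Subgroup ↥R).map R.subtype = Subgroup.zpowers ⟨y, hc⟩ := by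
    show (Subgroup.zpowers (⟨⟨y, hc⟩, hyR⟩ : ↥R)).map R.subtype = _
    rw [MonoidHom.map_zpowers]; rfl
  rw [hQmap] at hsup
  set NP := Subgroup.normalizer ((Subgroup.zpowers (⟨y, hc⟩ : ↥C)) : Set ↥C)
  have h1331 : 11 ^ 3 ∣ Nat.card NP := by
    rw [← hRidx, ← Subgroup.relIndex_top_right R, ← hsup, Subgroup.relIndex_sup_right]
    exact Subgroup.relIndex_dvd_card _ _
  obtain ⟨S, hS⟩ := Sylow.exists_subgroup_card_pow_prime (G := ↥NP) 11 (n := 3) h1331
  have hSC : Nat.card ↥(S.map NP.subtype) = 11 ^ 3 := by rw [Subgroup.card_map_of_injective NP.subtype_injective, hS]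
  let S' : Sylow 11 ↥C := Sylow.ofCard (S.map NP.subtype) (by rw [hSC, hfac])
  obtain ⟨d, hd⟩ := MulAction.exists_smul_eq ↥C S' P
  set y2 := (d : G) * y * (d : G)⁻¹ with hy2
  have hy2o : orderOf y2 = p := ((MulAut.conj (d : G)).orderOf_eq y).trans hy
  have hnorm : ∀ a ∈ O, a * y2 * a⁻¹ ∈ Subgroup.zpowers y2 := by
    intro a ha
    have h1 : (⟨a, hOC ha⟩ : ↥C) ∈ (P : Subgroup ↥C) := Subgroup.mem_subgroupOf.2 ha
    rw [← hd, Sylow.coe_subgroup_smul] at h1
    obtain ⟨b, hb, hbe⟩ := h1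
    obtain ⟨b', hb', rfl⟩ := hb
    have hba : (d : G) * ((b' : ↥C) : G) * (d : G)⁻¹ = a := congrArg Subtype.val hbe
    obtain ⟨k, hk⟩ := Subgroup.mem_zpowers_iff.1
      ((Subgroup.mem_normalizer_iff.1 b'.2 ⟨y, hc⟩).1 (Subgroup.mem_zpowers _))
    have hk' : y ^ k = ((b' : ↥C) : G) * y * ((b' : ↥C) : G)⁻¹ := by simpa using congrArg Subtype.val hk
    refine Subgroup.mem_zpowers_iff.2 ⟨k, ?_⟩
    rw [hy2, ← MulAut.conj_apply, ← map_zpow, MulAut.conj_apply, hk', ← hba]
    simp only [MulAut.conj_apply]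
    group
  set D := O ⊓ cent y2 with hD
  have hD121 : 121 ≤ Nat.card D := by
    have horb := CfsgLib.JFour.card_orbit_mul O y2
    rw [B.core.card] at horb
    set o := Set.ncard {u : G | ∃ h ∈ O, h * y2 * h⁻¹ = u}
    have hop : o ≤ 43 := by
      refine (Set.ncard_le_ncard (t := (Subgroup.zpowers y2 : Set G)) ?_ (Set.toFinite _)).trans ?_
      · rintro _ ⟨h, hh, rfl⟩; exact hnorm h hh
      · rw [← Nat.card_coe_set_eq]
        show Nat.card ↥(Subgroup.zpowers y2) ≤ 43
        rw [Nat.card_zpowers, hy2o]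
        simp only [big, List.mem_cons, List.not_mem_nil, or_false] at hp
        rcases hp with rfl | rfl | rfl | rfl | rfl <;> norm_num
    change o * Nat.card D = 1331 at horb
    obtain ⟨k, hk, hkc⟩ := (Nat.dvd_prime_pow (show Nat.Prime 11 by norm_num)).1
      (show Nat.card D ∣ 11 ^ 3 from ⟨o, by rw [mul_comm, horb]; norm_num⟩)
    by_contra hlt
    rw [hkc] at horb hlt
    interval_cases k <;> omega
  -- an inverted element in `D`
  obtain ⟨f, hfD, hf', hf1'⟩ : ∃ f ∈ D, f ∈ B.inverted ∧ f ≠ 1 := by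
    by_contra hno
    push Not at hno
    have hW : 121 ≤ B.inverted.ncard := by
      have hsur : Function.Surjective (fun q : ↥B.inverted × ↥(Subgroup.zpowers x) =>
          (⟨(q.1 : G) * q.2, O.mul_mem q.1.2.1 (Subgroup.zpowers_le.2 B.core.mem q.2.2)⟩ : ↥O)) := fun g => by
        obtain ⟨w, hw, hgw⟩ := B.exists_inverted g.2
        exact ⟨(⟨_, hgw⟩, ⟨w⁻¹, inv_mem hw⟩), Subtype.ext (mul_inv_cancel_right _ _)⟩
      have h := Nat.card_le_card_of_surjective _ hsur
      rw [Nat.card_prod, Nat.card_coe_set_eq, Nat.card_zpowers, B.ox, B.core.card] at h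
      omega
    let m : ↥D × ↥B.inverted → ↥O := fun q => ⟨(q.1 : G) * q.2, O.mul_mem q.1.2.1 q.2.2.1⟩
    have hm : Function.Injective m := by
      rintro ⟨⟨a, ha⟩, ⟨w, hw⟩⟩ ⟨⟨a', ha'⟩, ⟨w', hw'⟩⟩ h
      have h' : a * w = a' * w' := congrArg Subtype.val h
      have e : w' * w⁻¹ = a'⁻¹ * a := by
        calc w' * w⁻¹ = a'⁻¹ * (a' * w') * w⁻¹ := by group
          _ = _ := by rw [← h']; group
      have hinv : w' * w⁻¹ ∈ B.inverted := ⟨O.mul_mem hw'.1 (O.inv_mem hw.1), by
        rw [show z * (w' * w⁻¹) * z⁻¹ = (z * w' * z⁻¹) * (z * w * z⁻¹)⁻¹ by group, hw'.2, hw.2, inv_inv,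
          mul_inv_rev, inv_inv]
        exact hab _ (O.inv_mem hw'.1) _ hw.1⟩
      have h1 := hno _ (e ▸ D.mul_mem (D.inv_mem ha') ha) hinv
      have hww : w' = w := mul_inv_eq_one.1 h1
      subst hww
      simp [mul_right_cancel h']
    have h := Nat.card_le_card_of_injective m hm
    rw [Nat.card_prod, Nat.card_coe_set_eq, B.core.card] at h
    have := Nat.mul_le_mul hD121 hW
    omega
  obtain ⟨i', hi', hfi'⟩ := B.inverted_invol hf' hf1'
  have hf1331 : f ^ 11 ^ 3 = 1 := by
    rw [show (11 : ℕ) ^ 3 = 1331 by norm_num]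
    exact (B.mem_O_iff (B.core.le hfD.1)).1 hfD.1
  obtain ⟨k, -, hk⟩ := (Nat.dvd_prime_pow (show Nat.Prime 11 by norm_num)).1 (orderOf_dvd_of_pow_eq_one hf1331)
  have hk0 : k ≠ 0 := fun e => hf1' (orderOf_eq_one_iff.1 (by rw [hk, e, pow_zero]))
  have hd11 : 11 ∣ orderOf f := hk ▸ dvd_pow_self 11 hk0
  refine B.not_comm_invol hp hy2o (v := f ^ (orderOf f / 11)) (orderOf_pow_orderOf_div (orderOf_pos f).ne' hd11)
    hi' ((show Commute f i' from hfi').pow_left _).eq (mem_cent.2 ?_)
  exact ((show Commute y2 f from (mem_cent.1 hfD.2).symm).pow_right _).eq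

end Base

end CfsgLib.JFourPrime
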